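import Cfsg.Agent.HexRec.Cubic

/-!
# Coordinates on a hexagonal 2-group

`Tup F K` = normal forms `x1(a1) x2(a2) x3(a3) x4(a4) x5(a5) x6(a6)`; `Cubic.mul` = the product law.
-/

set_option autoImplicit false

namespace Cfsg.Agent.HexRec

/-- coordinates -/
@[ext] structure Tup (F K : Type*) where
  a1 : K
  a2 : F
  a3 : K
  a4 : F
  a5 : K
  a6 : F

namespace Cubic

variable {F K : Type*} [Field F] [Field K] [Algebra F K] (C : Cubic F K)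

/-- the product law -/
def mul (a b : Tup F K) : Tup F K where
  a1 := a.a1 + b.a1
  a2 := a.a2 + b.a2 + a.a6 * C.N b.a1 + C.T b.a1 a.a3 + C.T (C.sh b.a1) a.a5
  a3 := a.a3 + b.a3 + a.a6 • C.sh b.a1 + C.cr b.a1 a.a5
  a4 := a.a4 + b.a4 + a.a6 ^ 2 * C.N b.a1 + C.T b.a1 (C.sh a.a5) + a.a6 * b.a2 +
    a.a6 * C.T (C.sh b.a1) a.a5 + C.T b.a3 a.a5 + a.a6 * C.T b.a3 b.a1
  a5 := a.a5 + b.a5 + a.a6 • b.a1
  a6 := a.a6 + b.a6

end Cubic

/-- coordinates on a group `S` -/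
structure Coord {F K : Type*} [Field F] [Field K] [Algebra F K] (C : Cubic F K) (S : Type*) [Group S] where
  e : S ≃ Tup F K
  map_mul : ∀ g h : S, e (g * h) = C.mul (e g) (e h)

namespace Coord

variable {F K : Type*} [Field F] [Field K] [Algebra F K] {C : Cubic F K} {S : Type*} [Group S]
  (E : Coord C S)

theorem mul_a1 (g h : S) : (E.e (g * h)).a1 = (E.e g).a1 + (E.e h).a1 := by rw [E.map_mul]; rfl
theorem mul_a6 (g h : S) : (E.e (g * h)).a6 = (E.e g).a6 + (E.e h).a6 := by rw [E.map_mul]; rfl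
theorem mul_a5 (g h : S) : (E.e (g * h)).a5 = (E.e g).a5 + (E.e h).a5 + (E.e g).a6 • (E.e h).a1 := by
  rw [E.map_mul]; rfl
theorem mul_a3 (g h : S) : (E.e (g * h)).a3 = (E.e g).a3 + (E.e h).a3 + (E.e g).a6 • C.sh (E.e h).a1 +
    C.cr (E.e h).a1 (E.e g).a5 := by rw [E.map_mul]; rfl
theorem mul_a2 (g h : S) : (E.e (g * h)).a2 = (E.e g).a2 + (E.e h).a2 + (E.e g).a6 * C.N (E.e h).a1 +
    C.T (E.e h).a1 (E.e g).a3 + C.T (C.sh (E.e h).a1) (E.e g).a5 := by rw [E.map_mul]; rfl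
theorem mul_a4 (g h : S) : (E.e (g * h)).a4 = (E.e g).a4 + (E.e h).a4 + (E.e g).a6 ^ 2 * C.N (E.e h).a1 +
    C.T (E.e h).a1 (C.sh (E.e g).a5) + (E.e g).a6 * (E.e h).a2 +
    (E.e g).a6 * C.T (C.sh (E.e h).a1) (E.e g).a5 + C.T (E.e h).a3 (E.e g).a5 +
    (E.e g).a6 * C.T (E.e h).a3 (E.e h).a1 := by rw [E.map_mul]; rfl

theorem ext {g h : S} (h1 : (E.e g).a1 = (E.e h).a1) (h2 : (E.e g).a2 = (E.e h).a2)
    (h3 : (E.e g).a3 = (E.e h).a3) (h4 : (E.e g).a4 = (E.e h).a4) (h5 : (E.e g).a5 = (E.e h).a5)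
    (h6 : (E.e g).a6 = (E.e h).a6) : g = h := E.e.injective (Tup.ext h1 h2 h3 h4 h5 h6)

theorem one_a1 : (E.e 1).a1 = 0 := by
  have := E.mul_a1 1 1
  rw [mul_one] at this
  simpa using this
theorem one_a6 : (E.e 1).a6 = 0 := by
  have := E.mul_a6 1 1
  rw [mul_one] at this
  simpa using this
theorem one_a5 : (E.e 1).a5 = 0 := by
  have := E.mul_a5 1 1
  rw [mul_one, E.one_a6, zero_smul, add_zero] at this
  simpa using this
theorem one_a3 : (E.e 1).a3 = 0 := by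
  have := E.mul_a3 1 1
  rw [mul_one, E.one_a6, E.one_a1, E.one_a5, zero_smul, C.cr_zero_left, add_zero, add_zero] at this
  simpa using this
theorem one_a2 : (E.e 1).a2 = 0 := by
  have := E.mul_a2 1 1
  rw [mul_one, E.one_a6, E.one_a1, E.one_a5, E.one_a3, C.T_zero_left, C.T_zero_right,
    add_zero, add_zero, zero_mul, add_zero] at this
  simpa using this
theorem one_a4 : (E.e 1).a4 = 0 := by
  have := E.mul_a4 1 1
  rw [mul_one, E.one_a6, E.one_a1, E.one_a5, E.one_a3, E.one_a2] at this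
  simp only [C.T_zero_left, C.T_zero_right, mul_zero, add_zero] at this
  simpa using this

/-- the element with given coordinates -/
def el (a1 : K) (a2 : F) (a3 : K) (a4 : F) (a5 : K) (a6 : F) : S := E.e.symm ⟨a1, a2, a3, a4, a5, a6⟩

@[simp] theorem e_el (a1 : K) (a2 : F) (a3 : K) (a4 : F) (a5 : K) (a6 : F) :
    E.e (E.el a1 a2 a3 a4 a5 a6) = ⟨a1, a2, a3, a4, a5, a6⟩ := E.e.apply_symm_apply _

/-- root elements -/
def x1 (t : K) : S := E.el t 0 0 0 0 0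
def x2 (t : F) : S := E.el 0 t 0 0 0 0
def x3 (t : K) : S := E.el 0 0 t 0 0 0
def x4 (t : F) : S := E.el 0 0 0 t 0 0
def x5 (t : K) : S := E.el 0 0 0 0 t 0
def x6 (t : F) : S := E.el 0 0 0 0 0 t

theorem e_x1 (t : K) : E.e (E.x1 t) = ⟨t, 0, 0, 0, 0, 0⟩ := E.e_el ..
theorem e_x2 (t : F) : E.e (E.x2 t) = ⟨0, t, 0, 0, 0, 0⟩ := E.e_el ..
theorem e_x3 (t : K) : E.e (E.x3 t) = ⟨0, 0, t, 0, 0, 0⟩ := E.e_el ..
theorem e_x4 (t : F) : E.e (E.x4 t) = ⟨0, 0, 0, t, 0, 0⟩ := E.e_el ..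
theorem e_x5 (t : K) : E.e (E.x5 t) = ⟨0, 0, 0, 0, t, 0⟩ := E.e_el ..
theorem e_x6 (t : F) : E.e (E.x6 t) = ⟨0, 0, 0, 0, 0, t⟩ := E.e_el ..

/-- normal form -/
theorem eq_prod (g : S) : g = E.x1 (E.e g).a1 * E.x2 (E.e g).a2 * E.x3 (E.e g).a3 * E.x4 (E.e g).a4 *
    E.x5 (E.e g).a5 * E.x6 (E.e g).a6 := by
  apply E.ext <;>
  simp [E.mul_a1, E.mul_a2, E.mul_a3, E.mul_a4, E.mul_a5, E.mul_a6, e_x1, e_x2, e_x3, e_x4, e_x5, e_x6,
    C.T_zero_left, C.T_zero_right, C.cr_zero_left, C.sh_zero, C.N_zero]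

end Coord

end Cfsg.Agent.HexRec
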