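import Cfsg.Agent.HexRec.Frame
import Cfsg.Agent.Hex.Defs

/-!
# The cubic data of a pair `(K, φ)`, and of the two cases `K = F`, `[K : F] = 3`
-/

set_option autoImplicit false

namespace Cfsg.Agent.HexRec.OfPair

open Cfsg.Agent.Hex.Defs

variable {F K : Type*} [Field F] [Field K] [Algebra F K]

/-- the cubic data of a pair `(K, φ)` -/
noncomputable def cubic {φ : K ≃ₐ[F] K} (h : CubicPair φ) : Cubic F K where
  tr :=
    { toFun := tr φ
      map_add' := fun a b => by
        apply (algebraMap F K).injective
        rw [map_add, algebraMap_tr h, algebraMap_tr h, algebraMap_tr h, map_add, map_add]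
        ring
      map_smul' := fun f a => by
        apply (algebraMap F K).injective
        rw [RingHom.id_apply, smul_eq_mul, map_mul, algebraMap_tr h, algebraMap_tr h, Algebra.smul_def, map_mul,
          map_mul, AlgEquiv.commutes, AlgEquiv.commutes]
        ring }
  sh := sh φ
  N := nm φ
  char2 := fun x => by
    apply (algebraMap F K).injective
    rw [map_add, map_zero, ← two_mul, h.two, zero_mul]
  sh_mul := fun a b => by unfold sh; rw [map_mul, map_mul]; ring
  sh_map := fun f => by unfold sh; rw [AlgEquiv.commutes, AlgEquiv.commutes]; ring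
  N_map := fun a => by rw [algebraMap_nm h]; unfold sh; ring
  sh_add := fun a b c => by
    unfold sh
    simp only [map_add]
    linear_combination (-(φ a * φ (φ a) + φ b * φ (φ b) + φ c * φ (φ c)) + φ a * φ (φ a) + φ b * φ (φ b) +
      φ c * φ (φ c)) * h.two
  tr_cr := fun a b c => by
    apply (algebraMap F K).injective
    change algebraMap F K (tr φ _) = algebraMap F K (tr φ _)
    rw [algebraMap_tr h, algebraMap_tr h]
    unfold sh
    simp only [map_add, map_mul, h.three]
    linear_combination (φ a * φ (φ a) * c - φ a * φ (φ b) * b - φ a * c * φ (φ c) + φ a * a * φ (φ c) -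
      φ b * φ (φ a) * b + φ b * φ (φ b) * c - φ b * φ (φ b) * a + φ b * b * φ (φ c) - φ (φ a) * c * φ c +
      φ (φ a) * a * φ c + φ (φ b) * b * φ c - a * φ c * φ (φ c)) * h.two
  N_add := fun a b => by
    apply (algebraMap F K).injective
    change algebraMap F K (nm φ _) = algebraMap F K (nm φ a + tr φ _ + tr φ _ + nm φ b)
    rw [map_add, map_add, map_add, algebraMap_nm h, algebraMap_nm h, algebraMap_nm h, algebraMap_tr h,
      algebraMap_tr h]
    unfold sh
    simp only [map_add, map_mul, h.three]
    ring
  tr_one := by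
    apply (algebraMap F K).injective
    change algebraMap F K (tr φ 1) = _
    rw [algebraMap_tr h, map_one, map_one, map_one]
    linear_combination h.two
  tr_nondeg := fun a ha => by
    by_contra hne
    have h1 := ha a⁻¹
    rw [mul_inv_cancel₀ hne] at h1
    have h2 : algebraMap F K (tr φ 1) = 0 := by
      rw [show tr φ 1 = 0 from h1, map_zero]
    rw [algebraMap_tr h, map_one, map_one] at h2
    apply one_ne_zero (α := K)
    linear_combination h2 - h.two

variable {φ : K ≃ₐ[F] K} (h : CubicPair φ)

theorem cubic_sh (t : K) : (cubic h).sh t = φ t * φ (φ t) := rfl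

theorem cubic_N (t : K) : (cubic h).N t = nm φ t := rfl

theorem cubic_tr (t : K) : (cubic h).tr t = tr φ t := rfl

theorem cubic_T (s t : K) : (cubic h).T s t = tr φ (s * t) := rfl

theorem cubic_cr (s t : K) : (cubic h).cr s t = cr φ s t := by
  unfold Cubic.cr
  simp only [cubic_sh, map_add]
  unfold cr
  linear_combination (φ s * φ (φ s) + φ t * φ (φ t)) * h.two

/-- the kernel of `s ↦ t × s` -/
theorem eq_smul_of_cr_eq_zero {t s : K} (ht : t ≠ 0) (hts : (cubic h).cr t s = 0) : ∃ f : F, s = f • t := by
  rw [cubic_cr] at hts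
  unfold cr at hts
  have h1 : φ t ≠ 0 := by simpa using ht
  have h2 : φ (φ t) ≠ 0 := by simpa using ht
  have h3 : φ (φ (s / t)) = φ (s / t) := by
    rw [map_div₀, map_div₀, div_eq_div_iff h2 h1]
    linear_combination hts - (φ (φ t) * φ s) * h.two
  obtain ⟨f, hf⟩ := h.fixed _ h3
  refine ⟨f, ?_⟩
  have h4 : s / t = algebraMap F K f := by
    apply φ.injective
    rw [AlgEquiv.commutes, hf]
  rw [Algebra.smul_def, ← h4, div_mul_cancel₀ _ ht]

/-- the map `s ↦ t × s` -/
noncomputable def crLin (t : K) : K →ₗ[F] K where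
  toFun s := cr φ t s
  map_add' a b := by unfold cr; rw [map_add, map_add]; ring
  map_smul' f a := by
    unfold cr
    rw [RingHom.id_apply, Algebra.smul_def, Algebra.smul_def, map_mul, map_mul, AlgEquiv.commutes,
      AlgEquiv.commutes]
    ring

/-- the image of `s ↦ t × s` -/
theorem exists_cr_eq [FiniteDimensional F K] {t u : K} (ht : t ≠ 0) (htu : (cubic h).T t u = 0) :
    ∃ s, (cubic h).cr t s = u := by
  set C := cubic h with hC
  let Tl : K →ₗ[F] F :=
    { toFun := fun u => C.T t u
      map_add' := fun a b => C.T_add_right t a b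
      map_smul' := fun f a => C.T_smul_right f t a }
  have hTs : LinearMap.range Tl = ⊤ := by
    rw [LinearMap.range_eq_top]
    intro f
    exact C.exists_T_eq ht f
  have hker : LinearMap.ker (crLin (φ := φ) t) ≤ Submodule.span F {t} := by
    intro s hs
    rw [LinearMap.mem_ker] at hs
    have : (cubic h).cr t s = 0 := by rw [cubic_cr]; exact hs
    obtain ⟨f, rfl⟩ := eq_smul_of_cr_eq_zero h ht this
    exact Submodule.smul_mem _ _ (Submodule.mem_span_singleton_self t)
  have hle : LinearMap.range (crLin (φ := φ) t) ≤ LinearMap.ker Tl := by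
    rintro _ ⟨s, rfl⟩
    rw [LinearMap.mem_ker]
    change C.T t (cr φ t s) = 0
    rw [← cubic_cr h, C.T_comm, C.T_cr_self']
  have h1 := LinearMap.finrank_range_add_finrank_ker Tl
  have h2 := LinearMap.finrank_range_add_finrank_ker (crLin (φ := φ) t)
  have h3 : Module.finrank F (LinearMap.ker (crLin (φ := φ) t)) ≤ 1 :=
    (Submodule.finrank_mono hker).trans (finrank_span_singleton ht).le
  have h4 : Module.finrank F (LinearMap.range Tl) = 1 := by
    rw [hTs, finrank_top, Module.finrank_self]
  have h5 : LinearMap.range (crLin (φ := φ) t) = LinearMap.ker Tl := by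
    apply Submodule.eq_of_le_of_finrank_le hle
    omega
  have h6 : u ∈ LinearMap.ker Tl := htu
  rw [← h5] at h6
  obtain ⟨s, hs⟩ := h6
  exact ⟨s, by rw [hC, cubic_cr]; exact hs⟩

/-! ### `K = F` -/

/-- `K = F` -/
theorem pair_one (h2 : (2 : F) = 0) : CubicPair (AlgEquiv.refl : F ≃ₐ[F] F) where
  two := h2
  three _ := rfl
  fixed t _ := ⟨t, rfl⟩

end Cfsg.Agent.HexRec.OfPair
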