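import Cfsg.Agent.HexRec.OfPair

/-!
# The fixed field of an automorphism of order three
-/

set_option autoImplicit false

namespace Cfsg.Agent.HexRec.FixedField

open Cfsg.Agent.Hex.Defs

universe u

variable {K : Type u} [Field K] (σ : K ≃+* K)

/-- the fixed field of `σ` -/
abbrev Fx : Subfield K := FixedPoints.subfield (Subgroup.zpowers (σ : RingAut K)) K

theorem mem_Fx {t : K} : t ∈ Fx σ ↔ σ t = t := by
  constructor
  · intro h
    exact h ⟨σ, Subgroup.mem_zpowers σ⟩
  · intro h g
    obtain ⟨g, hg⟩ := g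
    change g t = t
    have key : Subgroup.zpowers (σ : RingAut K) ≤ MulAction.stabilizer (RingAut K) t := by
      rw [Subgroup.zpowers_le]
      exact h
    exact key hg

/-- `σ` as an automorphism over its fixed field -/
noncomputable def phi : K ≃ₐ[Fx σ] K :=
  AlgEquiv.ofRingEquiv (f := σ) (fun r => (mem_Fx σ).1 r.2)

theorem phi_apply (t : K) : phi σ t = σ t := rfl

theorem phi_coe : ((phi σ : K ≃ₐ[Fx σ] K) : K ≃+* K) = σ := RingEquiv.ext fun _ => rfl

theorem cubicPair (h2 : (2 : K) = 0) (h3 : ∀ t, σ (σ (σ t)) = t) : CubicPair (phi σ) where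
  two := h2
  three := h3
  fixed t ht := ⟨⟨t, (mem_Fx σ).2 ht⟩, rfl⟩

theorem finrank_eq [Finite K] (h3 : ∀ t, σ (σ (σ t)) = t) (hne : ∃ t, σ t ≠ t) : Module.finrank (Fx σ) K = 3 := by
  have hfin : Finite (RingAut K) := Finite.of_injective (fun f : RingAut K => (f : K → K)) fun f g h =>
    RingEquiv.ext fun t => congrFun h t
  have h3p : Fact (Nat.Prime 3) := ⟨Nat.prime_three⟩
  have := Fintype.ofFinite (Subgroup.zpowers (σ : RingAut K))
  have h1 := FixedPoints.finrank_eq_card (Subgroup.zpowers (σ : RingAut K)) K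
  rw [h1, Fintype.card_eq_nat_card, Nat.card_zpowers]
  apply orderOf_eq_prime
  · ext t
    change σ (σ (σ t)) = t
    exact h3 t
  · rintro rfl
    obtain ⟨t, ht⟩ := hne
    exact ht rfl

end Cfsg.Agent.HexRec.FixedField
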