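import Cfsg.Agent.HexRec.OfPair
import Cfsg.Agent.Hexagon.Ident

/-!
# Coordinates and the relations `HexRel`

`hexRel_of_coord`: a group with coordinates over the cubic data of `(K, φ)` satisfies `SplitTwo.HexRel φ`.
`coord_of_hexRel`: conversely.
-/

set_option autoImplicit false
set_option linter.unusedSimpArgs false

namespace Cfsg.Agent.HexRec.OfHexRel

open Cfsg.Agent.Hex.Defs Cfsg.Agent.SplitTwo Cfsg.Agent.HexRec.Coord

variable {F K : Type*} [Field F] [Field K] [Algebra F K]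

/-- inverse of the inclusion `F → K` -/
noncomputable def inv (F : Type*) {K : Type*} [Field F] [Field K] [Algebra F K] (t : K) : F :=
  Function.invFun (algebraMap F K) t

theorem inv_algebraMap (f : F) : inv F (algebraMap F K f) = f :=
  Function.leftInverse_invFun (algebraMap F K).injective f

section general

variable {C : Cubic F K} {S : Type*} [Group S] (E : Coord C S)

theorem x1_add (s t : K) : E.x1 (s + t) = E.x1 s * E.x1 t := by
  apply E.ext <;> simp [mul_a1, mul_a2, mul_a3, mul_a4, mul_a5, mul_a6, e_x1, C.T_zero_left, C.T_zero_right,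
    C.sh_zero, C.cr_zero_right]
theorem x2_add (s t : F) : E.x2 (s + t) = E.x2 s * E.x2 t := by
  apply E.ext <;> simp [mul_a1, mul_a2, mul_a3, mul_a4, mul_a5, mul_a6, e_x2, C.T_zero_left, C.T_zero_right,
    C.sh_zero, C.cr_zero_right]
theorem x3_add (s t : K) : E.x3 (s + t) = E.x3 s * E.x3 t := by
  apply E.ext <;> simp [mul_a1, mul_a2, mul_a3, mul_a4, mul_a5, mul_a6, e_x3, C.T_zero_left, C.T_zero_right,
    C.sh_zero, C.cr_zero_right]
theorem x4_add (s t : F) : E.x4 (s + t) = E.x4 s * E.x4 t := by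
  apply E.ext <;> simp [mul_a1, mul_a2, mul_a3, mul_a4, mul_a5, mul_a6, e_x4, C.T_zero_left, C.T_zero_right,
    C.sh_zero, C.cr_zero_right]
theorem x5_add (s t : K) : E.x5 (s + t) = E.x5 s * E.x5 t := by
  apply E.ext <;> simp [mul_a1, mul_a2, mul_a3, mul_a4, mul_a5, mul_a6, e_x5, C.T_zero_left, C.T_zero_right,
    C.sh_zero, C.cr_zero_left]
theorem x6_add (s t : F) : E.x6 (s + t) = E.x6 s * E.x6 t := by
  apply E.ext <;> simp [mul_a1, mul_a2, mul_a3, mul_a4, mul_a5, mul_a6, e_x6, C.T_zero_left, C.T_zero_right,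
    C.sh_zero, C.cr_zero_left, C.N_zero]

theorem kk_eq_iff {G : Type*} [Group G] {a b c : G} : kk a b = c ↔ a * b = b * a * c := by
  unfold kk
  constructor
  · rintro rfl; group
  · intro h
    rw [mul_assoc, h]; group

theorem r12 (a : K) (t : F) : kk (E.x1 a) (E.x2 t) = 1 := by
  rw [kk_eq_iff, mul_one]
  apply E.ext <;> simp [mul_a1, mul_a2, mul_a3, mul_a4, mul_a5, mul_a6, e_x1, e_x2, C.T_zero_left, C.T_zero_right,
    C.sh_zero, C.cr_zero_left, C.cr_zero_right, C.N_zero]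
theorem r13 (a b : K) : kk (E.x1 a) (E.x3 b) = E.x2 (C.T a b) := by
  rw [kk_eq_iff]
  apply E.ext <;> simp [mul_a1, mul_a2, mul_a3, mul_a4, mul_a5, mul_a6, e_x1, e_x3, e_x2, C.T_zero_left, C.T_zero_right,
    C.sh_zero, C.cr_zero_left, C.cr_zero_right, C.N_zero, C.add_self]
theorem r14 (a : K) (t : F) : kk (E.x1 a) (E.x4 t) = 1 := by
  rw [kk_eq_iff, mul_one]
  apply E.ext <;> simp [mul_a1, mul_a2, mul_a3, mul_a4, mul_a5, mul_a6, e_x1, e_x4, C.T_zero_left, C.T_zero_right,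
    C.sh_zero, C.cr_zero_left, C.cr_zero_right, C.N_zero]
theorem r15 (a b : K) : kk (E.x1 a) (E.x5 b) = E.x2 (C.T (C.sh a) b) * E.x3 (C.cr a b) * E.x4 (C.T a (C.sh b)) := by
  rw [kk_eq_iff]
  apply E.ext <;> simp [mul_a1, mul_a2, mul_a3, mul_a4, mul_a5, mul_a6, e_x1, e_x5, e_x3, e_x2, e_x4, C.T_zero_left, C.T_zero_right,
    C.sh_zero, C.cr_zero_left, C.cr_zero_right, C.N_zero, C.add_self, C.add_selfK, C.T_cr_self]
theorem r16 (a : K) (t : F) : kk (E.x1 a) (E.x6 t) =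
    E.x2 (t * C.N a) * E.x3 (t • C.sh a) * E.x4 (t ^ 2 * C.N a) * E.x5 (t • a) := by
  rw [kk_eq_iff]
  apply E.ext <;> simp [mul_a1, mul_a2, mul_a3, mul_a4, mul_a5, mul_a6, e_x1, e_x5, e_x3, e_x2, e_x4, e_x6, C.T_zero_left, C.T_zero_right,
    C.sh_zero, C.cr_zero_left, C.cr_zero_right, C.N_zero, C.add_self, C.add_selfK, C.T_cr_self,
    C.T_smul_left, C.T_smul_right, C.T_sh_self]
theorem r23 (t : F) (a : K) : kk (E.x2 t) (E.x3 a) = 1 := by
  rw [kk_eq_iff, mul_one]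
  apply E.ext <;> simp [mul_a1, mul_a2, mul_a3, mul_a4, mul_a5, mul_a6, e_x2, e_x3, C.T_zero_left, C.T_zero_right,
    C.sh_zero, C.cr_zero_left, C.cr_zero_right, C.N_zero]
theorem r24 (t u : F) : kk (E.x2 t) (E.x4 u) = 1 := by
  rw [kk_eq_iff, mul_one]
  apply E.ext <;> simp [mul_a1, mul_a2, mul_a3, mul_a4, mul_a5, mul_a6, e_x2, e_x4, C.T_zero_left, C.T_zero_right,
    C.sh_zero, C.cr_zero_left, C.cr_zero_right, C.N_zero]
theorem r25 (t : F) (a : K) : kk (E.x2 t) (E.x5 a) = 1 := by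
  rw [kk_eq_iff, mul_one]
  apply E.ext <;> simp [mul_a1, mul_a2, mul_a3, mul_a4, mul_a5, mul_a6, e_x2, e_x5, C.T_zero_left, C.T_zero_right,
    C.sh_zero, C.cr_zero_left, C.cr_zero_right, C.N_zero]
theorem r26 (t u : F) : kk (E.x2 t) (E.x6 u) = E.x4 (t * u) := by
  rw [kk_eq_iff]
  apply E.ext <;> simp [mul_a1, mul_a2, mul_a3, mul_a4, mul_a5, mul_a6, e_x2, e_x6, e_x4, C.T_zero_left, C.T_zero_right,
    C.sh_zero, C.cr_zero_left, C.cr_zero_right, C.N_zero, mul_comm t u, C.add_self]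
theorem r34 (a : K) (t : F) : kk (E.x3 a) (E.x4 t) = 1 := by
  rw [kk_eq_iff, mul_one]
  apply E.ext <;> simp [mul_a1, mul_a2, mul_a3, mul_a4, mul_a5, mul_a6, e_x3, e_x4, C.T_zero_left, C.T_zero_right,
    C.sh_zero, C.cr_zero_left, C.cr_zero_right, C.N_zero]
theorem r35 (a b : K) : kk (E.x3 a) (E.x5 b) = E.x4 (C.T a b) := by
  rw [kk_eq_iff]
  apply E.ext <;> simp [mul_a1, mul_a2, mul_a3, mul_a4, mul_a5, mul_a6, e_x3, e_x5, e_x4, C.T_zero_left, C.T_zero_right,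
    C.sh_zero, C.cr_zero_left, C.cr_zero_right, C.N_zero, C.add_self]
theorem r36 (a : K) (t : F) : kk (E.x3 a) (E.x6 t) = 1 := by
  rw [kk_eq_iff, mul_one]
  apply E.ext <;> simp [mul_a1, mul_a2, mul_a3, mul_a4, mul_a5, mul_a6, e_x3, e_x6, C.T_zero_left, C.T_zero_right,
    C.sh_zero, C.cr_zero_left, C.cr_zero_right, C.N_zero]
theorem r45 (t : F) (a : K) : kk (E.x4 t) (E.x5 a) = 1 := by
  rw [kk_eq_iff, mul_one]
  apply E.ext <;> simp [mul_a1, mul_a2, mul_a3, mul_a4, mul_a5, mul_a6, e_x4, e_x5, C.T_zero_left, C.T_zero_right,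
    C.sh_zero, C.cr_zero_left, C.cr_zero_right, C.N_zero]
theorem r46 (t u : F) : kk (E.x4 t) (E.x6 u) = 1 := by
  rw [kk_eq_iff, mul_one]
  apply E.ext <;> simp [mul_a1, mul_a2, mul_a3, mul_a4, mul_a5, mul_a6, e_x4, e_x6, C.T_zero_left, C.T_zero_right,
    C.sh_zero, C.cr_zero_left, C.cr_zero_right, C.N_zero]
theorem r56 (a : K) (t : F) : kk (E.x5 a) (E.x6 t) = 1 := by
  rw [kk_eq_iff, mul_one]
  apply E.ext <;> simp [mul_a1, mul_a2, mul_a3, mul_a4, mul_a5, mul_a6, e_x5, e_x6, C.T_zero_left, C.T_zero_right,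
    C.sh_zero, C.cr_zero_left, C.cr_zero_right, C.N_zero]

end general

/-! ### From coordinates to `HexRel` -/

section toRel

variable {φ : K ≃ₐ[F] K} (h : CubicPair φ)

include h

theorem trc_eq (a b : K) : trc (φ : K ≃+* K) a b = algebraMap F K (tr φ (a * b)) := by
  rw [algebraMap_tr h]; rfl

theorem nrm_eq (a : K) : nrm (φ : K ≃+* K) a = algebraMap F K (nm φ a) := by
  rw [algebraMap_nm h]; rfl

theorem neg_eq (a : K) : -a = a := by
  have := h.two
  linear_combination (-a) * this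

theorem algebraMap_inv {t : K} (ht : φ t = t) : algebraMap F K (inv F t) = t :=
  Function.invFun_eq (h.fixed t ht)

/-- the relations in coordinates -/
theorem hexRel_of_coord {S : Type*} [Group S] (E : Coord (OfPair.cubic h) S) :
    HexRel (φ : K ≃+* K) E.x1 (fun t => E.x2 (inv F t)) E.x3 (fun t => E.x4 (inv F t)) E.x5
      (fun t => E.x6 (inv F t)) where
  cube := h.three
  add1 := x1_add E
  add2 a b ha hb := by
    obtain ⟨a, rfl⟩ := h.fixed a ha
    obtain ⟨b, rfl⟩ := h.fixed b hb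
    rw [← map_add, inv_algebraMap, inv_algebraMap, inv_algebraMap, x2_add]
  add3 := x3_add E
  add4 a b ha hb := by
    obtain ⟨a, rfl⟩ := h.fixed a ha
    obtain ⟨b, rfl⟩ := h.fixed b hb
    rw [← map_add, inv_algebraMap, inv_algebraMap, inv_algebraMap, x4_add]
  add5 := x5_add E
  add6 a b ha hb := by
    obtain ⟨a, rfl⟩ := h.fixed a ha
    obtain ⟨b, rfl⟩ := h.fixed b hb
    rw [← map_add, inv_algebraMap, inv_algebraMap, inv_algebraMap, x6_add]
  c12 a t _ := r12 E _ _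
  c13 a b := by
    rw [trc_eq h, inv_algebraMap, r13]
    rfl
  c14 a t _ := r14 E _ _
  c15 a b := by
    rw [neg_eq h, trc_eq h, trc_eq h, inv_algebraMap, inv_algebraMap, r15, OfPair.cubic_cr h]
    rfl
  c16 a t ht := by
    obtain ⟨t, rfl⟩ := h.fixed t ht
    rw [neg_eq h, neg_eq h, nrm_eq h, ← _root_.map_mul, ← map_pow, ← _root_.map_mul, inv_algebraMap, inv_algebraMap,
      inv_algebraMap, r16, Algebra.smul_def, Algebra.smul_def]
    rfl
  c23 t a _ := r23 E _ _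
  c24 t u _ _ := r24 E _ _
  c25 t a _ := r25 E _ _
  c26 t u ht hu := by
    obtain ⟨t, rfl⟩ := h.fixed t ht
    obtain ⟨u, rfl⟩ := h.fixed u hu
    rw [← _root_.map_mul, inv_algebraMap, inv_algebraMap, inv_algebraMap, r26]
  c34 a t _ := r34 E _ _
  c35 a b := by
    rw [trc_eq h, inv_algebraMap, r35]
    rfl
  c36 a t _ := r36 E _ _
  c45 t a _ := r45 E _ _
  c46 t u _ _ := r46 E _ _
  c56 a t _ := r56 E _ _

end toRel

/-! ### From relations to coordinates -/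

/-- the positive relations over a cubic datum -/
structure PosRel (C : Cubic F K) {S : Type*} [Group S] (y1 : K → S) (y2 : F → S) (y3 : K → S) (y4 : F → S)
    (y5 : K → S) (y6 : F → S) : Prop where
  add1 : ∀ s t, y1 (s + t) = y1 s * y1 t
  add2 : ∀ s t, y2 (s + t) = y2 s * y2 t
  add3 : ∀ s t, y3 (s + t) = y3 s * y3 t
  add4 : ∀ s t, y4 (s + t) = y4 s * y4 t
  add5 : ∀ s t, y5 (s + t) = y5 s * y5 t
  add6 : ∀ s t, y6 (s + t) = y6 s * y6 t
  r21 : ∀ t a, y2 t * y1 a = y1 a * y2 t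
  r31 : ∀ b a, y3 b * y1 a = y1 a * (y2 (C.T a b) * y3 b)
  r41 : ∀ t a, y4 t * y1 a = y1 a * y4 t
  r51 : ∀ b a, y5 b * y1 a = y1 a * (y2 (C.T (C.sh a) b) * (y3 (C.cr a b) * (y4 (C.T a (C.sh b)) * y5 b)))
  r61 : ∀ t a, y6 t * y1 a = y1 a * (y2 (t * C.N a) * (y3 (t • C.sh a) * (y4 (t ^ 2 * C.N a) *
    (y5 (t • a) * y6 t))))
  r32 : ∀ b t, y3 b * y2 t = y2 t * y3 b
  r42 : ∀ b t, y4 b * y2 t = y2 t * y4 b
  r52 : ∀ b t, y5 b * y2 t = y2 t * y5 b
  r62 : ∀ b t, y6 b * y2 t = y2 t * (y4 (b * t) * y6 b)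
  r43 : ∀ b t, y4 b * y3 t = y3 t * y4 b
  r53 : ∀ b t, y5 b * y3 t = y3 t * (y4 (C.T t b) * y5 b)
  r63 : ∀ b t, y6 b * y3 t = y3 t * y6 b
  r54 : ∀ b t, y5 b * y4 t = y4 t * y5 b
  r64 : ∀ b t, y6 b * y4 t = y4 t * y6 b
  r65 : ∀ b t, y6 b * y5 t = y5 t * y6 b

namespace PosRel

variable {C : Cubic F K} {S : Type*} [Group S] {y1 : K → S} {y2 : F → S} {y3 : K → S} {y4 : F → S}
  {y5 : K → S} {y6 : F → S} (H : PosRel C y1 y2 y3 y4 y5 y6)

/-- the product map -/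
def pm (y1 : K → S) (y2 : F → S) (y3 : K → S) (y4 : F → S) (y5 : K → S) (y6 : F → S) (a : Tup F K) : S :=
  y1 a.a1 * (y2 a.a2 * (y3 a.a3 * (y4 a.a4 * (y5 a.a5 * y6 a.a6))))

include H

theorem pm_mul (a b : Tup F K) : pm y1 y2 y3 y4 y5 y6 a * pm y1 y2 y3 y4 y5 y6 b =
    pm y1 y2 y3 y4 y5 y6 (C.mul a b) := by
  have s1 : ∀ s t w, y1 s * (y1 t * w) = y1 (s + t) * w := fun s t w => by rw [H.add1, mul_assoc]
  have s2 : ∀ s t w, y2 s * (y2 t * w) = y2 (s + t) * w := fun s t w => by rw [H.add2, mul_assoc]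
  have s3 : ∀ s t w, y3 s * (y3 t * w) = y3 (s + t) * w := fun s t w => by rw [H.add3, mul_assoc]
  have s4 : ∀ s t w, y4 s * (y4 t * w) = y4 (s + t) * w := fun s t w => by rw [H.add4, mul_assoc]
  have s5 : ∀ s t w, y5 s * (y5 t * w) = y5 (s + t) * w := fun s t w => by rw [H.add5, mul_assoc]
  have r21 : ∀ t a w, y2 t * (y1 a * w) = y1 a * (y2 t * w) := fun t a w => by
    rw [← mul_assoc, H.r21, mul_assoc]
  have r31 : ∀ b a w, y3 b * (y1 a * w) = y1 a * (y2 (C.T a b) * (y3 b * w)) := fun b a w => by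
    rw [← mul_assoc, H.r31]; simp only [mul_assoc]
  have r41 : ∀ t a w, y4 t * (y1 a * w) = y1 a * (y4 t * w) := fun t a w => by
    rw [← mul_assoc, H.r41, mul_assoc]
  have r51 : ∀ b a w, y5 b * (y1 a * w) = y1 a * (y2 (C.T (C.sh a) b) * (y3 (C.cr a b) *
      (y4 (C.T a (C.sh b)) * (y5 b * w)))) := fun b a w => by
    rw [← mul_assoc, H.r51]; simp only [mul_assoc]
  have r61 : ∀ t a w, y6 t * (y1 a * w) = y1 a * (y2 (t * C.N a) * (y3 (t • C.sh a) * (y4 (t ^ 2 * C.N a) *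
    (y5 (t • a) * (y6 t * w))))) := fun t a w => by
    rw [← mul_assoc, H.r61]; simp only [mul_assoc]
  have r32 : ∀ b t w, y3 b * (y2 t * w) = y2 t * (y3 b * w) := fun b t w => by
    rw [← mul_assoc, H.r32, mul_assoc]
  have r42 : ∀ b t w, y4 b * (y2 t * w) = y2 t * (y4 b * w) := fun b t w => by
    rw [← mul_assoc, H.r42, mul_assoc]
  have r52 : ∀ b t w, y5 b * (y2 t * w) = y2 t * (y5 b * w) := fun b t w => by
    rw [← mul_assoc, H.r52, mul_assoc]
  have r62 : ∀ b t w, y6 b * (y2 t * w) = y2 t * (y4 (b * t) * (y6 b * w)) := fun b t w => by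
    rw [← mul_assoc, H.r62]; simp only [mul_assoc]
  have r43 : ∀ b t w, y4 b * (y3 t * w) = y3 t * (y4 b * w) := fun b t w => by
    rw [← mul_assoc, H.r43, mul_assoc]
  have r53 : ∀ b t w, y5 b * (y3 t * w) = y3 t * (y4 (C.T t b) * (y5 b * w)) := fun b t w => by
    rw [← mul_assoc, H.r53]; simp only [mul_assoc]
  have r63 : ∀ b t w, y6 b * (y3 t * w) = y3 t * (y6 b * w) := fun b t w => by
    rw [← mul_assoc, H.r63, mul_assoc]
  have r54 : ∀ b t w, y5 b * (y4 t * w) = y4 t * (y5 b * w) := fun b t w => by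
    rw [← mul_assoc, H.r54, mul_assoc]
  have r64 : ∀ b t w, y6 b * (y4 t * w) = y4 t * (y6 b * w) := fun b t w => by
    rw [← mul_assoc, H.r64, mul_assoc]
  have r65 : ∀ b t w, y6 b * (y5 t * w) = y5 t * (y6 b * w) := fun b t w => by
    rw [← mul_assoc, H.r65, mul_assoc]
  unfold pm Cubic.mul
  simp only [mul_assoc]
  -- collect `y1`
  rw [r61, r51, r41, r31, r21, s1]
  simp only [r32, r42, r52, r62, r43, r53, r63, r54, r64, r65, s2, s3, s4, s5, ← H.add6]
  refine congrArg₂ (· * ·) rfl (congrArg₂ (· * ·) (congrArg y2 ?_) (congrArg₂ (· * ·) (congrArg y3 ?_)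
    (congrArg₂ (· * ·) (congrArg y4 ?_) (congrArg₂ (· * ·) (congrArg y5 ?_) rfl))))
  · ring
  · abel
  · rw [C.T_add_left, C.T_smul_left, C.T_smul_right]; ring
  · abel

/-- coordinates from relations -/
noncomputable def coord (hb : Function.Bijective (pm y1 y2 y3 y4 y5 y6)) : Coord C S where
  e := (Equiv.ofBijective _ hb).symm
  map_mul g h := by
    apply (Equiv.ofBijective _ hb).injective
    rw [Equiv.apply_symm_apply]
    change g * h = pm y1 y2 y3 y4 y5 y6 _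
    rw [← H.pm_mul]
    exact congrArg₂ (· * ·) ((Equiv.ofBijective _ hb).apply_symm_apply g).symm
      ((Equiv.ofBijective _ hb).apply_symm_apply h).symm

end PosRel

section ofRel

variable {φ : K ≃ₐ[F] K} (h : CubicPair φ)

theorem mul_of_kk {S : Type*} [Group S] {a b c : S} (ha : a * a = 1) (hb : b * b = 1) (hc : kk a b = c) :
    b * a = a * (c * b) := by
  have ha' : a⁻¹ = a := inv_eq_of_mul_eq_one_right ha
  have hb' : b⁻¹ = b := inv_eq_of_mul_eq_one_right hb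
  rw [← hc, kk, ha', hb']
  calc b * a = 1 * (b * a) * 1 := by group
    _ = (a * a) * (b * a) * (b * b) := by rw [ha, hb]
    _ = a * (a * b * a * b * b) := by group

theorem posRel_of_hexRel {S : Type*} [Group S] {x1 x2 x3 x4 x5 x6 : K → S}
    (H : HexRel (φ : K ≃+* K) x1 x2 x3 x4 x5 x6) : PosRel (OfPair.cubic h) x1 (fun t => x2 (algebraMap F K t)) x3
      (fun t => x4 (algebraMap F K t)) x5 (fun t => x6 (algebraMap F K t)) := by
  have two : ∀ t : K, t + t = 0 := fun t => by rw [← two_mul, h.two, zero_mul]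
  have fx : ∀ t : F, (φ : K ≃+* K) (algebraMap F K t) = algebraMap F K t := fun t => φ.commutes t
  have z1 : x1 0 = 1 := left_eq_mul.1 (by rw [← H.add1, add_zero] : x1 0 = x1 0 * x1 0)
  have z3 : x3 0 = 1 := left_eq_mul.1 (by rw [← H.add3, add_zero] : x3 0 = x3 0 * x3 0)
  have z5 : x5 0 = 1 := left_eq_mul.1 (by rw [← H.add5, add_zero] : x5 0 = x5 0 * x5 0)
  have z2 : x2 0 = 1 := left_eq_mul.1 (by rw [← H.add2 _ _ (map_zero _) (map_zero _), add_zero] : x2 0 = x2 0 * x2 0)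
  have z4 : x4 0 = 1 := left_eq_mul.1 (by rw [← H.add4 _ _ (map_zero _) (map_zero _), add_zero] : x4 0 = x4 0 * x4 0)
  have z6 : x6 0 = 1 := left_eq_mul.1 (by rw [← H.add6 _ _ (map_zero _) (map_zero _), add_zero] : x6 0 = x6 0 * x6 0)
  have i1 : ∀ t, x1 t * x1 t = 1 := fun t => by rw [← H.add1, two, z1]
  have i3 : ∀ t, x3 t * x3 t = 1 := fun t => by rw [← H.add3, two, z3]
  have i5 : ∀ t, x5 t * x5 t = 1 := fun t => by rw [← H.add5, two, z5]
  have i2 : ∀ t : F, x2 (algebraMap F K t) * x2 (algebraMap F K t) = 1 := fun t => by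
    rw [← H.add2 _ _ (fx t) (fx t), two, z2]
  have i4 : ∀ t : F, x4 (algebraMap F K t) * x4 (algebraMap F K t) = 1 := fun t => by
    rw [← H.add4 _ _ (fx t) (fx t), two, z4]
  have i6 : ∀ t : F, x6 (algebraMap F K t) * x6 (algebraMap F K t) = 1 := fun t => by
    rw [← H.add6 _ _ (fx t) (fx t), two, z6]
  have comm : ∀ {a b : S}, a * a = 1 → b * b = 1 → kk a b = 1 → b * a = a * b := fun ha hb hc => by
    rw [mul_of_kk ha hb hc, one_mul]
  refine ⟨H.add1, fun s t => ?_, H.add3, fun s t => ?_, H.add5, fun s t => ?_, ?_, ?_, ?_, ?_, ?_, ?_, ?_, ?_, ?_,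
    ?_, ?_, ?_, ?_, ?_, ?_⟩
  · rw [map_add, H.add2 _ _ (fx s) (fx t)]
  · rw [map_add, H.add4 _ _ (fx s) (fx t)]
  · rw [map_add, H.add6 _ _ (fx s) (fx t)]
  · intro t a
    exact comm (i1 a) (i2 t) (H.c12 a _ (fx t))
  · intro b a
    rw [mul_of_kk (i1 a) (i3 b) (H.c13 a b), trc_eq h]
    rfl
  · intro t a
    exact comm (i1 a) (i4 t) (H.c14 a _ (fx t))
  · intro b a
    rw [mul_of_kk (i1 a) (i5 b) (H.c15 a b), neg_eq h, trc_eq h, trc_eq h, OfPair.cubic_cr h]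
    simp only [mul_assoc]
    rfl
  · intro t a
    rw [mul_of_kk (i1 a) (i6 t) (H.c16 a _ (fx t)), neg_eq h, neg_eq h, nrm_eq h, ← _root_.map_mul, ← map_pow,
      ← _root_.map_mul, Algebra.smul_def, Algebra.smul_def]
    simp only [mul_assoc]
    rfl
  · intro b t
    exact comm (i2 t) (i3 b) (H.c23 _ b (fx t))
  · intro b t
    exact comm (i2 t) (i4 b) (H.c24 _ _ (fx t) (fx b))
  · intro b t
    exact comm (i2 t) (i5 b) (H.c25 _ b (fx t))
  · intro b t
    rw [mul_of_kk (i2 t) (i6 b) (H.c26 _ _ (fx t) (fx b)), ← _root_.map_mul, mul_comm t b]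
  · intro b t
    exact comm (i3 t) (i4 b) (H.c34 t _ (fx b))
  · intro b t
    rw [mul_of_kk (i3 t) (i5 b) (H.c35 t b), trc_eq h]
    rfl
  · intro b t
    exact comm (i3 t) (i6 b) (H.c36 t _ (fx b))
  · intro b t
    exact comm (i4 t) (i5 b) (H.c45 _ b (fx t))
  · intro b t
    exact comm (i4 t) (i6 b) (H.c46 _ _ (fx t) (fx b))
  · intro b t
    exact comm (i5 t) (i6 b) (H.c56 t _ (fx b))

end ofRel

end Cfsg.Agent.HexRec.OfHexRel
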