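import Cfsg.Agent.HexRec.ToR2
import Cfsg.Agent.RootSeq.Final

/-!
# Coordinates on the Sylow 2-subgroups of a group with a hexagonal root system in characteristic two
-/

set_option autoImplicit false

namespace Cfsg.Agent.HexRec.Model

open Cfsg.Agent.Hex.Defs Cfsg.Agent.SplitTwo Cfsg.Agent.HexRec.OfHexRel Cfsg.Agent.HexRec.OfHexRel.PosRel
open Cfsg.Agent.TitsThree.RankTwoRGD Cfsg.Agent.TitsThree.RankTwoIdx Cfsg.Agent.TitsThree.RankTwoZ
open Cfsg.Agent.RootSeq.Final Cfsg.Agent.RootSeq.Seg Cfsg.Agent.HexRec.ToR2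

universe u v

variable {F K : Type*} [Field F] [Field K] [Algebra F K]

/-- transport of coordinates -/
def transport {C : Cubic F K} {S S' : Type*} [Group S] [Group S'] (co : Coord C S) (f : S' ≃* S) : Coord C S' where
  e := f.toEquiv.trans co.e
  map_mul g h := by
    change co.e (f (g * h)) = _
    rw [map_mul, co.map_mul]
    rfl

section range

variable {C : Cubic F K} {S : Type*} [Group S] [Finite S] {y1 : K → S} {y2 : F → S} {y3 : K → S} {y4 : F → S}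
  {y5 : K → S} {y6 : F → S} (H : PosRel C y1 y2 y3 y4 y5 y6)

omit [Finite S] in
include H in
theorem pm_zero : pm y1 y2 y3 y4 y5 y6 ⟨0, 0, 0, 0, 0, 0⟩ = 1 := by
  have z1 : y1 0 = 1 := left_eq_mul.1 (by rw [← H.add1, add_zero] : y1 0 = y1 0 * y1 0)
  have z2 : y2 0 = 1 := left_eq_mul.1 (by rw [← H.add2, add_zero] : y2 0 = y2 0 * y2 0)
  have z3 : y3 0 = 1 := left_eq_mul.1 (by rw [← H.add3, add_zero] : y3 0 = y3 0 * y3 0)
  have z4 : y4 0 = 1 := left_eq_mul.1 (by rw [← H.add4, add_zero] : y4 0 = y4 0 * y4 0)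
  have z5 : y5 0 = 1 := left_eq_mul.1 (by rw [← H.add5, add_zero] : y5 0 = y5 0 * y5 0)
  have z6 : y6 0 = 1 := left_eq_mul.1 (by rw [← H.add6, add_zero] : y6 0 = y6 0 * y6 0)
  simp [pm, z1, z2, z3, z4, z5, z6]

/-- the range of the product map -/
def R : Subgroup S where
  carrier := Set.range (pm y1 y2 y3 y4 y5 y6)
  one_mem' := ⟨_, pm_zero H⟩
  mul_mem' := by
    rintro _ _ ⟨a, rfl⟩ ⟨b, rfl⟩
    exact ⟨_, (H.pm_mul a b).symm⟩
  inv_mem' := by
    rintro _ ⟨a, rfl⟩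
    set x := pm y1 y2 y3 y4 y5 y6 a with hx
    have h2 : x⁻¹ = x ^ (orderOf x - 1) := by
      rw [inv_eq_iff_mul_eq_one, ← pow_succ', Nat.sub_add_cancel (orderOf_pos x), pow_orderOf_eq_one]
    have key : ∀ n : ℕ, ∃ b, pm y1 y2 y3 y4 y5 y6 b = x ^ n := by
      intro n
      induction n with
      | zero => exact ⟨_, by rw [pow_zero]; exact pm_zero H⟩
      | succ n ih =>
        obtain ⟨b, hb⟩ := ih
        exact ⟨C.mul b a, by rw [← H.pm_mul, hb, pow_succ, hx]⟩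
    rw [h2]
    exact key _

variable (hinj : Function.Injective (pm y1 y2 y3 y4 y5 y6))

/-- coordinates on the range -/
noncomputable def coordR : Coord C (R H) where
  e := (Equiv.ofBijective (fun a => (⟨pm y1 y2 y3 y4 y5 y6 a, a, rfl⟩ : R H))
    ⟨fun a b h => hinj (congrArg Subtype.val h), by rintro ⟨_, a, rfl⟩; exact ⟨a, rfl⟩⟩).symm
  map_mul g h := by
    set e := Equiv.ofBijective (fun a => (⟨pm y1 y2 y3 y4 y5 y6 a, a, rfl⟩ : R H))
      ⟨fun a b h => hinj (congrArg Subtype.val h), by rintro ⟨_, a, rfl⟩; exact ⟨a, rfl⟩⟩ with he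
    apply e.injective
    rw [Equiv.apply_symm_apply]
    have h1 : ∀ a b, e (C.mul a b) = e a * e b := fun a b => Subtype.ext (H.pm_mul a b).symm
    rw [h1, Equiv.apply_symm_apply, Equiv.apply_symm_apply]

end range

section kside

variable {φ : K ≃ₐ[F] K} (h : CubicPair φ) {K' : Type v} [Group K']

theorem mem_seg_X {c : R2 6 K'} {k a b : ℕ} {x : K'} (hx : x ∈ c.X k) (h1 : a ≤ k) (h2 : k ≤ b) : x ∈ seg c a b :=
  X_le_seg c h1 h2 hx

/-- uniqueness of the normal form -/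
theorem pm_inj {c : R2 6 K'} (hg : Good c) {x1 x2 x3 x4 x5 x6 : K → K'}
    (k : HexPar (φ : K ≃+* K) (fun i : ZMod (2 * 6) => c.X i.val) x1 x2 x3 x4 x5 x6) :
    Function.Injective (pm x1 (fun t : F => x2 (algebraMap F K t)) x3 (fun t : F => x4 (algebraMap F K t)) x5
      (fun t : F => x6 (algebraMap F K t))) := by
  have fx : ∀ t : F, (φ : K ≃+* K) (algebraMap F K t) = algebraMap F K t := fun t => φ.commutes t
  have m1 : ∀ t, x1 t ∈ c.X 1 := fun t => (k.mem1 _).2 ⟨t, rfl⟩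
  have m2 : ∀ t : F, x2 (algebraMap F K t) ∈ c.X 2 := fun t => (k.mem2 _).2 ⟨_, fx t, rfl⟩
  have m3 : ∀ t, x3 t ∈ c.X 3 := fun t => (k.mem3 _).2 ⟨t, rfl⟩
  have m4 : ∀ t : F, x4 (algebraMap F K t) ∈ c.X 4 := fun t => (k.mem4 _).2 ⟨_, fx t, rfl⟩
  have m5 : ∀ t, x5 t ∈ c.X 5 := fun t => (k.mem5 _).2 ⟨t, rfl⟩
  have m6 : ∀ t : F, x6 (algebraMap F K t) ∈ c.X 6 := fun t => (k.mem6 _).2 ⟨_, fx t, rfl⟩
  have step : ∀ {r : ℕ}, 1 ≤ r → r ≤ 6 → ∀ {x x' v v' : K'}, x ∈ c.X r → x' ∈ c.X r → v ∈ seg c (r + 1) 6 →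
      v' ∈ seg c (r + 1) 6 → x * v = x' * v' → x = x' ∧ v = v' := by
    intro r h1 h2 x x' v v' hx hx' hv hv' e
    have e1 : x'⁻¹ * x = v' * v⁻¹ := by
      calc x'⁻¹ * x = x'⁻¹ * (x * v) * v⁻¹ := by group
        _ = v' * v⁻¹ := by rw [e]; group
    have h3 : x'⁻¹ * x = 1 := seg_inf hg r h2 _ (mem_seg_X (mul_mem (inv_mem hx') hx) h1 le_rfl)
      (by rw [e1]; exact mul_mem hv' (inv_mem hv))
    have h4 : x = x' := by
      rw [inv_mul_eq_one] at h3
      exact h3.symm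
    subst h4
    exact ⟨rfl, mul_left_cancel e⟩
  have s6 : ∀ a : Tup F K, x6 (algebraMap F K a.a6) ∈ seg c 6 6 := fun a => mem_seg_X (m6 _) le_rfl le_rfl
  have s5 : ∀ a : Tup F K, x5 a.a5 * x6 (algebraMap F K a.a6) ∈ seg c 5 6 := fun a =>
    mul_mem (mem_seg_X (m5 _) le_rfl (by norm_num)) (seg_mono c (by norm_num) le_rfl (s6 a))
  have s4 : ∀ a : Tup F K, x4 (algebraMap F K a.a4) * (x5 a.a5 * x6 (algebraMap F K a.a6)) ∈ seg c 4 6 := fun a =>
    mul_mem (mem_seg_X (m4 _) le_rfl (by norm_num)) (seg_mono c (by norm_num) le_rfl (s5 a))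
  have s3 : ∀ a : Tup F K, x3 a.a3 * (x4 (algebraMap F K a.a4) * (x5 a.a5 * x6 (algebraMap F K a.a6))) ∈ seg c 3 6 :=
    fun a => mul_mem (mem_seg_X (m3 _) le_rfl (by norm_num)) (seg_mono c (by norm_num) le_rfl (s4 a))
  have s2 : ∀ a : Tup F K, x2 (algebraMap F K a.a2) *
      (x3 a.a3 * (x4 (algebraMap F K a.a4) * (x5 a.a5 * x6 (algebraMap F K a.a6)))) ∈ seg c 2 6 :=
    fun a => mul_mem (mem_seg_X (m2 _) le_rfl (by norm_num)) (seg_mono c (by norm_num) le_rfl (s3 a))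
  intro a b e
  unfold pm at e
  simp only at e
  obtain ⟨e1, e⟩ := step (r := 1) le_rfl (by norm_num) (m1 _) (m1 _) (s2 a) (s2 b) e
  obtain ⟨e2, e⟩ := step (r := 2) (by norm_num) (by norm_num) (m2 _) (m2 _) (s3 a) (s3 b) e
  obtain ⟨e3, e⟩ := step (r := 3) (by norm_num) (by norm_num) (m3 _) (m3 _) (s4 a) (s4 b) e
  obtain ⟨e4, e⟩ := step (r := 4) (by norm_num) (by norm_num) (m4 _) (m4 _) (s5 a) (s5 b) e
  obtain ⟨e5, e6⟩ := step (r := 5) (by norm_num) (by norm_num) (m5 _) (m5 _) (s6 a) (s6 b) e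
  have inj := (algebraMap F K).injective
  exact Tup.ext (k.inj1 _ _ e1) (inj (k.inj2 _ _ (fx _) (fx _) e2)) (k.inj3 _ _ e3)
    (inj (k.inj4 _ _ (fx _) (fx _) e4)) (k.inj5 _ _ e5) (inj (k.inj6 _ _ (fx _) (fx _) e6))

theorem card_tup (F K : Type*) : Nat.card (Tup F K) = Nat.card K ^ 3 * Nat.card F ^ 3 := by
  rw [Nat.card_congr (tupEquiv F K), Nat.card_prod, Nat.card_prod, Nat.card_prod, Nat.card_prod, Nat.card_prod]
  ring

/-- **Coordinates on the Sylow 2-subgroups.** -/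
theorem exists_coord [Finite K'] [IsSimpleGroup K'] (c' : RGDZ 6 K') (hgen' : ⨆ i, c'.X i = ⊤) (hU' : c'.U ≠ ⊤)
    {x1 x2 x3 x4 x5 x6 : K → K'} (k : HexPar (φ : K ≃+* K) c'.X x1 x2 x3 x4 x5 x6) (P : Sylow 2 K')
    (hcard : ∃ n m, Nat.card K ^ 3 * Nat.card F ^ 3 = 2 ^ n ∧ Nat.card K' = 2 ^ n * m ∧ Odd m) :
    Nonempty (Coord (OfPair.cubic h) (P : Subgroup K')) := by
  have hg : Good c'.r2 := good_of_simple (by norm_num) (rgdz_gen c' hgen') hU' (rgdz_U_ne_bot c')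
  have H := posRel_of_hexRel h k.rel
  have hinj := pm_inj (F := F) hg (hexPar_r2 c' k)
  let co := coordR H hinj
  obtain ⟨n, m, h1, h2, h3⟩ := hcard
  have hR : Nat.card (R H) = 2 ^ n := by
    rw [Nat.card_congr co.e, card_tup, h1]
  have : Fact (Nat.Prime 2) := ⟨Nat.prime_two⟩
  have hfac : (Nat.card K').factorization 2 = n := by
    rw [h2, Nat.factorization_mul (by positivity) (by rintro rfl; simp at h3),
      Nat.Prime.factorization_pow Nat.prime_two]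
    simp only [Finsupp.coe_add, Pi.add_apply, Finsupp.single_eq_same]
    rw [Nat.factorization_eq_zero_of_not_dvd (by rw [← even_iff_two_dvd]; exact Nat.not_even_iff_odd.2 h3)]
    rfl
  let Q : Sylow 2 K' := Sylow.ofCard (R H) (by rw [hR, hfac])
  exact ⟨transport co ((Sylow.equiv P Q).trans (MulEquiv.subgroupCongr (Sylow.coe_ofCard _ _)))⟩

end kside

end Cfsg.Agent.HexRec.Model
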