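import Cfsg.Agent.HexRec.Braid

/-!
# Output of the recognition: a generating frame

From a pair of parabolic subgroups `P : Par C G` with `⟨L1, L2⟩ = G` such that every involution commuting with
`x3(1)` lies in `L2` one gets a frame generating `G`.
-/

set_option autoImplicit false

namespace Cfsg.Agent.HexRec

open Matrix
open Cfsg.Agent.ClassTwo.Sp4Defs Cfsg.Agent.ClassTwo.Sp4SL2

variable {F K : Type*} [Field F] [Field K] [Algebra F K] {C : Cubic F K}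

theorem le_of_hom {k : Type*} [Field k] {G : Type*} [Group G] {L : Subgroup G}
    (p : L →* SpecialLinearGroup (Fin 2) k) (M : Subgroup G)
    (hker : ∀ g : L, p g = 1 → (g : G) ∈ M) (hu : ∀ t, ∃ g : L, p g = u t ∧ (g : G) ∈ M)
    (hw : ∃ g : L, p g = w k ∧ (g : G) ∈ M) : L ≤ M := by
  have h1 : (M.subgroupOf L).map p = ⊤ := by
    apply eq_top_of_uw
    · intro t
      obtain ⟨g, hg, hg'⟩ := hu t
      exact ⟨g, hg', hg⟩
    · obtain ⟨g, hg, hg'⟩ := hw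
      exact ⟨g, hg', hg⟩
  intro x hx
  have h2 : p ⟨x, hx⟩ ∈ (M.subgroupOf L).map p := by rw [h1]; trivial
  obtain ⟨y, hy, hxy⟩ := h2
  have h3 := hker (⟨x, hx⟩ * y⁻¹) (by rw [map_mul, map_inv, hxy, mul_inv_cancel])
  have h4 : x = (x * (y : G)⁻¹) * y := by group
  rw [h4]
  exact mul_mem h3 hy

/-- **Output of the recognition.** -/
theorem Par.exists_frame {G : Type*} [Group G] (P : Par C G) [Finite G] [Finite F] [Finite K]
    (hF : ∃ m : Fˣ, m ≠ 1) (hU : ∀ x : G, x * x = 1 → Commute x (P.E.x3 1 : G) → x ∈ P.L2)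
    (hgen : P.L1 ⊔ P.L2 = ⊤) :
    ∃ Φ : Frame C G, Subgroup.closure ((Φ.S : Set G) ∪ {Φ.na, Φ.nb}) = ⊤ ∧ Φ.S = P.S := by
  obtain ⟨c, hc, Q, hQ⟩ := P.exists_pre hF
  have hU' : ∀ x : G, x * x = 1 → Commute x (Q.E.x3 1 : G) → x ∈ Q.L2 := by
    rw [hQ]
    intro x hx hx3
    apply hU x hx
    have e1 : (((P.twist c hc).E.x3 1 : (P.twist c hc).S) : G) = (P.E.x3 1 : G) :=
      congrArg (fun s : P.S => (s : G)) (Coord.twist_x3 P.E c 1)
    rw [← e1]; exact hx3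
  have hgen' : Q.L1 ⊔ Q.L2 = ⊤ := by rw [hQ]; exact hgen
  have hS : Q.S = P.S := by rw [hQ]; rfl
  refine ⟨Q.toFrame (Q.braid hF hU'), ?_, hS⟩
  change Subgroup.closure ((Q.S : Set G) ∪ {Q.na, Q.nb}) = ⊤
  set M := Subgroup.closure ((Q.S : Set G) ∪ {Q.na, Q.nb}) with hM
  have hSM : Q.S ≤ M := fun x hx => Subgroup.subset_closure (Or.inl hx)
  have hna : Q.na ∈ M := Subgroup.subset_closure (Or.inr (Or.inl rfl))
  have hnb : Q.nb ∈ M := Subgroup.subset_closure (Or.inr (Or.inr rfl))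
  rw [eq_top_iff, ← hgen', sup_le_iff]
  constructor
  · apply le_of_hom Q.p1
    · intro g hg
      exact hSM (Q.Q1_le_S (Q.mem_Q1_of g hg))
    · intro t
      exact ⟨Q.X1 t, Q.p1_X1 t, hSM (SetLike.coe_mem (Q.E.x1 t))⟩
    · exact ⟨⟨Q.na, Q.na_mem⟩, Q.p_na, hna⟩
  · apply le_of_hom Q.p2
    · intro g hg
      exact hSM (Q.Q2_le_S (Q.mem_Q2_of g hg))
    · intro t
      exact ⟨Q.X6 t, Q.p2_X6 t, hSM (SetLike.coe_mem (Q.E.x6 t))⟩
    · exact ⟨⟨Q.nb, Q.nb_mem⟩, Q.p_nb, hnb⟩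

end Cfsg.Agent.HexRec
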