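import Cfsg.Agent.HexGlob.Facts

/-!
# Coordinates with the same first layer

Two coordinate systems `co`, `co'` on `P` with the same `a1`, `a6` define the same subgroups `Z`, `E2`, `F0`, `RR`,
`Da`, `Db`.
-/

set_option autoImplicit false
set_option linter.unusedSectionVars false

namespace Cfsg.Agent.HexRec.SameLay

open Cfsg.Agent.HexRec Cfsg.Agent.HexEss Cfsg.Agent.HexGlob Cfsg.Agent.HexGlob.Facts Subgroup

universe u v

variable {F K : Type v} [Field F] [Field K] [Algebra F K] {C : Cubic F K}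
variable {G : Type u} [Group G] [Finite G] {P : Subgroup G} {co co' : Coord C P}

/-- the same first layer -/
def Same (co co' : Coord C P) : Prop := ∀ g ∈ P, (cx co' g).a1 = (cx co g).a1 ∧ (cx co' g).a6 = (cx co g).a6

theorem same_symm (h : Same co co') : Same co' co := fun g hg => ⟨(h g hg).1.symm, (h g hg).2.symm⟩

theorem same_RR (h : Same co co') : RR co' = RR co := by
  ext g
  constructor
  · rintro ⟨hg, h1, h6⟩
    exact ⟨hg, by rw [← (h g hg).1]; exact h1, by rw [← (h g hg).2]; exact h6⟩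
  · rintro ⟨hg, h1, h6⟩
    exact ⟨hg, by rw [(h g hg).1]; exact h1, by rw [(h g hg).2]; exact h6⟩

theorem same_Da (h : Same co co') : Da co' = Da co := by
  ext g
  constructor
  · rintro ⟨hg, h1⟩
    exact ⟨hg, (h g hg).1.symm.trans h1⟩
  · rintro ⟨hg, h1⟩
    exact ⟨hg, (h g hg).1.trans h1⟩

theorem same_Db (h : Same co co') : Db co' = Db co := by
  ext g
  constructor
  · rintro ⟨hg, h1⟩
    exact ⟨hg, (h g hg).2.symm.trans h1⟩
  · rintro ⟨hg, h1⟩
    exact ⟨hg, (h g hg).2.trans h1⟩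

theorem Z_eq (co co' : Coord C P) : Z co' = Z co := by
  rw [← cenMod_Z (co := co), ← cenMod_Z (co := co')]

theorem E2_eq (hD : Dat C) (co co' : Coord C P) : E2 co' = E2 co := by
  ext x
  constructor
  · intro hx
    exact mem_E2_of_Z2 hD hx.1 (fun y hy => by rw [← Z_eq co co']; exact cm_mem_Z hy hx)
  · intro hx
    exact mem_E2_of_Z2 hD hx.1 (fun y hy => by rw [← Z_eq co' co]; exact cm_mem_Z hy hx)

theorem F0_le_of_same (hD : Dat C) (h : Same co co') : F0 co ≤ F0 co' := by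
  obtain ⟨l, hl0, hl1⟩ := exists_scalar hD
  intro x hx
  obtain ⟨f, a, hfa⟩ := exists_smul_sh C (cx co x).a3
  have hl' : l + 1 ≠ 0 := fun h => hl1 (C.eq_of_add_eq_zero h)
  set w : F := f / (l + 1) with hw
  obtain ⟨g, hg, hgc⟩ := exists_cx (co := co) ⟨a, 0, 0, 0, 0, 0⟩
  obtain ⟨g', hg', hgc'⟩ := exists_cx (co := co) ⟨l • a, 0, 0, 0, 0, 0⟩
  obtain ⟨k, hk, hkc⟩ := exists_cx (co := co) ⟨0, 0, 0, 0, 0, w⟩
  obtain ⟨k', hk', hkc'⟩ := exists_cx (co := co) ⟨0, 0, 0, 0, 0, w / l⟩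
  have k1 : (cx co k).a1 = 0 := by rw [hkc]
  have k1' : (cx co k').a1 = 0 := by rw [hkc']
  have hm : cm g k ∈ RR co := cm_mem_RR hg hk
  have hm' : cm g' k' ∈ RR co := cm_mem_RR hg' hk'
  have hz : cm g' k' * cm g k ∈ RR co := mul_mem hm' hm
  -- in `co` : `a3 = f • sh a`, `a5 = 0`
  have h5 : (cx co (cm g' k' * cm g k)).a5 = 0 := by
    rw [a5_mul hm'.1 hm.1, hm'.2.2, zero_smul, add_zero, a5_cm_Da hg hk k1, a5_cm_Da hg' hk' k1', hgc, hgc',
      hkc, hkc', smul_smul, div_mul_cancel₀ _ hl0, C.add_selfK]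
  have h3 : (cx co (cm g' k' * cm g k)).a3 = (cx co x).a3 := by
    rw [a3_mul hm'.1 hm.1, hm'.2.2, zero_smul, add_zero, hm.2.1, C.cr_zero_left, add_zero,
      a3_cm_Da hg hk k1, a3_cm_Da hg' hk' k1', hgc, hgc', hkc, hkc', C.cr_zero_right, C.cr_zero_right, add_zero,
      add_zero, C.sh_smul, smul_smul, ← add_smul, hfa]
    congr 1
    rw [hw]
    field_simp
  have hzF : cm g' k' * cm g k ∈ F0 co := ⟨hz.1, hz.2.1, h5, hz.2.2⟩
  -- in `co'` : `a5 = 0`
  have h5' : (cx co' (cm g' k' * cm g k)).a5 = 0 := by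
    have e1 : (cx co' k).a1 = 0 := by rw [(h k hk).1]; exact k1
    have e1' : (cx co' k').a1 = 0 := by rw [(h k' hk').1]; exact k1'
    have hm2 : cm g k ∈ RR co' := cm_mem_RR hg hk
    have hm2' : cm g' k' ∈ RR co' := cm_mem_RR hg' hk'
    rw [a5_mul hm2'.1 hm2.1, hm2'.2.2, zero_smul, add_zero, a5_cm_Da hg hk e1, a5_cm_Da hg' hk' e1',
      (h k hk).2, (h k' hk').2, (h g hg).1, (h g' hg').1, hgc, hgc',
      hkc, hkc', smul_smul, div_mul_cancel₀ _ hl0, C.add_selfK]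
  have hz' : cm g' k' * cm g k ∈ RR co' := by rw [same_RR h]; exact hz
  have hzF' : cm g' k' * cm g k ∈ F0 co' := ⟨hz'.1, hz'.2.1, h5', hz'.2.2⟩
  -- the difference is in `E2`
  have hd : (cm g' k' * cm g k)⁻¹ * x ∈ F0 co := mul_mem (inv_mem hzF) hx
  have hd3 : (cx co ((cm g' k' * cm g k)⁻¹ * x)).a3 = 0 := by
    have e := a3_mul (co := co) hz.1 hd.1
    rw [mul_inv_cancel_left, hz.2.2, zero_smul, add_zero, hd.2.1, C.cr_zero_left, add_zero, h3] at e
    simpa using e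
  have hdE : (cm g' k' * cm g k)⁻¹ * x ∈ E2 co := ⟨hd.1, hd.2.1, hd3, hd.2.2.1, hd.2.2.2⟩
  rw [← E2_eq hD co co'] at hdE
  have := mul_mem hzF' (E2_le_F0 hdE)
  rwa [mul_inv_cancel_left] at this

theorem same_F0 (hD : Dat C) (h : Same co co') : F0 co' = F0 co :=
  le_antisymm (F0_le_of_same hD (same_symm h)) (F0_le_of_same hD h)

end Cfsg.Agent.HexRec.SameLay
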