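import Cfsg.Agent.HexGlob.Close
import Cfsg.Agent.HexRec.SameLay

/-!
# The centralizer hypothesis of the recognition

From the output `Lev` of the global analysis: an involution commuting with an element of `F0` outside `E2` is in `L₂`.
-/

set_option autoImplicit false

namespace Cfsg.Agent.HexRec.ToU

open Cfsg.Agent.HexRec Cfsg.Agent.HexEss Cfsg.Agent.HexGlob Subgroup

universe u v

variable {F K : Type v} [Field F] [Field K] [Algebra F K] {C : Cubic F K}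
variable {G : Type u} [Group G] [Finite G] 

theorem a3_ne_zero {P : Subgroup G} {co : Coord C P} {w : G} (hw : w ∈ F0 co) (hwE : w ∉ E2 co) :
    (cx co w).a3 ≠ 0 := fun h => hwE ⟨hw.1, hw.2.1, h, hw.2.2.1, hw.2.2.2⟩

/-- `P` (in fact `Db`) is transitive on the coset `x3(k) E2` -/
theorem exists_conj_x3 {P : Subgroup G} {co : Coord C P} {w : G} (hw : w ∈ F0 co) (hwE : w ∉ E2 co) :
    ∃ s ∈ P, s * (co.x3 (cx co w).a3 : G) * s⁻¹ = w := by
  have hk := a3_ne_zero hw hwE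
  set k := (cx co w).a3 with hkdef
  obtain ⟨t, ht⟩ := C.exists_T_eq hk (cx co w).a2
  obtain ⟨r, hr⟩ := C.exists_T_eq hk (cx co w).a4
  obtain ⟨s, hs, hsc⟩ := exists_cx (co := co) ⟨t, 0, 0, 0, r, 0⟩
  set v : G := (co.x3 k : G) with hv
  have hvP : v ∈ P := (co.x3 k).2
  have hvc : cx co v = ⟨0, 0, k, 0, 0, 0⟩ := by rw [cx_eq hvP]; exact co.e_x3 k
  have hvF : v ∈ F0 co := ⟨hvP, by rw [hvc], by rw [hvc], by rw [hvc]⟩
  have hc : cm s v ∈ E2 co := cm_mem_E2 hs hvF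
  have h2 : (cx co (cm s v)).a2 = (cx co w).a2 := by
    rw [a2_cm_F0 hs hvP hvF.2.1 hvF.2.2.1 hvF.2.2.2, hsc, hvc, C.T_comm]; exact ht
  have h4 : (cx co (cm s v)).a4 = (cx co w).a4 := by
    rw [a4_cm_F0 hs hvP hvF.2.1 hvF.2.2.1 hvF.2.2.2, hsc, hvc, C.T_comm]
    simpa using hr
  refine ⟨s, hs, ?_⟩
  rw [conj_eq_cm_mul]
  have hm : cm s v * v ∈ F0 co := mul_mem (E2_le_F0 hc) hvF
  apply cx_inj (co := co) hm.1 hw.1
  refine Tup.ext ?_ ?_ ?_ ?_ ?_ ?_
  · rw [hm.2.1, hw.2.1]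
  · rw [a2_mul hc.1 hvP, h2, hvc, hc.2.2.2.2]
    simp [C.T_zero_left, C.sh_zero, C.N_zero]
  · rw [a3_mul hc.1 hvP, hvc, hc.2.2.1, hc.2.2.2.2]
    simp [C.cr_zero_left, C.sh_zero, hkdef]
  · rw [a4_mul hc.1 hvP, h4, hvc, hc.2.2.2.1, hc.2.2.2.2]
    simp [C.T_zero_left, C.T_zero_right, C.sh_zero, C.N_zero]
  · rw [hm.2.2.1, hw.2.2.1]
  · rw [hm.2.2.2, hw.2.2.2]

variable {S : Sylow 2 G} {co : Coord C (S : Subgroup G)}

theorem S_le_NDb : (S : Subgroup G) ≤ normalizer ((Db co : Subgroup G) : Set G) :=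
  le_normalizer_of fun n hn x hx => by
    rw [conj_eq_cm_mul]
    exact mul_mem (RR_le_Db (cm_mem_RR hn hx.1)) hx

/-- an involution normalising `Db` is in `L₂` -/
theorem mem_L2_of_normalizer {x : G} (hx : x ∈ normalizer ((Db co : Subgroup G) : Set G)) (hxx : x * x = 1) :
    x ∈ L2 S co := by
  obtain ⟨h, hh, hS⟩ := Close.exists_conj_mem S S_le_NDb hx hxx
  have h1 : h * x * h⁻¹ ∈ L2 S co := Close.S_le_L2 hS
  have h2 := conj_mem_of_le (Close.nS2 (co := co)) (inv_mem hh) h1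
  have e : h⁻¹ * (h * x * h⁻¹) * h⁻¹⁻¹ = x := by group
  rwa [e] at h2

/-- **the centralizer hypothesis** -/
theorem mem_L2 (hcu : ∀ k : K, k ≠ 0 → centralizer ({((co.x3 k : (S : Subgroup G)) : G)} : Set G) ≤
    normalizer ((Db co : Subgroup G) : Set G)) {w : G} (hw : w ∈ F0 co) (hwE : w ∉ E2 co) {x : G}
    (hxx : x * x = 1) (hx : Commute x w) : x ∈ L2 S co := by
  obtain ⟨s, hs, hsw⟩ := exists_conj_x3 hw hwE
  have h1 : s⁻¹ * x * s ∈ centralizer ({((co.x3 (cx co w).a3 : (S : Subgroup G)) : G)} : Set G) := by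
    rw [mem_centralizer_singleton_iff]
    have e : ((co.x3 (cx co w).a3 : (S : Subgroup G)) : G) = s⁻¹ * w * s := by
      conv_rhs => rw [← hsw]
      group
    rw [e]
    have e2 : s⁻¹ * x * s * (s⁻¹ * w * s) = s⁻¹ * (x * w) * s := by group
    have e3 : s⁻¹ * w * s * (s⁻¹ * x * s) = s⁻¹ * (w * x) * s := by group
    rw [e2, e3, hx.eq]
  have h2 := hcu _ (a3_ne_zero hw hwE) h1
  have h3 : x ∈ normalizer ((Db co : Subgroup G) : Set G) := by
    have hsN : s ∈ normalizer ((Db co : Subgroup G) : Set G) := S_le_NDb hs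
    have := mul_mem (mul_mem hsN h2) (inv_mem hsN)
    have e : s * (s⁻¹ * x * s) * s⁻¹ = x := by group
    rwa [e] at this
  exact mem_L2_of_normalizer h3 hxx

theorem mem_L2_of_lev (Λ : Lev S co) {w : G} (hw : w ∈ F0 co) (hwE : w ∉ E2 co) {x : G}
    (hxx : x * x = 1) (hx : Commute x w) : x ∈ L2 S co := mem_L2 Λ.cen.cu hw hwE hxx hx

end Cfsg.Agent.HexRec.ToU
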