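import Cfsg.Agent.HexRec.TorMain
import Cfsg.Agent.HexRec.ToU
import Cfsg.Agent.HexRec.Out

/-!
# From the output of the global analysis to a generating frame
-/

set_option autoImplicit false

namespace Cfsg.Agent.HexRec.FromLev

open Cfsg.Agent.HexRec Cfsg.Agent.HexEss Cfsg.Agent.HexGlob Subgroup

universe u v

variable {F K : Type v} [Field F] [Field K] [Algebra F K] {C : Cubic F K}
variable {G : Type u} [Group G] [Finite G]

theorem E2_eq_of_eq (hD : Dat C) {P P' : Subgroup G} (h : P' = P) (co : Coord C P) (co' : Coord C P') :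
    E2 co' = E2 co := by
  subst h
  exact SameLay.E2_eq hD _ _

theorem mem_RR_iff {P : Subgroup G} {co : Coord C P} {x : G} : x ∈ RR co ↔ x ∈ Da co ∧ x ∈ Db co :=
  ⟨fun h => ⟨RR_le_Da h, RR_le_Db h⟩, fun h => ⟨h.1.1, h.1.2, h.2.2⟩⟩

/-- the hypothesis on the degree -/
theorem cr_alt (hD : Dat C) : (∀ t, (∀ r, C.cr t r = 0) → t = 0) ∨
    ((∀ t r, C.cr t r = 0) ∧ Function.Surjective (algebraMap F K)) := by
  rcases hD.deg with h | h
  · right
    refine ⟨fun t r => ?_, h⟩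
    obtain ⟨f, rfl⟩ := h t
    obtain ⟨g, rfl⟩ := h r
    have e : ∀ x : F, algebraMap F K x = x • (1 : K) := fun x => Algebra.algebraMap_eq_smul_one x
    have e1 := hD.reg (algebraMap F K g)
    rw [e f, cr_smul_left, e1, e g, map_smul, C.tr_one, smul_eq_mul, mul_one, e g, C.add_selfK, smul_zero]
  · left
    intro t ht
    by_contra h0
    have h1 : Module.finrank F K ≤ 1 := by
      apply finrank_le_one t
      intro r
      obtain ⟨f, hf⟩ := exists_smul_of_cr_eq_zero hD.reg h0 (ht r)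
      exact ⟨f, hf.symm⟩
    omega

variable {S : Sylow 2 G} {co : Coord C (S : Subgroup G)}

/-- elements of `RR` centralised by `L₂` modulo `E2` are in `F0` -/
theorem mem_F0_of_triv (Λ : Lev S co) {x : G} (hx : x ∈ RR co) (h : ∀ l ∈ L2 S co, cm l x ∈ E2 co) :
    x ∈ F0 co := by
  obtain ⟨n, hn, hnZ⟩ := Λ.out2.ex
  obtain ⟨l, hl, s, hs, rfl⟩ := Λ.frat2 n hn
  have hlZ : l ∉ normalizer ((Z co : Subgroup G) : Set G) := fun h' => hnZ (mul_mem h' (Λ.ns.nZ hs))
  have hlN : l ∈ normalizer ((Db co : Subgroup G) : Set G) :=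
    conjClosure_le_self ToU.S_le_NDb hl
  apply mem_F0_of_cm_eq_one hx.1
  intro w hw
  have h1 : cm x w ∈ Z co := Facts.mem_Z_of_RR_F0 hx hw
  by_contra hne
  apply hlZ
  apply Λ.out2.ti l hlN _ h1 hne
  rw [conj_cm]
  apply Facts.mem_Z_of_RR_F0
  · rw [conj_eq_cm_mul]
    exact mul_mem (E2_le_RR (h l hl)) hx
  · exact conj_mem_of_le Λ.out2.inv hlN hw

/-- the input of the torus construction -/
noncomputable def parIn (Λ : Lev S co) : TorMain.ParIn C G where
  S := (S : Subgroup G)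
  E := co
  L1 := L1 S co
  L2 := L2 S co
  S_le1 := Close.S_le_L1
  S_le2 := Close.S_le_L2
  p1 := Λ.p1
  p2 := Λ.p2
  p1_surj := Λ.p1_surj
  p2_surj := Λ.p2_surj
  p1_ker := Λ.p1_ker
  p2_ker := Λ.p2_ker
  n1 := by
    intro b _ hS
    have hb : b ∈ normalizer ((S : Subgroup G) : Set G) := by
      have h1 : closure {b} ≤ normalizer ((S : Subgroup G) : Set G) := by
        rw [closure_le]
        rintro _ rfl
        exact Cfsg.Agent.Lib.GoldschmidtFusion.mem_normalizer_iff_map_conj.2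
          (Subgroup.eq_of_le_of_card_ge (by rintro _ ⟨x, hx, rfl⟩; exact hS x hx) (by
            rw [← Nat.card_congr ((S : Subgroup G).equivMapOfInjective (MulAut.conj _).toMonoidHom
              (MulAut.conj _).injective).toEquiv]))
      exact h1 (subset_closure rfl)
    refine ⟨fun g hg => conj_mem_of_le Λ.ns.nDb hb hg, fun g hg => ?_⟩
    exact conj_mem_of_le (Λ.ns.nDb.trans Λ.nS2) hb hg
  n2 := by
    intro b _ hS
    have hb : b ∈ normalizer ((S : Subgroup G) : Set G) := by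
      have h1 : closure {b} ≤ normalizer ((S : Subgroup G) : Set G) := by
        rw [closure_le]
        rintro _ rfl
        exact Cfsg.Agent.Lib.GoldschmidtFusion.mem_normalizer_iff_map_conj.2
          (Subgroup.eq_of_le_of_card_ge (by rintro _ ⟨x, hx, rfl⟩; exact hS x hx) (by
            rw [← Nat.card_congr ((S : Subgroup G).equivMapOfInjective (MulAut.conj _).toMonoidHom
              (MulAut.conj _).injective).toEquiv]))
      exact h1 (subset_closure rfl)
    refine ⟨fun g hg => conj_mem_of_le Λ.ns.nDa hb hg, fun g hg => ?_⟩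
    exact conj_mem_of_le (Λ.ns.nDa.trans Λ.nS1) hb hg

/-- **the recognition**: from the output of the global analysis to a generating frame -/
theorem exists_frame [Finite F] [Finite K] (hD : Dat C) (Λ : Lev S co) :
    ∃ Φ : Frame C G, Subgroup.closure ((Φ.S : Set G) ∪ {Φ.na, Φ.nb}) = ⊤ ∧ Φ.S = (S : Subgroup G) := by
  obtain ⟨Q, hQS, hQ1, hQ2, ha, hb, htriv⟩ := (parIn Λ).exists_par hD.q4 (cr_alt hD)
  change Q.S = (S : Subgroup G) at hQS
  change Q.L1 = L1 S co at hQ1
  change Q.L2 = L2 S co at hQ2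
  change Da Q.E = Da co at ha
  change Db Q.E = Db co at hb
  have hE : E2 Q.E = E2 co := E2_eq_of_eq hD hQS co Q.E
  have hxS : (Q.E.x3 1 : G) ∈ Q.S := (Q.E.x3 1).2
  have hxc : cx Q.E (Q.E.x3 1 : G) = ⟨0, 0, 1, 0, 0, 0⟩ := by rw [cx_eq hxS]; exact Q.E.e_x3 1
  have hx0 : (Q.E.x3 1 : G) ∈ F0 Q.E := ⟨hxS, by rw [hxc], by rw [hxc], by rw [hxc]⟩
  have hxR : (Q.E.x3 1 : G) ∈ RR co := by
    rw [mem_RR_iff, ← ha, ← hb]
    exact ⟨F0_le_Da hx0, F0_le_Db hx0⟩
  have hx1 : (Q.E.x3 1 : G) ∈ F0 co := by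
    apply mem_F0_of_triv Λ hxR
    intro l hl
    rw [← hE]
    exact htriv l (by rw [hQ2]; exact hl) _ hx0
  have hx2 : (Q.E.x3 1 : G) ∉ E2 co := by
    rw [← hE]
    rintro ⟨-, -, h3, -⟩
    rw [hxc] at h3
    exact one_ne_zero h3
  obtain ⟨Φ, h1, h2⟩ := Q.exists_frame (by
      obtain ⟨l, hl0, hl1⟩ := Facts.exists_scalar hD
      exact ⟨Units.mk0 l hl0, fun h => hl1 (congrArg Units.val h)⟩)
    (fun x hxx hx => by
      rw [hQ2]
      exact ToU.mem_L2_of_lev Λ hx1 hx2 hxx hx)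
    (by rw [hQ1, hQ2]; exact Λ.gen)
  exact ⟨Φ, h1, h2.trans hQS⟩

end Cfsg.Agent.HexRec.FromLev
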