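import Mathlib

/-!
# The graph theorem (rank two)

Two groups `G`, `G'`, a "Borel" isomorphism given as a subgroup `D₀` of `G × G'`, and elements
`n i ∈ G`, `n' i ∈ G'` (`i : Fin 2`).  Under the usual rank two `BN`-pair rules for the pairs and the
braid relation, the subgroup of `G × G'` generated by everything is the union of the double cosets of the
alternating words of length `≤ m`; hence it is the graph of an isomorphism.
-/

set_option autoImplicit false

namespace Cfsg.Agent.HexRec.Graph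

/-- the alternating word `n i * n (1-i) * n i * ...` of length `k` -/
def alt {Γ : Type*} [Group Γ] (n : Bool → Γ) : Bool → ℕ → Γ
  | _, 0 => 1
  | i, (k+1) => n i * alt n (!i) k

def alt_eqdef := @alt.eq_def
def alt_ind := @alt.induct

theorem alt_zero {Γ : Type*} [Group Γ] (n : Bool → Γ) (i : Bool) : alt n i 0 = 1 := rfl

theorem alt_succ {Γ : Type*} [Group Γ] (n : Bool → Γ) (i : Bool) (k : ℕ) :
    alt n i (k+1) = n i * alt n (!i) k := rfl

theorem map_alt {Γ Δ : Type*} [Group Γ] [Group Δ] (f : Γ →* Δ) (n : Bool → Γ) (i : Bool) (k : ℕ) :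
    f (alt n i k) = alt (fun j => f (n j)) i k := by
  induction k generalizing i with
  | zero => simp [alt_zero]
  | succ k ih => simp [alt_succ, ih]

/-- the rules of a rank two `BN`-like configuration in a group `Γ`: `X i ⊆ B` arbitrary sets -/
structure Rules {Γ : Type*} [Group Γ] (B : Subgroup Γ) (n : Bool → Γ) (X : Bool → Set Γ) (m : ℕ) : Prop where
  /-- every `b ∈ B` is `c * x` with `n i c (n i)⁻¹ ∈ B`, `x ∈ X i` -/
  factor : ∀ i, ∀ b ∈ B, ∃ c ∈ B, ∃ x ∈ X i, b = c * x ∧ n i * c * (n i)⁻¹ ∈ B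
  X_le : ∀ i, X i ⊆ (B : Set Γ)
  /-- for a word `w = alt (!i) k` of length `k < m` the set `X i` is carried into `B` by `w⁻¹` -/
  chain : ∀ i k, k < m → ∀ x ∈ X i, (alt n (!i) k)⁻¹ * x * alt n (!i) k ∈ B
  /-- rank one rule -/
  rankOne : ∀ i, ∀ x ∈ X i, n i * x * n i ∈ B ∨ ∃ b₁ ∈ B, ∃ b₂ ∈ B, n i * x * n i = b₁ * n i * b₂
  /-- braid relation -/
  braid : ∀ i, ∃ b₁ ∈ B, ∃ b₂ ∈ B, alt n i m = b₁ * alt n (!i) m * b₂
  one_le : 1 ≤ m

namespace Rules

variable {Γ : Type*} [Group Γ] {B : Subgroup Γ} {n : Bool → Γ} {X : Bool → Set Γ} {m : ℕ}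

/-- the union of double cosets -/
def cell (B : Subgroup Γ) (n : Bool → Γ) (m : ℕ) : Set Γ :=
  {g | ∃ i : Bool, ∃ k ≤ m, ∃ b₁ ∈ B, ∃ b₂ ∈ B, g = b₁ * alt n i k * b₂}

theorem up (R : Rules B n X m) {i : Bool} {k : ℕ} (hk : k < m) {b : Γ} (hb : b ∈ B) :
    ∃ b₁ ∈ B, ∃ b₂ ∈ B, n i * b * alt n (!i) k = b₁ * alt n i (k+1) * b₂ := by
  obtain ⟨c, hc, x, hx, rfl, hn⟩ := R.factor i b hb
  refine ⟨_, hn, _, R.chain i k hk x hx, ?_⟩
  rw [alt_succ]
  group

theorem n_mul_cell (R : Rules B n X m) (i : Bool) {g : Γ} (hg : g ∈ cell B n m) :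
    n i * g ∈ cell B n m := by
  -- normalise: we may assume the word starts with `n i` or has length `< m`
  obtain ⟨j, k, hk, b₁, hb₁, b₂, hb₂, rfl⟩ := hg
  -- case of a word starting with the other letter and length < m
  have key : ∀ k < m, ∀ b₁ ∈ B, ∀ b₂ ∈ B, n i * (b₁ * alt n (!i) k * b₂) ∈ cell B n m := by
    intro k hk b₁ hb₁ b₂ hb₂
    obtain ⟨c, hc, d, hd, h⟩ := R.up hk hb₁
    refine ⟨i, k+1, hk, c, hc, d * b₂, mul_mem hd hb₂, ?_⟩
    calc n i * (b₁ * alt n (!i) k * b₂) = (n i * b₁ * alt n (!i) k) * b₂ := by group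
      _ = _ := by rw [h]; group
  -- case of a word starting with the letter `i`
  have key2 : ∀ k ≤ m, ∀ b₁ ∈ B, ∀ b₂ ∈ B, n i * (b₁ * alt n i k * b₂) ∈ cell B n m := by
    intro k hk b₁ hb₁ b₂ hb₂
    cases k with
    | zero =>
      have := key 0 R.one_le b₁ hb₁ b₂ hb₂
      simpa [alt_zero] using this
    | succ k =>
      obtain ⟨c, hc, x, hx, rfl, hn⟩ := R.factor i b₁ hb₁
      rw [alt_succ]
      have e : n i * (c * x * (n i * alt n (!i) k) * b₂) =
          (n i * c * (n i)⁻¹) * ((n i * x * n i) * alt n (!i) k * b₂) := by group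
      rw [e]
      have hcl : ∀ c ∈ B, ∀ g ∈ cell B n m, c * g ∈ cell B n m := by
        rintro c hc _ ⟨j, k, hk, b₁, hb₁, b₂, hb₂, rfl⟩
        exact ⟨j, k, hk, c * b₁, mul_mem hc hb₁, b₂, hb₂, by group⟩
      refine hcl _ hn _ ?_
      rcases R.rankOne i x hx with h | ⟨d₁, hd₁, d₂, hd₂, h⟩
      · exact ⟨!i, k, by omega, _, h, b₂, hb₂, rfl⟩
      · rw [h]
        have e2 : d₁ * n i * d₂ * alt n (!i) k * b₂ = d₁ * (n i * (d₂ * alt n (!i) k * b₂)) := by group
        rw [e2]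
        exact hcl _ hd₁ _ (key k (by omega) d₂ hd₂ b₂ hb₂)
  by_cases hji : j = i
  · subst hji; exact key2 k hk b₁ hb₁ b₂ hb₂
  · have hj : j = !i := by cases i <;> cases j <;> simp_all
    subst hj
    rcases Nat.lt_or_ge k m with h | h
    · exact key k h b₁ hb₁ b₂ hb₂
    · have hkm : k = m := le_antisymm hk h
      subst hkm
      obtain ⟨c, hc, d, hd, h3⟩ := R.braid (!i)
      rw [Bool.not_not] at h3
      rw [h3]
      have e : b₁ * (c * alt n i k * d) * b₂ = (b₁ * c) * alt n i k * (d * b₂) := by group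
      rw [e]
      exact key2 k le_rfl _ (mul_mem hb₁ hc) _ (mul_mem hd hb₂)

theorem n_inv (R : Rules B n X m) (hsq : ∀ i, n i * n i ∈ B) (i : Bool) {g : Γ} (hg : g ∈ cell B n m) :
    (n i)⁻¹ * g ∈ cell B n m := by
  have h1 := R.n_mul_cell i hg
  have e : (n i)⁻¹ * g = (n i * n i)⁻¹ * (n i * g) := by group
  rw [e]
  obtain ⟨j, k, hk, b₁, hb₁, b₂, hb₂, h⟩ := h1
  rw [h]
  exact ⟨j, k, hk, (n i * n i)⁻¹ * b₁, mul_mem (inv_mem (hsq i)) hb₁, b₂, hb₂, by group⟩

/-- the group generated by `B` and the `n i` is contained in the union of the double cosets -/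
theorem closure_le (R : Rules B n X m) (hsq : ∀ i, n i * n i ∈ B) :
    ((B ⊔ Subgroup.closure (Set.range n) : Subgroup Γ) : Set Γ) ⊆ cell B n m := by
  intro g hg
  have hg' : g ∈ Subgroup.closure ((B : Set Γ) ∪ Set.range n) := by
    rw [Subgroup.closure_union, Subgroup.closure_eq]; exact hg
  refine Subgroup.closure_induction_left (p := fun g _ => g ∈ cell B n m) ?_ ?_ ?_ hg'
  · exact ⟨false, 0, Nat.zero_le _, 1, one_mem _, 1, one_mem _, by simp [alt_zero]⟩
  · rintro x hx y _ hy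
    rcases hx with hx | ⟨i, rfl⟩
    · obtain ⟨j, k, hk, b₁, hb₁, b₂, hb₂, rfl⟩ := hy
      exact ⟨j, k, hk, x * b₁, mul_mem hx hb₁, b₂, hb₂, by group⟩
    · exact R.n_mul_cell i hy
  · rintro x hx y _ hy
    rcases hx with hx | ⟨i, rfl⟩
    · obtain ⟨j, k, hk, b₁, hb₁, b₂, hb₂, rfl⟩ := hy
      exact ⟨j, k, hk, x⁻¹ * b₁, mul_mem (inv_mem hx) hb₁, b₂, hb₂, by group⟩
    · exact R.n_inv hsq i hy

end Rules

/-- **Graph theorem.** `D₀ ≤ G × G'` is the graph of an isomorphism between subgroups (both projections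
injective), `n = (n₁, n₂)`, and the rules hold in `G × G'`.  If `G'` is generated by the second projections,
no alternating word of length `1 ≤ k ≤ m` of `G'` lies in the second projection of `D₀`, and `G'` is simple,
then the first projection of the generated subgroup is isomorphic to `G'`. -/
theorem nonempty_mulEquiv {G G' : Type*} [Group G] [Group G'] [IsSimpleGroup G']
    {D₀ : Subgroup (G × G')} {n : Bool → G × G'} {X : Bool → Set (G × G')} {m : ℕ}
    (R : Rules D₀ n X m) (hsq : ∀ i, n i * n i ∈ D₀)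
    (h₁ : ∀ d ∈ D₀, d.1 = 1 → d = 1) (h₂ : ∀ d ∈ D₀, d.2 = 1 → d = 1) (hne : D₀ ≠ ⊥)
    (hB : ∀ i k, 1 ≤ k → k ≤ m → alt (fun j => (n j).2) i k ∉ D₀.map (MonoidHom.snd G G'))
    (hgen : (D₀ ⊔ Subgroup.closure (Set.range n)).map (MonoidHom.snd G G') = ⊤) :
    Nonempty (((D₀ ⊔ Subgroup.closure (Set.range n)).map (MonoidHom.fst G G')) ≃* G') := by
  set D := D₀ ⊔ Subgroup.closure (Set.range n) with hD
  -- elements of `D` with trivial second coordinate are trivial
  have inj₂ : ∀ d ∈ D, d.2 = 1 → d = 1 := by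
    intro d hd h2
    obtain ⟨i, k, hk, b₁, hb₁, b₂, hb₂, h⟩ := R.closure_le hsq hd
    rcases Nat.eq_zero_or_pos k with h0 | hpos
    · subst h0
      rw [alt_zero, mul_one] at h
      exact h₂ d (h ▸ mul_mem hb₁ hb₂) h2
    · exfalso
      apply hB i k hpos hk
      have h3 : (1 : G') = b₁.2 * alt (fun j => (n j).2) i k * b₂.2 := by
        have := congrArg (MonoidHom.snd G G') h
        rw [map_mul, map_mul, map_alt] at this
        simpa [h2] using this
      have h4 : alt (fun j => (n j).2) i k = b₁.2⁻¹ * b₂.2⁻¹ := by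
        have : b₁.2⁻¹ * 1 * b₂.2⁻¹ = alt (fun j => (n j).2) i k := by rw [h3]; group
        rw [← this]; group
      rw [h4]
      exact ⟨b₁⁻¹ * b₂⁻¹, mul_mem (inv_mem hb₁) (inv_mem hb₂), rfl⟩
  -- the second projection is an isomorphism `D ≃* G'`
  let f : D →* G' := (MonoidHom.snd G G').comp D.subtype
  have finj : Function.Injective f := by
    rw [injective_iff_map_eq_one]
    rintro ⟨d, hd⟩ h
    exact Subtype.ext (inj₂ d hd h)
  have fsurj : Function.Surjective f := by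
    intro g
    have : g ∈ D.map (MonoidHom.snd G G') := by rw [hgen]; trivial
    obtain ⟨d, hd, rfl⟩ := this
    exact ⟨⟨d, hd⟩, rfl⟩
  let e : D ≃* G' := MulEquiv.ofBijective f ⟨finj, fsurj⟩
  -- the kernel of the first projection
  let g₁ : D →* G := (MonoidHom.fst G G').comp D.subtype
  have hk : g₁.ker = ⊥ := by
    have hsimple : IsSimpleGroup D := e.isSimpleGroup
    rcases hsimple.eq_bot_or_eq_top_of_normal g₁.ker inferInstance with h | h
    · exact h
    · exfalso
      apply hne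
      rw [eq_bot_iff]
      intro d hd
      have h1 : (⟨d, (le_sup_left : D₀ ≤ D) hd⟩ : D) ∈ g₁.ker := by rw [h]; trivial
      exact h₁ d hd h1
  have hr : g₁.range = D.map (MonoidHom.fst G G') := by
    rw [MonoidHom.range_comp]
    simp
  have e1 : D ≃* g₁.range := MonoidHom.ofInjective ((MonoidHom.ker_eq_bot_iff g₁).1 hk)
  exact ⟨(MulEquiv.subgroupCongr hr.symm).trans (e1.symm.trans e)⟩

end Cfsg.Agent.HexRec.Graph
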