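import Cfsg.Agent.HexRec.Coord
import Cfsg.Agent.HexRec.Graph

/-!
# Frames: the interface of the recognition of `G₂(q)` and `³D₄(q)`

`Torus C G` : a subgroup `S` with coordinates and a torus `h : Kˣ × Fˣ →* G` acting by the graded formulas.
`Frame C G` : moreover the two Weyl elements `na`, `nb`, their action, the rank one relations and the braid
relation.  Main theorem `Frame.nonempty_mulEquiv`: two groups generated by frames over the same cubic data are
isomorphic if one of them is simple (`4 ≤ |F|`).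
-/

set_option autoImplicit false

namespace Cfsg.Agent.HexRec

variable {F K : Type*} [Field F] [Field K] [Algebra F K]

namespace Cubic

variable (C : Cubic F K)

/-- the norm on units -/
def Nu : Kˣ →* Fˣ where
  toFun a := Units.mk0 (C.N a) (C.N_ne_zero a.ne_zero)
  map_one' := by ext; simp [C.N_one]
  map_mul' a b := by ext; simp [C.N_mul]

@[simp] theorem coe_Nu (a : Kˣ) : ((C.Nu a : Fˣ) : F) = C.N a := rfl

theorem Nu_map (u : Fˣ) : C.Nu (Units.map (algebraMap F K : F →* K) u) = u ^ 3 := by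
  ext
  apply (algebraMap F K).injective
  simp only [coe_Nu, C.N_map, Units.coe_map, MonoidHom.coe_coe, C.sh_map, Units.val_pow_eq_pow_val, map_pow]
  ring

end Cubic

/-- a group `S` with coordinates and a graded torus -/
structure Torus (C : Cubic F K) (G : Type*) [Group G] where
  S : Subgroup G
  E : Coord C S
  h : Kˣ × Fˣ →* G
  h_inj : Function.Injective h
  conj1 : ∀ (a : Kˣ) (m : Fˣ) (t : K), h (a, m) * (E.x1 t : G) * (h (a, m))⁻¹ = (E.x1 (a * t) : G)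
  conj2 : ∀ (a : Kˣ) (m : Fˣ) (t : F), h (a, m) * (E.x2 t : G) * (h (a, m))⁻¹ = (E.x2 (C.N a * m * t) : G)
  conj3 : ∀ (a : Kˣ) (m : Fˣ) (t : K), h (a, m) * (E.x3 t : G) * (h (a, m))⁻¹ =
    (E.x3 (C.sh a * algebraMap F K m * t) : G)
  conj4 : ∀ (a : Kˣ) (m : Fˣ) (t : F), h (a, m) * (E.x4 t : G) * (h (a, m))⁻¹ = (E.x4 (C.N a * m ^ 2 * t) : G)
  conj5 : ∀ (a : Kˣ) (m : Fˣ) (t : K), h (a, m) * (E.x5 t : G) * (h (a, m))⁻¹ =
    (E.x5 (a * algebraMap F K m * t) : G)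
  conj6 : ∀ (a : Kˣ) (m : Fˣ) (t : F), h (a, m) * (E.x6 t : G) * (h (a, m))⁻¹ = (E.x6 (m * t) : G)

/-- a torus with Weyl elements `na`, `nb` satisfying the relations of `G₂(q)` or `³D₄(q)` -/
structure Frame (C : Cubic F K) (G : Type*) [Group G] extends Torus C G where
  na : G
  nb : G
  na_sq : na * na = 1
  nb_sq : nb * nb = 1
  na_h : ∀ (a : Kˣ) (m : Fˣ), na * h (a, m) * na = h (a⁻¹, C.Nu a * m)
  nb_h : ∀ (a : Kˣ) (m : Fˣ), nb * h (a, m) * nb = h (a * Units.map (algebraMap F K : F →* K) m, m⁻¹)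
  na_x2 : ∀ t, na * (E.x2 t : G) * na = (E.x6 t : G)
  na_x3 : ∀ t, na * (E.x3 t : G) * na = (E.x5 t : G)
  na_x4 : ∀ t, na * (E.x4 t : G) * na = (E.x4 t : G)
  nb_x1 : ∀ t, nb * (E.x1 t : G) * nb = (E.x5 t : G)
  nb_x2 : ∀ t, nb * (E.x2 t : G) * nb = (E.x4 t : G)
  nb_x3 : ∀ t, nb * (E.x3 t : G) * nb = (E.x3 t : G)
  rank1a : ∀ t : Kˣ, na * (E.x1 t : G) * na =
    (E.x1 (t⁻¹ : Kˣ) : G) * h (t⁻¹ ^ 2, C.Nu t) * na * (E.x1 (t⁻¹ : Kˣ) : G)
  rank1b : ∀ t : Fˣ, nb * (E.x6 t : G) * nb =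
    (E.x6 (t⁻¹ : Fˣ) : G) * h (Units.map (algebraMap F K : F →* K) t, t⁻¹ ^ 2) * nb * (E.x6 (t⁻¹ : Fˣ) : G)
  braid : (na * nb) ^ 6 = 1

namespace Coord

variable {C : Cubic F K} {S : Type*} [Group S] (E : Coord C S)

theorem x1_zero : E.x1 0 = 1 := by
  apply E.ext <;> simp [e_x1, E.one_a1, E.one_a2, E.one_a3, E.one_a4, E.one_a5, E.one_a6]
theorem x6_zero : E.x6 0 = 1 := by
  apply E.ext <;> simp [e_x6, E.one_a1, E.one_a2, E.one_a3, E.one_a4, E.one_a5, E.one_a6]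

variable {S' : Type*} [Group S'] (E' : Coord C S')

/-- two groups with the same coordinates are isomorphic -/
def iso : S ≃* S' where
  toEquiv := E.e.trans E'.e.symm
  map_mul' g h := by
    apply E'.e.injective
    simp [E.map_mul, E'.map_mul]

@[simp] theorem e_iso (s : S) : E'.e (E.iso E' s) = E.e s := E'.e.apply_symm_apply _

theorem iso_x1 (t : K) : E.iso E' (E.x1 t) = E'.x1 t := E'.e.injective (by rw [e_iso, e_x1, e_x1])
theorem iso_x2 (t : F) : E.iso E' (E.x2 t) = E'.x2 t := E'.e.injective (by rw [e_iso, e_x2, e_x2])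
theorem iso_x3 (t : K) : E.iso E' (E.x3 t) = E'.x3 t := E'.e.injective (by rw [e_iso, e_x3, e_x3])
theorem iso_x4 (t : F) : E.iso E' (E.x4 t) = E'.x4 t := E'.e.injective (by rw [e_iso, e_x4, e_x4])
theorem iso_x5 (t : K) : E.iso E' (E.x5 t) = E'.x5 t := E'.e.injective (by rw [e_iso, e_x5, e_x5])
theorem iso_x6 (t : F) : E.iso E' (E.x6 t) = E'.x6 t := E'.e.injective (by rw [e_iso, e_x6, e_x6])

end Coord

end Cfsg.Agent.HexRec
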