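import Cfsg.Agent.HexRec.WeylA

/-!
# The action of the first Weyl element on the root groups
-/

set_option autoImplicit false

namespace Cfsg.Agent.HexRec

open Matrix
open Cfsg.Agent.ClassTwo.Sp4Defs Cfsg.Agent.ClassTwo.Sp4SL2

variable {F K : Type*} [Field F] [Field K] [Algebra F K] {C : Cubic F K}

namespace Coord

variable {S : Type*} [Group S] (E : Coord C S)

/-- change of coordinates by the central automorphism `x6(t) ↦ x4(c t²) x6(t)` -/
def twist (c : F) : Coord C S where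
  e :=
    { toFun := fun s => { E.e s with a4 := (E.e s).a4 + c * (E.e s).a6 ^ 2 }
      invFun := fun t => E.e.symm { t with a4 := t.a4 + c * t.a6 ^ 2 }
      left_inv := fun s => by
        apply E.e.injective
        rw [Equiv.apply_symm_apply]
        apply Tup.ext <;> simp only
        linear_combination (c * (E.e s).a6 ^ 2) * C.two_F
      right_inv := fun t => by
        apply Tup.ext <;> simp only [Equiv.apply_symm_apply]
        linear_combination (c * t.a6 ^ 2) * C.two_F }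
  map_mul g h := by
    apply Tup.ext
    · simp only [Equiv.coe_fn_mk, E.map_mul, Cubic.mul]
    · simp only [Equiv.coe_fn_mk, E.map_mul, Cubic.mul]
    · simp only [Equiv.coe_fn_mk, E.map_mul, Cubic.mul]
    · simp only [Equiv.coe_fn_mk, E.map_mul, Cubic.mul]
      linear_combination (c * (E.e g).a6 * (E.e h).a6) * C.two_F
    · simp only [Equiv.coe_fn_mk, E.map_mul, Cubic.mul]
    · simp only [Equiv.coe_fn_mk, E.map_mul, Cubic.mul]

theorem twist_e (c : F) (s : S) : (E.twist c).e s = { E.e s with a4 := (E.e s).a4 + c * (E.e s).a6 ^ 2 } := rfl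

theorem twist_x1 (c : F) (t : K) : (E.twist c).x1 t = E.x1 t := by
  apply (E.twist c).e.injective
  rw [e_x1, twist_e, e_x1]; simp
theorem twist_x2 (c : F) (t : F) : (E.twist c).x2 t = E.x2 t := by
  apply (E.twist c).e.injective
  rw [e_x2, twist_e, e_x2]; simp
theorem twist_x3 (c : F) (t : K) : (E.twist c).x3 t = E.x3 t := by
  apply (E.twist c).e.injective
  rw [e_x3, twist_e, e_x3]; simp
theorem twist_x4 (c : F) (t : F) : (E.twist c).x4 t = E.x4 t := by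
  apply (E.twist c).e.injective
  rw [e_x4, twist_e, e_x4]; simp
theorem twist_x5 (c : F) (t : K) : (E.twist c).x5 t = E.x5 t := by
  apply (E.twist c).e.injective
  rw [e_x5, twist_e, e_x5]; simp
theorem twist_x6 (c : F) (t : F) : (E.twist c).x6 t = E.x4 (c * t ^ 2) * E.x6 t := by
  apply (E.twist c).e.injective
  rw [e_x6, twist_e]
  apply Tup.ext <;>
  simp [E.mul_a1, E.mul_a2, E.mul_a3, E.mul_a4, E.mul_a5, E.mul_a6, e_x4, e_x6,
    C.T_zero_left, C.cr_zero_left, C.sh_zero, C.N_zero, C.add_self]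

end Coord

/-- change of coordinates of a torus -/
def Torus.twist {G : Type*} [Group G] (Φ : Torus C G) (c : F) (hc : c = 0 ∨ ∀ a : Kˣ, C.N a = 1) : Torus C G where
  S := Φ.S
  E := Φ.E.twist c
  h := Φ.h
  h_inj := Φ.h_inj
  conj1 a m t := by rw [Coord.twist_x1, Coord.twist_x1]; exact Φ.conj1 a m t
  conj2 a m t := by rw [Coord.twist_x2, Coord.twist_x2]; exact Φ.conj2 a m t
  conj3 a m t := by rw [Coord.twist_x3, Coord.twist_x3]; exact Φ.conj3 a m t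
  conj4 a m t := by rw [Coord.twist_x4, Coord.twist_x4]; exact Φ.conj4 a m t
  conj5 a m t := by rw [Coord.twist_x5, Coord.twist_x5]; exact Φ.conj5 a m t
  conj6 a m t := by
    rw [Coord.twist_x6, Coord.twist_x6, Subgroup.coe_mul, Subgroup.coe_mul]
    have e : ∀ g x y : G, g * (x * y) * g⁻¹ = (g * x * g⁻¹) * (g * y * g⁻¹) := by intros; group
    rw [e, Φ.conj4, Φ.conj6]
    rcases hc with rfl | hN
    · simp
    · rw [hN]
      congr 3
      ring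

/-- change of coordinates of a pair of parabolics -/
def Par.twist {G : Type*} [Group G] (P : Par C G) (c : F) (hc : c = 0 ∨ ∀ a : Kˣ, C.N a = 1) : Par C G where
  toTorus := P.toTorus.twist c hc
  L1 := P.L1
  L2 := P.L2
  S_le1 := P.S_le1
  S_le2 := P.S_le2
  h_L1 := P.h_L1
  h_L2 := P.h_L2
  p1 := P.p1
  p2 := P.p2
  p1_surj := P.p1_surj
  p2_surj := P.p2_surj
  p1_ker := P.p1_ker
  p2_ker := P.p2_ker
  p1_x1 t g hg := by
    apply P.p1_x1
    rw [hg]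
    exact congrArg _ (Coord.twist_x1 P.E c t)
  p2_x6 t g hg := by
    have h4 : ((P.E.x4 (c * t ^ 2) : P.S) : G) ∈ P.L2 := P.S_le2 (SetLike.coe_mem _)
    have h6 : ((P.E.x6 t : P.S) : G) ∈ P.L2 := P.S_le2 (SetLike.coe_mem _)
    have hg' : g = ⟨_, h4⟩ * ⟨_, h6⟩ := by
      apply Subtype.ext
      rw [hg]
      exact congrArg _ (Coord.twist_x6 P.E c t)
    rw [hg', map_mul, P.p2_x6 t ⟨_, h6⟩ rfl, (P.p2_ker ⟨_, h4⟩).2 ⟨_, rfl, ?_⟩, one_mul]
    rw [Coord.e_x4]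
  ha_mem := P.ha_mem
  hb_mem := P.hb_mem
  p1_h := P.p1_h
  p2_h := P.p2_h
  L1_x4 g hg t := by
    have := P.L1_x4 g hg t
    have e : (((P.toTorus.twist c hc).E.x4 t : P.S) : G) = (P.E.x4 t : G) :=
      congrArg _ (Coord.twist_x4 P.E c t)
    exact (e ▸ this : _)

/-- the Weyl element of `L1` -/
structure WA {G : Type*} [Group G] (P : Par C G) where
  n : G
  mem : n ∈ P.L1
  p_n : P.p1 ⟨n, mem⟩ = w K
  sq : n * n = 1
  cube : (n * P.E.x1 1) ^ 3 = 1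
  act_h : ∀ a m, n * P.h (a, m) * n = P.h (a⁻¹, C.Nu a * m)

theorem Par.exists_WA {G : Type*} [Group G] (P : Par C G) [Finite G] [Finite F] [Finite K]
    (hF : ∃ m : Fˣ, m ≠ 1) : Nonempty (WA P) := by
  obtain ⟨n, h0, h1, h2, h3⟩ := P.exists_na hF
  exact ⟨⟨n, n.2, h0, h1, h2, h3⟩⟩

namespace WA

open Par

variable {G : Type*} [Group G] {P : Par C G} (W : WA P)

theorem inv : W.n⁻¹ = W.n := inv_eq_of_mul_eq_one_right W.sq

theorem exists_conj {s : P.S} (hs : (P.E.e s).a1 = 0) :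
    ∃ s' : P.S, (s' : G) = W.n * s * W.n ∧ (P.E.e s').a1 = 0 := by
  have := P.L1_Q1 W.mem (P.mem_Q1.2 ⟨s, rfl, hs⟩)
  rw [W.inv] at this
  exact P.mem_Q1.1 this

open Classical in
/-- conjugation by `n` on `{a1 = 0}` -/
noncomputable def cn (s : P.S) : P.S := if h : (P.E.e s).a1 = 0 then (W.exists_conj h).choose else 1

theorem cn_coe {s : P.S} (hs : (P.E.e s).a1 = 0) : (W.cn s : G) = W.n * s * W.n := by
  rw [cn, dif_pos hs]; exact (W.exists_conj hs).choose_spec.1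

theorem cn_a1 {s : P.S} (hs : (P.E.e s).a1 = 0) : (P.E.e (W.cn s)).a1 = 0 := by
  rw [cn, dif_pos hs]; exact (W.exists_conj hs).choose_spec.2

theorem cn_mul {s t : P.S} (hs : (P.E.e s).a1 = 0) (ht : (P.E.e t).a1 = 0) :
    W.cn (s * t) = W.cn s * W.cn t := by
  apply Subtype.ext
  rw [W.cn_coe (by rw [P.E.mul_a1, hs, ht, add_zero]), Subgroup.coe_mul, Subgroup.coe_mul, W.cn_coe hs, W.cn_coe ht]
  have e : W.n * (s : G) * W.n * (W.n * (t : G) * W.n) = W.n * (s : G) * (W.n * W.n) * (t : G) * W.n := by group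
  rw [e, W.sq]; group

theorem cn_cn {s : P.S} (hs : (P.E.e s).a1 = 0) : W.cn (W.cn s) = s := by
  apply Subtype.ext
  rw [W.cn_coe (W.cn_a1 hs), W.cn_coe hs]
  have e : W.n * (W.n * (s : G) * W.n) * W.n = (W.n * W.n) * (s : G) * (W.n * W.n) := by group
  rw [e, W.sq]; group

theorem cn_inj {s t : P.S} (hs : (P.E.e s).a1 = 0) (ht : (P.E.e t).a1 = 0) (h : W.cn s = W.cn t) : s = t := by
  rw [← W.cn_cn hs, ← W.cn_cn ht, h]

theorem cn_one : W.cn 1 = 1 := by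
  apply Subtype.ext
  rw [W.cn_coe P.E.one_a1]; simp [W.sq]

theorem cj_cn (a : Kˣ) (m : Fˣ) {s : P.S} (hs : (P.E.e s).a1 = 0) :
    P.toTorus.cj (a, m) (W.cn s) = W.cn (P.toTorus.cj (a⁻¹, C.Nu a * m) s) := by
  apply Subtype.ext
  have h1 : (P.E.e (P.toTorus.cj (a⁻¹, C.Nu a * m) s)).a1 = 0 := by rw [P.toTorus.e_cj]; simp [hs]
  rw [W.cn_coe h1, Torus.cj_coe, Torus.cj_coe, W.cn_coe hs]
  have h2 := W.act_h a m
  have h3 : P.h (a, m) * W.n = W.n * P.h (a⁻¹, C.Nu a * m) := by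
    rw [← h2, ← mul_assoc, ← mul_assoc, W.sq, one_mul]
  have h4 : W.n * (P.h (a, m))⁻¹ = (P.h (a⁻¹, C.Nu a * m))⁻¹ * W.n := by
    have := congrArg (fun x => x⁻¹) h3
    simpa only [_root_.mul_inv_rev, W.inv] using this
  calc P.h (a, m) * (W.n * (s : G) * W.n) * (P.h (a, m))⁻¹
      = (P.h (a, m) * W.n) * (s : G) * (W.n * (P.h (a, m))⁻¹) := by group
    _ = _ := by rw [h3, h4]; group

theorem cn_x3 (hF : ∃ m : Fˣ, m ≠ 1) : ∃ d : K, d ≠ 0 ∧ ∀ t, W.cn (P.E.x3 t) = P.E.x5 (t * d) := by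
  have h0 : ∀ t, (P.E.e (P.E.x3 t)).a1 = 0 := fun t => by rw [Coord.e_x3]
  -- equivariance
  have eq1 : ∀ (a : Kˣ) (m : Fˣ) (t : K), P.toTorus.cj (a, m) (W.cn (P.E.x3 t)) =
      W.cn (P.E.x3 (a * algebraMap F K m * t)) := by
    intro a m t
    rw [W.cj_cn a m (h0 t), P.toTorus.cj_x3]
    congr 2
    have h1 : C.sh ((a⁻¹ : Kˣ) : K) * C.sh a = 1 := by
      rw [← C.sh_mul, Units.inv_mul, C.sh_one]
    rw [Units.val_mul, Cubic.coe_Nu, map_mul, C.N_map]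
    linear_combination (a * algebraMap F K m * t) * h1
  have shape : ∀ t, W.cn (P.E.x3 t) = P.E.x5 (P.E.e (W.cn (P.E.x3 t))).a5 := by
    intro t
    obtain ⟨m, hm⟩ := hF
    obtain ⟨hm1, hm2, hm3⟩ := unit_facts C hm
    have h1 := eq1 (emb F K m⁻¹) m t
    have h2 : ((emb F K m⁻¹ : Kˣ) : K) * algebraMap F K m * t = t := by
      have : ((emb F K m⁻¹ : Kˣ) : K) * algebraMap F K m = 1 := by
        rw [show algebraMap F K m = ((emb F K m : Kˣ) : K) from rfl, ← Units.val_mul, ← map_mul, inv_mul_cancel,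
          map_one, Units.val_one]
      rw [this, one_mul]
    rw [h2] at h1
    have e := congrArg P.E.e h1
    rw [P.toTorus.e_cj, Tup.ext_iff] at e
    obtain ⟨-, e2, e3, e4, -, e6⟩ := e
    simp only at e2 e3 e4 e6
    have hN : C.N ((emb F K m⁻¹ : Kˣ) : K) = (m : F)⁻¹ ^ 3 := by
      have := C.Nu_map m⁻¹
      have h3 := congrArg (fun x : Fˣ => (x : F)) this
      rw [Cubic.coe_Nu, Units.val_pow_eq_pow_val, Units.val_inv_eq_inv_val] at h3
      exact h3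
    have hS : C.sh ((emb F K m⁻¹ : Kˣ) : K) = (algebraMap F K m)⁻¹ ^ 2 := by
      have : ((emb F K m⁻¹ : Kˣ) : K) = algebraMap F K (m : F)⁻¹ := by simp
      rw [this, C.sh_map, map_inv₀]
    have hmF : (m : F) ≠ 0 := m.ne_zero
    have hmK : algebraMap F K m ≠ 0 := by simp
    apply P.E.ext
    · rw [W.cn_a1 (h0 t), Coord.e_x5]
    · rw [Coord.e_x5]
      apply fix_eq_zero (c := (m : F)⁻¹ ^ 2)
      · intro h; apply hm3; simpa using h
      · rw [hN] at e2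
        field_simp at e2 ⊢
        linear_combination e2
    · rw [Coord.e_x5]
      apply fix_eq_zero (c := (algebraMap F K m)⁻¹)
      · intro h; apply hm2; simpa using h
      · rw [hS] at e3
        field_simp at e3 ⊢
        linear_combination e3
    · rw [Coord.e_x5]
      apply fix_eq_zero (c := (m : F)⁻¹)
      · intro h; apply hm1; simpa using h
      · rw [hN] at e4
        field_simp at e4 ⊢
        linear_combination e4
    · rw [Coord.e_x5]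
    · rw [Coord.e_x5]
      exact fix_eq_zero hm1 e6
  refine ⟨(P.E.e (W.cn (P.E.x3 1))).a5, ?_, ?_⟩
  · intro h
    have h1 := shape 1
    rw [h] at h1
    have h2 : P.E.x5 0 = 1 := by
      apply P.E.ext <;> simp [Coord.e_x5, P.E.one_a1, P.E.one_a2, P.E.one_a3, P.E.one_a4, P.E.one_a5, P.E.one_a6]
    rw [h2, ← W.cn_one] at h1
    have h3 := W.cn_inj (h0 1) P.E.one_a1 h1
    have h4 := congrArg (fun s => (P.E.e s).a3) h3
    simp only [Coord.e_x3, P.E.one_a3] at h4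
    exact one_ne_zero h4
  · intro t
    rcases eq_or_ne t 0 with rfl | ht
    · have h2 : P.E.x5 0 = 1 := by
        apply P.E.ext <;> simp [Coord.e_x5, P.E.one_a1, P.E.one_a2, P.E.one_a3, P.E.one_a4, P.E.one_a5, P.E.one_a6]
      have h3 : P.E.x3 0 = 1 := by
        apply P.E.ext <;> simp [Coord.e_x3, P.E.one_a1, P.E.one_a2, P.E.one_a3, P.E.one_a4, P.E.one_a5, P.E.one_a6]
      rw [zero_mul, h2, h3, W.cn_one]
    · rw [shape t]
      congr 1
      have h1 := eq1 (Units.mk0 t ht) 1 1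
      simp only [Units.val_mk0, Units.val_one, map_one, mul_one] at h1
      rw [← h1, P.toTorus.e_cj]
      simp

theorem cn_x5 {d : K} (hd : d ≠ 0) (h : ∀ t, W.cn (P.E.x3 t) = P.E.x5 (t * d)) (t : K) :
    W.cn (P.E.x5 t) = P.E.x3 (t * d⁻¹) := by
  have h1 := h (t * d⁻¹)
  rw [mul_assoc, inv_mul_cancel₀ hd, mul_one] at h1
  rw [← h1, W.cn_cn (by rw [Coord.e_x3])]

theorem cn_x4 (t : F) : W.cn (P.E.x4 t) = P.E.x4 t := by
  apply Subtype.ext
  rw [W.cn_coe (by rw [Coord.e_x4])]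
  have := P.L1_x4 W.n W.mem t
  rwa [W.inv] at this

theorem x2_sq (t : F) : P.E.x2 t * P.E.x2 t = 1 := by
  apply P.E.ext <;> simp [P.E.mul_a1, P.E.mul_a2, P.E.mul_a3, P.E.mul_a4, P.E.mul_a5, P.E.mul_a6,
    Coord.e_x2, C.T_zero_left, C.cr_zero_left, C.sh_zero, C.N_zero, C.add_self,
    P.E.one_a1, P.E.one_a2, P.E.one_a3, P.E.one_a4, P.E.one_a5, P.E.one_a6]

theorem cn_x2_eqv (a : Kˣ) (m : Fˣ) (t : F) : P.toTorus.cj (a, m) (W.cn (P.E.x2 t)) =
    W.cn (P.E.x2 (m * t)) := by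
  rw [W.cj_cn a m (by rw [Coord.e_x2]), P.toTorus.cj_x2]
  congr 2
  have h1 : C.N ((a⁻¹ : Kˣ) : K) * C.N a = 1 := by
    rw [← C.N_mul, Units.inv_mul, C.N_one]
  rw [Units.val_mul, Cubic.coe_Nu]
  linear_combination (m * t) * h1

theorem cn_x2 (hF : ∃ m : Fˣ, m ≠ 1) : ∃ y z e : F,
    (∀ t, W.cn (P.E.x2 t) = P.E.el 0 (y * t) 0 (z * t ^ 2) 0 (e * t)) ∧ e * y = 0 ∧
      ((∃ a : Kˣ, C.N a ≠ 1) → y = 0 ∧ z = 0) := by
  have h0 : ∀ t, (P.E.e (P.E.x2 t)).a1 = 0 := fun t => by rw [Coord.e_x2]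
  obtain ⟨m0, hm0⟩ := hF
  have z35 : ∀ t, (P.E.e (W.cn (P.E.x2 t))).a3 = 0 ∧ (P.E.e (W.cn (P.E.x2 t))).a5 = 0 := by
    intro t
    have := W.cn_x2_eqv (emb F K m0) 1 t
    rw [Units.val_one, one_mul] at this
    exact (P.zero_of_cj_b (emb_ne_one (K := K) hm0) this).2
  have h20 : P.E.x2 0 = 1 := by
    apply P.E.ext <;> simp [Coord.e_x2, P.E.one_a1, P.E.one_a2, P.E.one_a3, P.E.one_a4, P.E.one_a5, P.E.one_a6]
  have key : ∀ t, W.cn (P.E.x2 t) = P.E.el 0 ((P.E.e (W.cn (P.E.x2 1))).a2 * t) 0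
      ((P.E.e (W.cn (P.E.x2 1))).a4 * t ^ 2) 0 ((P.E.e (W.cn (P.E.x2 1))).a6 * t) := by
    intro t
    rcases eq_or_ne t 0 with rfl | ht
    · rw [h20, W.cn_one]
      apply P.E.ext <;> simp [P.E.one_a1, P.E.one_a2, P.E.one_a3, P.E.one_a4, P.E.one_a5, P.E.one_a6]
    · have h1 := W.cn_x2_eqv 1 (Units.mk0 t ht) 1
      rw [Units.val_mk0, mul_one] at h1
      rw [← h1]
      apply P.E.ext <;> simp only [P.toTorus.e_cj, Coord.e_el, Units.val_one, C.N_one, one_mul, Units.val_mk0]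
      · exact W.cn_a1 (h0 1)
      · ring
      · rw [(z35 1).1, mul_zero]
      · ring
      · rw [(z35 1).2, mul_zero]
      · ring
  refine ⟨_, _, _, key, ?_, ?_⟩
  · have h1 : W.cn (P.E.x2 1) * W.cn (P.E.x2 1) = 1 := by
      rw [← W.cn_mul (h0 1) (h0 1), x2_sq, W.cn_one]
    have h2 := congrArg (fun s => (P.E.e s).a4) h1
    simp only [P.E.mul_a4, P.E.one_a4, W.cn_a1 (h0 1), (z35 1).1, (z35 1).2, C.N_zero, C.sh_zero, C.T_zero_left,
      mul_zero, add_zero] at h2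
    linear_combination h2 - C.char2 (P.E.e (W.cn (P.E.x2 1))).a4
  · rintro ⟨a, ha⟩
    have h1 := W.cn_x2_eqv a 1 1
    rw [Units.val_one, one_mul] at h1
    have e := congrArg P.E.e h1
    rw [P.toTorus.e_cj, Tup.ext_iff] at e
    obtain ⟨-, e2, -, e4, -, -⟩ := e
    simp only [Units.val_one, mul_one, one_pow] at e2 e4
    exact ⟨fix_eq_zero ha e2, fix_eq_zero ha e4⟩

theorem cn_eq {d : K} (hd : d ≠ 0) (h : ∀ t, W.cn (P.E.x3 t) = P.E.x5 (t * d)) {s : P.S}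
    (hs : (P.E.e s).a1 = 0) : W.cn s = W.cn (P.E.x2 (P.E.e s).a2) * P.E.x5 ((P.E.e s).a3 * d) *
      P.E.x4 (P.E.e s).a4 * P.E.x3 ((P.E.e s).a5 * d⁻¹) * W.cn (P.E.x6 (P.E.e s).a6) := by
  have z2 : ∀ t, (P.E.e (P.E.x2 t)).a1 = 0 := fun t => by rw [Coord.e_x2]
  have z3 : ∀ t, (P.E.e (P.E.x3 t)).a1 = 0 := fun t => by rw [Coord.e_x3]
  have z4 : ∀ t, (P.E.e (P.E.x4 t)).a1 = 0 := fun t => by rw [Coord.e_x4]
  have z5 : ∀ t, (P.E.e (P.E.x5 t)).a1 = 0 := fun t => by rw [Coord.e_x5]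
  have z6 : ∀ t, (P.E.e (P.E.x6 t)).a1 = 0 := fun t => by rw [Coord.e_x6]
  have zm : ∀ {a b : P.S}, (P.E.e a).a1 = 0 → (P.E.e b).a1 = 0 → (P.E.e (a * b)).a1 = 0 :=
    fun ha hb => by rw [P.E.mul_a1, ha, hb, add_zero]
  conv_lhs => rw [P.E.eq_prod s, hs, P.E.x1_zero, one_mul]
  rw [W.cn_mul (zm (zm (zm (z2 _) (z3 _)) (z4 _)) (z5 _)) (z6 _), W.cn_mul (zm (zm (z2 _) (z3 _)) (z4 _)) (z5 _),
    W.cn_mul (zm (z2 _) (z3 _)) (z4 _), W.cn_mul (z2 _) (z3 _), h, W.cn_x4, W.cn_x5 hd h]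

/-- conjugation by `x1(1)` -/
def X (P : Par C G) (s : P.S) : P.S := P.E.x1 1 * s * P.E.x1 1

theorem e_X {s : P.S} (hs : (P.E.e s).a1 = 0) : P.E.e (X P s) =
    ⟨0, (P.E.e s).a2 + (P.E.e s).a6 + C.T 1 (P.E.e s).a3 + C.T 1 (P.E.e s).a5,
      (P.E.e s).a3 + (P.E.e s).a6 • 1 + C.cr 1 (P.E.e s).a5,
      (P.E.e s).a4 + (P.E.e s).a6 ^ 2 + C.T 1 (C.sh (P.E.e s).a5) + (P.E.e s).a6 * C.T 1 (P.E.e s).a5,
      (P.E.e s).a5 + (P.E.e s).a6 • 1, (P.E.e s).a6⟩ := by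
  unfold X
  apply Tup.ext <;> simp [P.E.mul_a1, P.E.mul_a2, P.E.mul_a3, P.E.mul_a4, P.E.mul_a5, P.E.mul_a6, Coord.e_x1,
    C.T_zero_left, C.T_zero_right, C.cr_zero_right, C.sh_zero, C.N_one, C.sh_one, C.add_selfK, hs]

theorem x1_sq : P.E.x1 1 * P.E.x1 1 = 1 := by
  apply P.E.ext <;> simp [P.E.mul_a1, P.E.mul_a2, P.E.mul_a3, P.E.mul_a4, P.E.mul_a5, P.E.mul_a6,
    Coord.e_x1, C.T_zero_right, C.cr_zero_right, C.sh_zero, C.add_selfK,
    P.E.one_a1, P.E.one_a2, P.E.one_a3, P.E.one_a4, P.E.one_a5, P.E.one_a6]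

theorem x1_sqG : (P.E.x1 1 : G) * (P.E.x1 1 : G) = 1 := by
  rw [← Subgroup.coe_mul, x1_sq]; rfl

theorem braid3 : W.n * (P.E.x1 1 : G) * W.n = (P.E.x1 1 : G) * W.n * (P.E.x1 1 : G) := by
  have h := W.cube
  have hx : (P.E.x1 1 : G)⁻¹ = P.E.x1 1 := inv_eq_of_mul_eq_one_right x1_sqG
  have e : (W.n * (P.E.x1 1 : G)) ^ 3 = (W.n * (P.E.x1 1 : G) * W.n) * ((P.E.x1 1 : G) * W.n * (P.E.x1 1 : G)) := by
    rw [pow_succ, pow_two]; group
  rw [e] at h
  have h2 := eq_inv_of_mul_eq_one_left h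
  rw [h2, _root_.mul_inv_rev, _root_.mul_inv_rev, W.inv, hx, mul_assoc]

theorem rel {s : P.S} (hs : (P.E.e s).a1 = 0) : W.cn (X P (W.cn s)) = X P (W.cn (X P s)) := by
  have h1 : (P.E.e (X P (W.cn s))).a1 = 0 := by rw [e_X (W.cn_a1 hs)]
  have h2 : (P.E.e (X P s)).a1 = 0 := by rw [e_X hs]
  apply Subtype.ext
  rw [W.cn_coe h1]
  unfold X
  rw [Subgroup.coe_mul, Subgroup.coe_mul, Subgroup.coe_mul, Subgroup.coe_mul, W.cn_coe hs]
  have h3 : (W.cn (P.E.x1 1 * s * P.E.x1 1) : G) = W.n * ((P.E.x1 1 : G) * s * P.E.x1 1) * W.n := by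
    rw [W.cn_coe (by exact h2)]; rfl
  rw [h3]
  have e1 : W.n * ((P.E.x1 1 : G) * (W.n * (s : G) * W.n) * (P.E.x1 1 : G)) * W.n =
      (W.n * (P.E.x1 1 : G) * W.n) * (s : G) * (W.n * (P.E.x1 1 : G) * W.n) := by group
  rw [e1, W.braid3]
  group

theorem cn_x6_eqv (a : Kˣ) (m : Fˣ) (t : F) : P.toTorus.cj (a, m) (W.cn (P.E.x6 t)) =
    W.cn (P.E.x6 (C.N a * m * t)) := by
  rw [W.cj_cn a m (by rw [Coord.e_x6]), P.toTorus.cj_x6]
  rfl

/-- `e ≠ 0` -/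
theorem e_ne_zero (hF : ∃ m : Fˣ, m ≠ 1) {y z e : F} {d : K} (hd : d ≠ 0)
    (h3 : ∀ t, W.cn (P.E.x3 t) = P.E.x5 (t * d))
    (h2 : ∀ t, W.cn (P.E.x2 t) = P.E.el 0 (y * t) 0 (z * t ^ 2) 0 (e * t))
    (hN : (∃ a : Kˣ, C.N a ≠ 1) → y = 0 ∧ z = 0) : e ≠ 0 := by
  intro he
  have x2ne : P.E.x2 1 ≠ 1 := by
    intro h
    have := congrArg (fun s => (P.E.e s).a2) h
    simp only [Coord.e_x2, P.E.one_a2] at this
    exact one_ne_zero this
  by_cases hN' : ∃ a : Kˣ, C.N a ≠ 1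
  · obtain ⟨rfl, rfl⟩ := hN hN'
    have h := h2 1
    rw [he] at h
    simp only [zero_mul] at h
    have h1 : P.E.el 0 0 0 0 0 0 = 1 := by
      apply P.E.ext <;> simp [P.E.one_a1, P.E.one_a2, P.E.one_a3, P.E.one_a4, P.E.one_a5, P.E.one_a6]
    rw [h1, ← W.cn_one] at h
    exact x2ne (W.cn_inj (by rw [Coord.e_x2]) P.E.one_a1 h)
  · push Not at hN'
    obtain ⟨m0, hm0⟩ := hF
    have z1 : ∀ t, (P.E.e (W.cn (P.E.x6 t))).a1 = 0 := fun t => W.cn_a1 (by rw [Coord.e_x6])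
    have z35 : ∀ t, (P.E.e (W.cn (P.E.x6 t))).a3 = 0 ∧ (P.E.e (W.cn (P.E.x6 t))).a5 = 0 := by
      intro t
      have := W.cn_x6_eqv (emb F K m0) 1 t
      rw [hN', Units.val_one, one_mul, one_mul] at this
      exact (P.zero_of_cj_b (emb_ne_one (K := K) hm0) this).2
    have x60 : P.E.x6 0 = 1 := P.E.x6_zero
    have lin : ∀ t, (P.E.e (W.cn (P.E.x6 t))).a6 = (P.E.e (W.cn (P.E.x6 1))).a6 * t := by
      intro t
      rcases eq_or_ne t 0 with rfl | ht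
      · rw [x60, W.cn_one, P.E.one_a6, mul_zero]
      · have h1 := W.cn_x6_eqv 1 (Units.mk0 t ht) 1
        rw [Units.val_one, C.N_one, one_mul, Units.val_mk0, mul_one] at h1
        rw [← h1, P.toTorus.e_cj]
        simp only [Units.val_mk0]
        ring
    set r := P.E.e (W.cn (P.E.x6 1)) with hr
    have c2 : ∀ t, (P.E.e (W.cn (P.E.x2 t))).a1 = 0 ∧ (P.E.e (W.cn (P.E.x2 t))).a6 = 0 ∧
        (P.E.e (W.cn (P.E.x2 t))).a5 = 0 := by
      intro t; rw [h2, he, Coord.e_el]; simp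
    -- the a6 coordinate of `cn s`
    have A6 : ∀ {s : P.S}, (P.E.e s).a1 = 0 → (P.E.e (W.cn s)).a6 = r.a6 * (P.E.e s).a6 := by
      intro s hs
      rw [W.cn_eq hd h3 hs]
      simp only [P.E.mul_a6, Coord.e_x3, Coord.e_x4, Coord.e_x5, (c2 _).2.1, lin]
      ring
    have A5 : ∀ {s : P.S}, (P.E.e s).a1 = 0 → (P.E.e (W.cn s)).a5 = (P.E.e s).a3 * d := by
      intro s hs
      rw [W.cn_eq hd h3 hs]
      simp only [P.E.mul_a5, Coord.e_x3, Coord.e_x4, Coord.e_x5, (c2 _).2.2, (z35 _).2, z1, smul_zero]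
      ring
    have h61 : (P.E.e (P.E.x6 1)).a1 = 0 := by rw [Coord.e_x6]
    have hrr : r.a6 * r.a6 = 1 := by
      have h1 := W.cn_cn h61
      have h4 := congrArg (fun s => (P.E.e s).a6) h1
      simp only [Coord.e_x6] at h4
      rwa [A6 (z1 1)] at h4
    have hr6 : r.a6 = 1 := by
      have : (r.a6 + 1) * (r.a6 + 1) = 0 := by linear_combination hrr + (r.a6 + 1) * C.two_F
      exact C.eq_of_add_eq_zero (by simpa using this)
    have h7 := congrArg (fun s => (P.E.e s).a5) (W.rel h61)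
    have hX1 : (P.E.e (X P (W.cn (P.E.x6 1)))).a1 = 0 := by rw [e_X (z1 1)]
    have hX2 : (P.E.e (X P (P.E.x6 1))).a1 = 0 := by rw [e_X h61]
    have h8 : (P.E.e (W.cn (X P (P.E.x6 1)))).a1 = 0 := W.cn_a1 hX2
    rw [A5 hX1, e_X h8, A5 hX2, A6 hX2, e_X (z1 1), e_X h61, (z35 1).1, (z35 1).2, ← hr, hr6] at h7
    simp only [Coord.e_x6, C.cr_zero_right, mul_one, one_smul, zero_add, add_zero, one_mul] at h7
    apply one_ne_zero (α := K)
    linear_combination -h7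

/-- the constants are `1` -/
theorem constants {e : F} {d : K} (he : e ≠ 0) (hd : d ≠ 0)
    (h3 : ∀ t, W.cn (P.E.x3 t) = P.E.x5 (t * d)) (h2 : ∀ t, W.cn (P.E.x2 t) = P.E.x6 (e * t)) :
    e = 1 ∧ d = 1 := by
  have h0 : ∀ t, (P.E.e (P.E.x2 t)).a1 = 0 := fun t => by rw [Coord.e_x2]
  have h60 : ∀ t, (P.E.e (P.E.x6 t)).a1 = 0 := fun t => by rw [Coord.e_x6]
  have h6 : ∀ t, W.cn (P.E.x6 t) = P.E.x2 (e⁻¹ * t) := by
    intro t
    have h1 := h2 (e⁻¹ * t)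
    rw [← mul_assoc, mul_inv_cancel₀ he, one_mul] at h1
    rw [← h1, W.cn_cn (h0 _)]
  have hr := W.rel (h0 1)
  have hX : X P (P.E.x2 1) = P.E.x2 1 := by
    apply P.E.e.injective
    rw [e_X (h0 1)]
    simp [Coord.e_x2, C.T_zero_right, C.cr_zero_right, C.sh_zero]
  rw [hX, h2] at hr
  have hX1 : (P.E.e (X P (P.E.x6 (e * 1)))).a1 = 0 := by rw [e_X (h60 _)]
  rw [W.cn_eq hd h3 hX1, h2, h6] at hr
  rw [e_X (h60 _)] at hr
  have k6 := congrArg (fun s => (P.E.e s).a6) hr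
  have k5 := congrArg (fun s => (P.E.e s).a5) hr
  simp only [e_X (h60 _), P.E.mul_a6, Coord.e_x2, Coord.e_x3, Coord.e_x4, Coord.e_x5, Coord.e_x6, mul_one,
    zero_add, add_zero, C.T_zero_right] at k6
  simp only [e_X (h60 _), P.E.mul_a5, Coord.e_x2, Coord.e_x3, Coord.e_x4, Coord.e_x5, Coord.e_x6, mul_one,
    zero_add, add_zero, smul_zero, C.cr_zero_right, C.T_zero_right] at k5
  have e1 : e = 1 := by
    have : e * (e - 1) = 0 := by linear_combination k6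
    rcases mul_eq_zero.1 this with h | h
    · exact absurd h he
    · exact sub_eq_zero.1 h
  subst e1
  refine ⟨rfl, ?_⟩
  simpa using k5

theorem exists_final (hF : ∃ m : Fˣ, m ≠ 1) : ∃ (c : F) (hc : c = 0 ∨ ∀ a : Kˣ, C.N a = 1)
    (W' : WA (P.twist c hc)), W'.n = W.n ∧ (∀ t, W'.cn ((P.twist c hc).E.x2 t) = (P.twist c hc).E.x6 t) ∧
      (∀ t, W'.cn ((P.twist c hc).E.x3 t) = (P.twist c hc).E.x5 t) := by
  obtain ⟨d, hd, h3⟩ := W.cn_x3 hF
  obtain ⟨y, z, e, h2, hey, hN⟩ := W.cn_x2 hF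
  have he := W.e_ne_zero hF hd h3 h2 hN
  have hy : y = 0 := by
    rcases mul_eq_zero.1 hey with h | h
    · exact absurd h he
    · exact h
  subst hy
  have hc : z / e ^ 2 = 0 ∨ ∀ a : Kˣ, C.N a = 1 := by
    by_cases h : ∃ a : Kˣ, C.N a ≠ 1
    · left; rw [(hN h).2, zero_div]
    · right; push Not at h; exact h
  set c := z / e ^ 2 with hcdef
  let W' : WA (P.twist c hc) :=
    { n := W.n
      mem := W.mem
      p_n := W.p_n
      sq := W.sq
      cube := by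
        have e1 : (((P.twist c hc).E.x1 1 : (P.twist c hc).S) : G) = (P.E.x1 1 : G) :=
          congrArg _ (Coord.twist_x1 P.E c 1)
        rw [e1]; exact W.cube
      act_h := W.act_h }
  have c2 : ∀ t, (((P.twist c hc).E.x2 t : (P.twist c hc).S) : G) = (P.E.x2 t : G) :=
    fun t => congrArg (fun s : P.S => (s : G)) (Coord.twist_x2 P.E c t)
  have c3 : ∀ t, (((P.twist c hc).E.x3 t : (P.twist c hc).S) : G) = (P.E.x3 t : G) :=
    fun t => congrArg (fun s : P.S => (s : G)) (Coord.twist_x3 P.E c t)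
  have c5 : ∀ t, (((P.twist c hc).E.x5 t : (P.twist c hc).S) : G) = (P.E.x5 t : G) :=
    fun t => congrArg (fun s : P.S => (s : G)) (Coord.twist_x5 P.E c t)
  have c6 : ∀ t, (((P.twist c hc).E.x6 t : (P.twist c hc).S) : G) = ((P.E.x4 (c * t ^ 2) * P.E.x6 t : P.S) : G) :=
    fun t => congrArg (fun s : P.S => (s : G)) (Coord.twist_x6 P.E c t)
  have h3' : ∀ t, W'.cn ((P.twist c hc).E.x3 t) = (P.twist c hc).E.x5 (t * d) := by
    intro t
    apply Subtype.ext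
    rw [W'.cn_coe (by rw [Coord.e_x3]), c3, c5, ← h3 t, W.cn_coe (by rw [Coord.e_x3])]
  have h2' : ∀ t, W'.cn ((P.twist c hc).E.x2 t) = (P.twist c hc).E.x6 (e * t) := by
    intro t
    apply Subtype.ext
    rw [W'.cn_coe (by rw [Coord.e_x2]), c2, c6]
    have h4 : P.E.x4 (c * (e * t) ^ 2) * P.E.x6 (e * t) = W.cn (P.E.x2 t) := by
      rw [h2 t]
      apply P.E.e.injective
      rw [Coord.e_el]
      have h5 : c * (e * t) ^ 2 = z * t ^ 2 := by rw [hcdef]; field_simp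
      rw [h5]
      apply Tup.ext <;> simp [P.E.mul_a1, P.E.mul_a2, P.E.mul_a3, P.E.mul_a4, P.E.mul_a5, P.E.mul_a6,
        Coord.e_x4, Coord.e_x6, C.T_zero_left, C.cr_zero_left, C.sh_zero, C.N_zero]
    rw [h4, W.cn_coe (by rw [Coord.e_x2])]
  obtain ⟨rfl, rfl⟩ := W'.constants he hd h3' h2'
  refine ⟨c, hc, W', rfl, ?_, ?_⟩
  · intro t; rw [h2', one_mul]
  · intro t; rw [h3', mul_one]

end WA

end Cfsg.Agent.HexRec
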