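import Cfsg.Agent.HexRec.ActA

/-!
# The action of the second Weyl element on the root groups
-/

set_option autoImplicit false
set_option linter.unusedSimpArgs false

namespace Cfsg.Agent.HexRec

open Matrix
open Cfsg.Agent.ClassTwo.Sp4Defs Cfsg.Agent.ClassTwo.Sp4SL2

variable {F K : Type*} [Field F] [Field K] [Algebra F K] {C : Cubic F K}

/-- the Weyl element of `L2` -/
structure WB {G : Type*} [Group G] (P : Par C G) where
  n : G
  mem : n ∈ P.L2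
  p_n : P.p2 ⟨n, mem⟩ = w F
  sq : n * n = 1
  cube' : ∃ s : P.S, (s : G) = (n * P.E.x6 1) ^ 3 ∧ (P.E.e s).a6 = 0 ∧ (P.E.e s).a1 = 0 ∧
        (P.E.e s).a3 = 0 ∧ (P.E.e s).a5 = 0
  act_h : ∀ a m, n * P.h (a, m) * n = P.h (a * emb F K m, m⁻¹)

theorem Par.exists_WB {G : Type*} [Group G] (P : Par C G) [Finite G] [Finite F] [Finite K]
    (hF : ∃ m : Fˣ, m ≠ 1) : Nonempty (WB P) := by
  obtain ⟨n, h0, h1, h2, h3⟩ := P.exists_nb hF
  exact ⟨⟨n, n.2, h0, h1, h2, h3⟩⟩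

namespace WB

open Par

variable {G : Type*} [Group G] {P : Par C G} (W : WB P)

theorem inv : W.n⁻¹ = W.n := inv_eq_of_mul_eq_one_right W.sq

theorem exists_conj {s : P.S} (hs : (P.E.e s).a6 = 0) :
    ∃ s' : P.S, (s' : G) = W.n * s * W.n ∧ (P.E.e s').a6 = 0 := by
  have := P.L2_Q2 W.mem (P.mem_Q2.2 ⟨s, rfl, hs⟩)
  rw [W.inv] at this
  exact P.mem_Q2.1 this

open Classical in
/-- conjugation by `n` on `{a6 = 0}` -/
noncomputable def cn (s : P.S) : P.S := if h : (P.E.e s).a6 = 0 then (W.exists_conj h).choose else 1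

theorem cn_coe {s : P.S} (hs : (P.E.e s).a6 = 0) : (W.cn s : G) = W.n * s * W.n := by
  rw [cn, dif_pos hs]; exact (W.exists_conj hs).choose_spec.1

theorem cn_a6 {s : P.S} (hs : (P.E.e s).a6 = 0) : (P.E.e (W.cn s)).a6 = 0 := by
  rw [cn, dif_pos hs]; exact (W.exists_conj hs).choose_spec.2

theorem cn_mul {s t : P.S} (hs : (P.E.e s).a6 = 0) (ht : (P.E.e t).a6 = 0) :
    W.cn (s * t) = W.cn s * W.cn t := by
  apply Subtype.ext
  rw [W.cn_coe (by rw [P.E.mul_a6, hs, ht, add_zero]), Subgroup.coe_mul, Subgroup.coe_mul, W.cn_coe hs, W.cn_coe ht]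
  have e : W.n * (s : G) * W.n * (W.n * (t : G) * W.n) = W.n * (s : G) * (W.n * W.n) * (t : G) * W.n := by group
  rw [e, W.sq]; group

theorem cn_cn {s : P.S} (hs : (P.E.e s).a6 = 0) : W.cn (W.cn s) = s := by
  apply Subtype.ext
  rw [W.cn_coe (W.cn_a6 hs), W.cn_coe hs]
  have e : W.n * (W.n * (s : G) * W.n) * W.n = (W.n * W.n) * (s : G) * (W.n * W.n) := by group
  rw [e, W.sq]; group

theorem cn_inj {s t : P.S} (hs : (P.E.e s).a6 = 0) (ht : (P.E.e t).a6 = 0) (h : W.cn s = W.cn t) : s = t := by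
  rw [← W.cn_cn hs, ← W.cn_cn ht, h]

theorem cn_one : W.cn 1 = 1 := by
  apply Subtype.ext
  rw [W.cn_coe P.E.one_a6]; simp [W.sq]

theorem cj_cn (a : Kˣ) (m : Fˣ) {s : P.S} (hs : (P.E.e s).a6 = 0) :
    P.toTorus.cj (a, m) (W.cn s) = W.cn (P.toTorus.cj (a * emb F K m, m⁻¹) s) := by
  apply Subtype.ext
  have h1 : (P.E.e (P.toTorus.cj (a * emb F K m, m⁻¹) s)).a6 = 0 := by rw [P.toTorus.e_cj]; simp [hs]
  rw [W.cn_coe h1, Torus.cj_coe, Torus.cj_coe, W.cn_coe hs]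
  have h2 := W.act_h a m
  have h3 : P.h (a, m) * W.n = W.n * P.h (a * emb F K m, m⁻¹) := by
    rw [← h2, ← mul_assoc, ← mul_assoc, W.sq, one_mul]
  have h4 : W.n * (P.h (a, m))⁻¹ = (P.h (a * emb F K m, m⁻¹))⁻¹ * W.n := by
    have := congrArg (fun x => x⁻¹) h3
    simpa only [_root_.mul_inv_rev, W.inv] using this
  calc P.h (a, m) * (W.n * (s : G) * W.n) * (P.h (a, m))⁻¹
      = (P.h (a, m) * W.n) * (s : G) * (W.n * (P.h (a, m))⁻¹) := by group
    _ = _ := by rw [h3, h4]; group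

theorem emb_facts (C : Cubic F K) (m : Fˣ) : C.N ((emb F K m : Kˣ) : K) = (m : F) ^ 3 ∧
    C.sh ((emb F K m : Kˣ) : K) = algebraMap F K m ^ 2 := by
  constructor
  · have h3 := congrArg (fun x : Fˣ => (x : F)) (C.Nu_map m)
    rw [Cubic.coe_Nu, Units.val_pow_eq_pow_val] at h3
    exact h3
  · exact C.sh_map _

theorem cn_x1 (hF : ∃ m : Fˣ, m ≠ 1) : ∃ d : K, d ≠ 0 ∧ ∀ t, W.cn (P.E.x1 t) = P.E.x5 (t * d) := by
  have h0 : ∀ t, (P.E.e (P.E.x1 t)).a6 = 0 := fun t => by rw [Coord.e_x1]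
  -- equivariance
  have eq1 : ∀ (a : Kˣ) (m : Fˣ) (t : K), P.toTorus.cj (a, m) (W.cn (P.E.x1 t)) =
      W.cn (P.E.x1 (a * algebraMap F K m * t)) := by
    intro a m t
    rw [W.cj_cn a m (h0 t), P.toTorus.cj_x1]
    congr 2
  have shape : ∀ t, W.cn (P.E.x1 t) = P.E.x5 (P.E.e (W.cn (P.E.x1 t))).a5 := by
    intro t
    obtain ⟨m, hm⟩ := hF
    obtain ⟨hm1, hm2, hm3⟩ := unit_facts C hm
    have h1 := eq1 (emb F K m⁻¹) m t
    have h2 : ((emb F K m⁻¹ : Kˣ) : K) * algebraMap F K m * t = t := by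
      have : ((emb F K m⁻¹ : Kˣ) : K) * algebraMap F K m = 1 := by
        rw [show algebraMap F K m = ((emb F K m : Kˣ) : K) from rfl, ← Units.val_mul, ← map_mul, inv_mul_cancel,
          map_one, Units.val_one]
      rw [this, one_mul]
    rw [h2] at h1
    have e := congrArg P.E.e h1
    rw [P.toTorus.e_cj, Tup.ext_iff] at e
    obtain ⟨e1, e2, e3, e4, -, -⟩ := e
    simp only at e1 e2 e3 e4
    obtain ⟨hN, hS⟩ := emb_facts C m⁻¹
    rw [Units.val_inv_eq_inv_val] at hN hS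
    rw [map_inv₀] at hS
    have hE : ((emb F K m⁻¹ : Kˣ) : K) = (algebraMap F K m)⁻¹ := by simp
    have hmF : (m : F) ≠ 0 := m.ne_zero
    have hmK : algebraMap F K m ≠ 0 := by simp
    apply P.E.ext
    · rw [Coord.e_x5]
      apply fix_eq_zero (c := (algebraMap F K m)⁻¹)
      · intro h; apply hm2; simpa using h
      · rw [hE] at e1; exact e1
    · rw [Coord.e_x5]
      apply fix_eq_zero (c := (m : F)⁻¹ ^ 2)
      · intro h; apply hm3; simpa using h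
      · rw [hN] at e2
        field_simp at e2 ⊢
        linear_combination e2
    · rw [Coord.e_x5]
      apply fix_eq_zero (c := (algebraMap F K m)⁻¹)
      · intro h; apply hm2; simpa using h
      · rw [hS] at e3
        field_simp at e3 ⊢
        linear_combination e3
    · rw [Coord.e_x5]
      apply fix_eq_zero (c := (m : F)⁻¹)
      · intro h; apply hm1; simpa using h
      · rw [hN] at e4
        field_simp at e4 ⊢
        linear_combination e4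
    · rw [Coord.e_x5]
    · rw [Coord.e_x5]
      exact W.cn_a6 (h0 t)
  have x50 : P.E.x5 0 = 1 := by
    apply P.E.ext <;> simp [Coord.e_x5, P.E.one_a1, P.E.one_a2, P.E.one_a3, P.E.one_a4, P.E.one_a5, P.E.one_a6]
  refine ⟨(P.E.e (W.cn (P.E.x1 1))).a5, ?_, ?_⟩
  · intro h
    have h1 := shape 1
    rw [h, x50, ← W.cn_one] at h1
    have h3 := W.cn_inj (h0 1) P.E.one_a6 h1
    have h4 := congrArg (fun s => (P.E.e s).a1) h3
    simp only [Coord.e_x1, P.E.one_a1] at h4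
    exact one_ne_zero h4
  · intro t
    rcases eq_or_ne t 0 with rfl | ht
    · rw [zero_mul, x50, P.E.x1_zero, W.cn_one]
    · rw [shape t]
      congr 1
      have h1 := eq1 (Units.mk0 t ht) 1 1
      simp only [Units.val_mk0, Units.val_one, map_one, mul_one] at h1
      rw [← h1, P.toTorus.e_cj]
      simp

theorem cn_x3 (hF : ∃ m : Fˣ, m ≠ 1) : ∃ d : K, d ≠ 0 ∧ ∀ t, W.cn (P.E.x3 t) = P.E.x3 (t * d) := by
  have h0 : ∀ t, (P.E.e (P.E.x3 t)).a6 = 0 := fun t => by rw [Coord.e_x3]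
  -- equivariance
  have eq1 : ∀ (a : Kˣ) (m : Fˣ) (t : K), P.toTorus.cj (a, m) (W.cn (P.E.x3 t)) =
      W.cn (P.E.x3 (C.sh a * algebraMap F K m * t)) := by
    intro a m t
    rw [W.cj_cn a m (h0 t), P.toTorus.cj_x3]
    congr 2
    have h1 : C.sh ((a * emb F K m : Kˣ) : K) = C.sh a * algebraMap F K m ^ 2 := by
      rw [Units.val_mul, C.sh_mul, (emb_facts C m).2]
    have hmK : algebraMap F K m ≠ 0 := by simp
    rw [h1, Units.val_inv_eq_inv_val, map_inv₀]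
    field_simp
  have shape : ∀ t, W.cn (P.E.x3 t) = P.E.x3 (P.E.e (W.cn (P.E.x3 t))).a3 := by
    intro t
    obtain ⟨m, hm⟩ := hF
    obtain ⟨hm1, hm2, hm3⟩ := unit_facts C hm
    have h1 := eq1 (emb F K m) (m⁻¹ ^ 2) t
    obtain ⟨hN, hS⟩ := emb_facts C m
    have hE : ((emb F K m : Kˣ) : K) = algebraMap F K m := rfl
    have hmF : (m : F) ≠ 0 := m.ne_zero
    have hmK : algebraMap F K m ≠ 0 := by simp
    have hI : (((m⁻¹ ^ 2 : Fˣ) : F)) = ((m : F)⁻¹) ^ 2 := by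
      rw [Units.val_pow_eq_pow_val, Units.val_inv_eq_inv_val]
    have h2 : C.sh ((emb F K m : Kˣ) : K) * algebraMap F K ((m⁻¹ ^ 2 : Fˣ) : F) * t = t := by
      rw [hS, hI, map_pow, map_inv₀]; field_simp
    rw [h2] at h1
    have e := congrArg P.E.e h1
    rw [P.toTorus.e_cj, Tup.ext_iff] at e
    obtain ⟨e1, e2, -, e4, e5, -⟩ := e
    simp only at e1 e2 e4 e5
    apply P.E.ext
    · rw [Coord.e_x3]
      exact fix_eq_zero hm2 e1
    · rw [Coord.e_x3]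
      apply fix_eq_zero hm1
      rw [hN, hI] at e2
      field_simp at e2 ⊢
      linear_combination e2
    · rw [Coord.e_x3]
    · rw [Coord.e_x3]
      apply fix_eq_zero (c := (m : F)⁻¹)
      · intro h; apply hm1; simpa using h
      · rw [hN, hI] at e4
        field_simp at e4 ⊢
        linear_combination e4
    · rw [Coord.e_x3]
      apply fix_eq_zero (c := (algebraMap F K m)⁻¹)
      · intro h; apply hm2; simpa using h
      · rw [hE, hI, map_pow, map_inv₀] at e5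
        field_simp at e5 ⊢
        linear_combination e5
    · rw [Coord.e_x3]
      exact W.cn_a6 (h0 t)
  have x30 : P.E.x3 0 = 1 := by
    apply P.E.ext <;> simp [Coord.e_x3, P.E.one_a1, P.E.one_a2, P.E.one_a3, P.E.one_a4, P.E.one_a5, P.E.one_a6]
  refine ⟨(P.E.e (W.cn (P.E.x3 1))).a3, ?_, ?_⟩
  · intro h
    have h1 := shape 1
    rw [h, x30, ← W.cn_one] at h1
    have h3 := W.cn_inj (h0 1) P.E.one_a6 h1
    have h4 := congrArg (fun s => (P.E.e s).a3) h3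
    simp only [Coord.e_x3, P.E.one_a3] at h4
    exact one_ne_zero h4
  · intro t
    rcases eq_or_ne t 0 with rfl | ht
    · rw [zero_mul, x30, W.cn_one]
    · rw [shape t]
      congr 1
      set k : Kˣ := Units.mk0 t ht with hk
      have hk' : (k : K) = t := rfl
      have h1 := eq1 k⁻¹ (C.Nu k) 1
      have h5 : C.sh ((k⁻¹ : Kˣ) : K) * algebraMap F K (C.Nu k : Fˣ) = t := by
        rw [Cubic.coe_Nu, C.N_map, hk']
        have h6 : C.sh ((k⁻¹ : Kˣ) : K) * C.sh (k : K) = 1 := by rw [← C.sh_mul, Units.inv_mul, C.sh_one]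
        rw [hk'] at h6
        linear_combination t * h6
      rw [h5, mul_one] at h1
      rw [← h1, P.toTorus.e_cj]
      simp only
      rw [h5]

theorem cn_x5 {d : K} (hd : d ≠ 0) (h : ∀ t, W.cn (P.E.x1 t) = P.E.x5 (t * d)) (t : K) :
    W.cn (P.E.x5 t) = P.E.x1 (t * d⁻¹) := by
  have h1 := h (t * d⁻¹)
  rw [mul_assoc, inv_mul_cancel₀ hd, mul_one] at h1
  rw [← h1, W.cn_cn (by rw [Coord.e_x1])]

theorem cn_x2 {d1 d3 : K} (hd1 : d1 ≠ 0) (hd3 : d3 ≠ 0) (h1 : ∀ t, W.cn (P.E.x1 t) = P.E.x5 (t * d1))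
    (h3 : ∀ t, W.cn (P.E.x3 t) = P.E.x3 (t * d3)) : ∃ c : F, c ≠ 0 ∧ d1 * d3 = algebraMap F K c ∧
      ∀ t, W.cn (P.E.x2 t) = P.E.x4 (c * t) := by
  have z1 : ∀ t, (P.E.e (P.E.x1 t)).a6 = 0 := fun t => by rw [Coord.e_x1]
  have z2 : ∀ t, (P.E.e (P.E.x2 t)).a6 = 0 := fun t => by rw [Coord.e_x2]
  have z3 : ∀ t, (P.E.e (P.E.x3 t)).a6 = 0 := fun t => by rw [Coord.e_x3]
  have zm : ∀ {a b : P.S}, (P.E.e a).a6 = 0 → (P.E.e b).a6 = 0 → (P.E.e (a * b)).a6 = 0 :=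
    fun ha hb => by rw [P.E.mul_a6, ha, hb, add_zero]
  -- `[x1, x3] = x2` is carried to `[x5, x3] = x4`
  have key : ∀ v : K, W.cn (P.E.x2 (C.tr v)) = P.E.x4 (C.tr (v * (d1 * d3))) := by
    intro v
    have e1 : P.E.x3 v * P.E.x1 1 = P.E.x1 1 * P.E.x2 (C.tr v) * P.E.x3 v := by
      apply P.E.ext <;> simp [P.E.mul_a1, P.E.mul_a2, P.E.mul_a3, P.E.mul_a4, P.E.mul_a5, P.E.mul_a6,
        Coord.e_x1, Coord.e_x2, Coord.e_x3, C.T_zero_left, C.T_zero_right, C.cr_zero_left, C.cr_zero_right,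
        C.sh_zero, C.N_zero, Cubic.T]
    have e2 := congrArg W.cn e1
    rw [W.cn_mul (z3 _) (z1 _), W.cn_mul (zm (z1 _) (z2 _)) (z3 _), W.cn_mul (z1 _) (z2 _), h1, h3] at e2
    have e3 : P.E.x3 (v * d3) * P.E.x5 (1 * d1) = P.E.x5 (1 * d1) * P.E.x4 (C.tr (v * (d1 * d3))) *
        P.E.x3 (v * d3) := by
      have e4 : 1 * d1 * (v * d3) = v * (d1 * d3) := by ring
      apply P.E.ext <;> simp [P.E.mul_a1, P.E.mul_a2, P.E.mul_a3, P.E.mul_a4, P.E.mul_a5, P.E.mul_a6,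
        Coord.e_x4, Coord.e_x5, Coord.e_x3, C.T_zero_left, C.T_zero_right, C.cr_zero_left, C.cr_zero_right,
        C.sh_zero, C.N_zero, Cubic.T, zero_mul, mul_zero]
      rw [show v * d3 * d1 = v * (d1 * d3) by ring, C.char2]
    rw [e3] at e2
    exact (mul_left_cancel (mul_right_cancel e2)).symm
  have x20 : P.E.x2 0 = 1 := by
    apply P.E.ext <;> simp [Coord.e_x2, P.E.one_a1, P.E.one_a2, P.E.one_a3, P.E.one_a4, P.E.one_a5, P.E.one_a6]
  set D := d1 * d3 with hD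
  have tr0 : ∀ v, C.tr v = 0 → C.tr (v * D) = 0 := by
    intro v hv
    have h := key v
    rw [hv, x20, W.cn_one] at h
    have := congrArg (fun s => (P.E.e s).a4) h
    simp only [Coord.e_x4, P.E.one_a4] at this
    exact this.symm
  have trA : ∀ f : F, C.tr (algebraMap F K f) = f := by
    intro f
    rw [Algebra.algebraMap_eq_smul_one, map_smul, C.tr_one, smul_eq_mul, mul_one]
  have trm : ∀ (f : F) (v : K), C.tr (algebraMap F K f * v) = f * C.tr v := by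
    intro f v
    rw [← Algebra.smul_def, map_smul, smul_eq_mul]
  have hDc : D = algebraMap F K (C.tr D) := by
    apply C.eq_of_add_eq_zeroK
    apply C.tr_nondeg
    intro v
    have h1 := tr0 (v - algebraMap F K (C.tr v)) (by rw [map_sub, trA, sub_self])
    rw [sub_mul, map_sub, trm] at h1
    rw [add_mul, map_add, trm, mul_comm D v]
    linear_combination h1 + (C.tr v * C.tr D) * C.two_F
  refine ⟨C.tr D, ?_, hDc, ?_⟩
  · intro h
    rw [h, map_zero] at hDc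
    exact mul_ne_zero hd1 hd3 hDc
  · intro t
    have h := key (algebraMap F K t)
    rw [trA, trm] at h
    rw [h, mul_comm]

theorem cn_x4 {c : F} (hc : c ≠ 0) (h : ∀ t, W.cn (P.E.x2 t) = P.E.x4 (c * t)) (t : F) :
    W.cn (P.E.x4 t) = P.E.x2 (c⁻¹ * t) := by
  have h1 := h (c⁻¹ * t)
  rw [← mul_assoc, mul_inv_cancel₀ hc, one_mul] at h1
  rw [← h1, W.cn_cn (by rw [Coord.e_x2])]

/-- conjugation by `x6(1)` -/
def X (P : Par C G) (s : P.S) : P.S := P.E.x6 1 * s * P.E.x6 1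

theorem e_X {s : P.S} (hs : (P.E.e s).a6 = 0) : P.E.e (X P s) =
    ⟨(P.E.e s).a1, (P.E.e s).a2 + C.N (P.E.e s).a1, (P.E.e s).a3 + C.sh (P.E.e s).a1,
      (P.E.e s).a4 + C.N (P.E.e s).a1 + (P.E.e s).a2 + C.T (P.E.e s).a3 (P.E.e s).a1,
      (P.E.e s).a5 + (P.E.e s).a1, 0⟩ := by
  unfold X
  apply Tup.ext <;> simp [P.E.mul_a1, P.E.mul_a2, P.E.mul_a3, P.E.mul_a4, P.E.mul_a5, P.E.mul_a6, Coord.e_x6,
    C.T_zero_left, C.T_zero_right, C.cr_zero_left, C.cr_zero_right, C.sh_zero, C.N_zero, C.char2, hs, add_comm,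
    add_left_comm, add_assoc]

theorem x6_sq : P.E.x6 1 * P.E.x6 1 = 1 := by
  apply P.E.ext <;> simp [P.E.mul_a1, P.E.mul_a2, P.E.mul_a3, P.E.mul_a4, P.E.mul_a5, P.E.mul_a6,
    Coord.e_x6, C.T_zero_left, C.cr_zero_left, C.sh_zero, C.N_zero, C.char2,
    P.E.one_a1, P.E.one_a2, P.E.one_a3, P.E.one_a4, P.E.one_a5, P.E.one_a6]

theorem x6_sqG : (P.E.x6 1 : G) * (P.E.x6 1 : G) = 1 := by
  rw [← Subgroup.coe_mul, x6_sq]; rfl

theorem cube {c : F} (hc : c ≠ 0) (h : ∀ t, W.cn (P.E.x2 t) = P.E.x4 (c * t)) : (W.n * P.E.x6 1) ^ 3 = 1 := by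
  obtain ⟨s, hs, h6, h1, h3, h5⟩ := W.cube'
  set g : G := W.n * P.E.x6 1 with hg
  have hx : (P.E.x6 1 : G)⁻¹ = P.E.x6 1 := inv_eq_of_mul_eq_one_right x6_sqG
  have hgs : g * s = s * g := by rw [hs]; exact (Commute.refl g).pow_right 3
  have hX : (P.E.e (X P s)).a6 = 0 := by rw [e_X h6]
  have h7 : W.cn (X P s) = s := by
    apply Subtype.ext
    rw [W.cn_coe hX]
    have e1 : W.n * ((X P s : P.S) : G) * W.n = g * s * g⁻¹ := by
      unfold X
      rw [hg, Subgroup.coe_mul, Subgroup.coe_mul, _root_.mul_inv_rev, hx, W.inv]; group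
    rw [e1, hgs, mul_inv_cancel_right]
  have z2 : ∀ t, (P.E.e (P.E.x2 t)).a6 = 0 := fun t => by rw [Coord.e_x2]
  have z4 : ∀ t, (P.E.e (P.E.x4 t)).a6 = 0 := fun t => by rw [Coord.e_x4]
  have h8 : X P s = P.E.x2 (P.E.e s).a2 * P.E.x4 ((P.E.e s).a4 + (P.E.e s).a2) := by
    apply P.E.e.injective
    rw [e_X h6, h1, h3, h5]
    apply Tup.ext <;> simp [P.E.mul_a1, P.E.mul_a2, P.E.mul_a3, P.E.mul_a4, P.E.mul_a5, P.E.mul_a6, Coord.e_x2,
      Coord.e_x4, C.T_zero_left, C.T_zero_right, C.cr_zero_left, C.sh_zero, C.N_zero]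
  rw [h8, W.cn_mul (z2 _) (z4 _), h, W.cn_x4 hc h] at h7
  have k2 := congrArg (fun s => (P.E.e s).a2) h7
  have k4 := congrArg (fun s => (P.E.e s).a4) h7
  simp [P.E.mul_a2, P.E.mul_a4, Coord.e_x2, Coord.e_x4, C.T_zero_left, C.T_zero_right, C.sh_zero, C.N_zero] at k2 k4
  have s2 : (P.E.e s).a2 = 0 := by
    have h9 := congrArg (fun x => c * x) k2
    simp only [mul_inv_cancel_left₀ hc] at h9
    linear_combination h9 + k4
  have s4 : (P.E.e s).a4 = 0 := by rw [← k4, s2, mul_zero]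
  have : s = 1 := by
    apply P.E.ext
    · rw [h1, P.E.one_a1]
    · rw [s2, P.E.one_a2]
    · rw [h3, P.E.one_a3]
    · rw [s4, P.E.one_a4]
    · rw [h5, P.E.one_a5]
    · rw [h6, P.E.one_a6]
  rw [← hs, this]; rfl

theorem braid3 (hcube : (W.n * P.E.x6 1) ^ 3 = 1) :
    W.n * (P.E.x6 1 : G) * W.n = (P.E.x6 1 : G) * W.n * (P.E.x6 1 : G) := by
  have hx : (P.E.x6 1 : G)⁻¹ = P.E.x6 1 := inv_eq_of_mul_eq_one_right x6_sqG
  have e : (W.n * (P.E.x6 1 : G)) ^ 3 = (W.n * (P.E.x6 1 : G) * W.n) * ((P.E.x6 1 : G) * W.n * (P.E.x6 1 : G)) := by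
    rw [pow_succ, pow_two]; group
  rw [e] at hcube
  have h2 := eq_inv_of_mul_eq_one_left hcube
  rw [h2, _root_.mul_inv_rev, _root_.mul_inv_rev, W.inv, hx, mul_assoc]

theorem rel (hcube : (W.n * P.E.x6 1) ^ 3 = 1) {s : P.S} (hs : (P.E.e s).a6 = 0) :
    W.cn (X P (W.cn s)) = X P (W.cn (X P s)) := by
  have h1 : (P.E.e (X P (W.cn s))).a6 = 0 := by rw [e_X (W.cn_a6 hs)]
  have h2 : (P.E.e (X P s)).a6 = 0 := by rw [e_X hs]
  apply Subtype.ext
  rw [W.cn_coe h1]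
  unfold X
  rw [Subgroup.coe_mul, Subgroup.coe_mul, Subgroup.coe_mul, Subgroup.coe_mul, W.cn_coe hs]
  have h3 : (W.cn (P.E.x6 1 * s * P.E.x6 1) : G) = W.n * ((P.E.x6 1 : G) * s * P.E.x6 1) * W.n := by
    rw [W.cn_coe (by exact h2)]; rfl
  rw [h3]
  have e1 : W.n * ((P.E.x6 1 : G) * (W.n * (s : G) * W.n) * (P.E.x6 1 : G)) * W.n =
      (W.n * (P.E.x6 1 : G) * W.n) * (s : G) * (W.n * (P.E.x6 1 : G) * W.n) := by group
  rw [e1, W.braid3 hcube]
  group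

theorem final (hF : ∃ m : Fˣ, m ≠ 1) : (W.n * P.E.x6 1) ^ 3 = 1 ∧ (∀ t, W.cn (P.E.x1 t) = P.E.x5 t) ∧
    (∀ t, W.cn (P.E.x2 t) = P.E.x4 t) ∧ (∀ t, W.cn (P.E.x3 t) = P.E.x3 t) := by
  obtain ⟨d, hd, h1⟩ := W.cn_x1 hF
  obtain ⟨d3, hd3, h3⟩ := W.cn_x3 hF
  obtain ⟨c, hc, hdc, h2⟩ := W.cn_x2 hd hd3 h1 h3
  have hcube := W.cube hc h2
  have z1 : ∀ t, (P.E.e (P.E.x1 t)).a6 = 0 := fun t => by rw [Coord.e_x1]
  have z2 : ∀ t, (P.E.e (P.E.x2 t)).a6 = 0 := fun t => by rw [Coord.e_x2]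
  have z3 : ∀ t, (P.E.e (P.E.x3 t)).a6 = 0 := fun t => by rw [Coord.e_x3]
  have z4 : ∀ t, (P.E.e (P.E.x4 t)).a6 = 0 := fun t => by rw [Coord.e_x4]
  have z5 : ∀ t, (P.E.e (P.E.x5 t)).a6 = 0 := fun t => by rw [Coord.e_x5]
  have zm : ∀ {a b : P.S}, (P.E.e a).a6 = 0 → (P.E.e b).a6 = 0 → (P.E.e (a * b)).a6 = 0 :=
    fun ha hb => by rw [P.E.mul_a6, ha, hb, add_zero]
  have h5 := W.cn_x5 hd h1
  have h4 := W.cn_x4 hc h2
  -- apply the relation to `x5 1`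
  have hr := W.rel hcube (z5 1)
  have hX5 : X P (P.E.x5 1) = P.E.x5 1 := by
    apply P.E.e.injective
    rw [e_X (z5 1)]
    simp [Coord.e_x5, C.T_zero_left, C.N_zero, C.sh_zero]
  have hX1 : ∀ r, X P (P.E.x1 r) = P.E.x1 r * P.E.x2 (C.N r) * P.E.x3 (C.sh r) * P.E.x4 (C.N r) * P.E.x5 r := by
    intro r
    apply P.E.e.injective
    rw [e_X (z1 r)]
    have := P.E.e_prod r (C.N r) (C.sh r) (C.N r) r 0
    rw [P.E.x6_zero, mul_one] at this
    rw [this]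
    simp [Coord.e_x1, C.T_zero_left]
  rw [hX5, h5, hX1, W.cn_mul (zm (zm (zm (z1 _) (z2 _)) (z3 _)) (z4 _)) (z5 _),
    W.cn_mul (zm (zm (z1 _) (z2 _)) (z3 _)) (z4 _), W.cn_mul (zm (z1 _) (z2 _)) (z3 _),
    W.cn_mul (z1 _) (z2 _), h1, h2, h3, h4, h5] at hr
  have k1 := congrArg (fun s => (P.E.e s).a1) hr
  simp only [P.E.mul_a1, Coord.e_x1, Coord.e_x2, Coord.e_x3, Coord.e_x4, Coord.e_x5, zero_add, add_zero,
    one_mul] at k1
  have hd1 : d = 1 := by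
    have h9 : d⁻¹ * (d⁻¹ - 1) = 0 := by linear_combination k1
    rcases mul_eq_zero.1 h9 with h | h
    · exact absurd (inv_eq_zero.1 h) hd
    · rw [← inv_inv d, sub_eq_zero.1 h, inv_one]
  subst hd1
  have k3 := congrArg (fun s => (P.E.e s).a3) hr
  simp only [P.E.mul_a1, P.E.mul_a3, P.E.mul_a5, P.E.mul_a6, Coord.e_x1, Coord.e_x2, Coord.e_x3, Coord.e_x4,
    Coord.e_x5, zero_add, add_zero, one_mul, mul_one, inv_one, C.sh_one, C.cr_self, smul_zero, zero_smul,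
    C.cr_zero_left, C.cr_zero_right, C.sh_zero, C.N_one] at k3
  have hd3' : d3 = 1 := k3
  subst hd3'
  have hc1 : c = 1 := by
    apply (algebraMap F K).injective
    rw [← hdc, map_one, mul_one]
  subst hc1
  exact ⟨hcube, fun t => by rw [h1, mul_one], fun t => by rw [h2, one_mul], fun t => by rw [h3, mul_one]⟩

end WB

end Cfsg.Agent.HexRec
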