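import Cfsg.Agent.HexRec.Pre

/-!
# The braid relation
-/

set_option autoImplicit false

namespace Cfsg.Agent.HexRec

open Matrix
open Cfsg.Agent.ClassTwo.Sp4Defs Cfsg.Agent.ClassTwo.Sp4SL2

section SL2

variable {k : Type*} [Field k]

/-- a subgroup containing the upper unitriangular matrices and a matrix that is not upper triangular -/
theorem eq_top_of_u_of_lower (M : Subgroup (SpecialLinearGroup (Fin 2) k)) (hu : ∀ t, u t ∈ M)
    {x : SpecialLinearGroup (Fin 2) k} (hx : x ∈ M) (hc : x.1 1 0 ≠ 0) : M = ⊤ := by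
  have hdet := det_eq x
  have hg : x = u ((x.1 0 0 - 1) / x.1 1 0) * v (x.1 1 0) * u ((x.1 1 1 - 1) / x.1 1 0) := by
    rw [Cfsg.Agent.ClassTwo.Sp4SL2.ext_iff]
    simp [Matrix.mul_apply, Fin.sum_univ_two]
    refine ⟨?_, ?_, ?_⟩
    · field_simp
      ring
    · field_simp
      linear_combination -hdet
    · field_simp
      ring
  have hv : v (x.1 1 0) ∈ M := by
    have : (u ((x.1 0 0 - 1) / x.1 1 0))⁻¹ * x * (u ((x.1 1 1 - 1) / x.1 1 0))⁻¹ = v (x.1 1 0) := by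
      calc (u ((x.1 0 0 - 1) / x.1 1 0))⁻¹ * x * (u ((x.1 1 1 - 1) / x.1 1 0))⁻¹ =
          (u ((x.1 0 0 - 1) / x.1 1 0))⁻¹ * (u ((x.1 0 0 - 1) / x.1 1 0) * v (x.1 1 0) *
            u ((x.1 1 1 - 1) / x.1 1 0)) * (u ((x.1 1 1 - 1) / x.1 1 0))⁻¹ := by rw [← hg]
        _ = _ := by group
    rw [← this]
    exact mul_mem (mul_mem (inv_mem (hu _)) hx) (inv_mem (hu _))
  set c := x.1 1 0 with hcdef
  -- a Weyl element
  have hdw : d (Units.mk0 (-c)⁻¹ (inv_ne_zero (neg_ne_zero.2 hc))) * w k ∈ M := by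
    rw [d_mul_w]
    refine mul_mem (mul_mem (hu _) ?_) (hu _)
    have : -((((Units.mk0 (-c)⁻¹ (inv_ne_zero (neg_ne_zero.2 hc)))⁻¹ : kˣ) : k)) = c := by
      rw [Units.val_inv_eq_inv_val, Units.val_mk0, inv_inv, neg_neg]
    rw [this]; exact hv
  set l : kˣ := Units.mk0 (-c)⁻¹ (inv_ne_zero (neg_ne_zero.2 hc))
  apply eq_top_of_uv M hu
  intro t
  have h1 : (d l * w k) * u (-((l : k) ^ 2 * t)) * (d l * w k)⁻¹ = v t := by
    have e1 : (d l * w k) * u (-((l : k) ^ 2 * t)) * (d l * w k)⁻¹ =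
        d l * (w k * u (-((l : k) ^ 2 * t)) * (w k)⁻¹) * (d l)⁻¹ := by group
    rw [e1, w_conj_u, neg_neg, d_conj_v, ← mul_assoc, ← mul_pow, Units.inv_mul, one_pow, one_mul]
  rw [← h1]
  exact mul_mem (mul_mem hdw (hu _)) (inv_mem hdw)

variable [CharP k 2]

/-- a matrix commuting with a nontrivial diagonal matrix and of square one -/
theorem eq_one_of_comm {x : SpecialLinearGroup (Fin 2) k} {a : kˣ} (ha : a ≠ 1) (h1 : x * d a = d a * x)
    (h2 : x * x = 1) : x = 1 := by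
  have ha' : (a : k) ≠ 1 := fun h => ha (Units.ext (by simpa using h))
  have hsq := sq_ne_one ha'
  have ha0 : (a : k) ≠ 0 := a.ne_zero
  obtain ⟨-, e2, e3, -⟩ := ext_iff.1 h1
  simp [Matrix.mul_apply, Fin.sum_univ_two] at e2 e3
  have x01 : x.1 0 1 = 0 := by
    have : x.1 0 1 * ((a : k) ^ 2 - 1) = 0 := by
      field_simp at e2
      linear_combination -e2
    rcases mul_eq_zero.1 this with h | h
    · exact h
    · exact absurd h hsq
  have x10 : x.1 1 0 = 0 := by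
    have : x.1 1 0 * ((a : k) ^ 2 - 1) = 0 := by
      field_simp at e3
      linear_combination e3
    rcases mul_eq_zero.1 this with h | h
    · exact h
    · exact absurd h hsq
  obtain ⟨f1, -, -, f4⟩ := ext_iff.1 h2
  simp [Matrix.mul_apply, Fin.sum_univ_two, x01, x10] at f1 f4
  have sq : ∀ y : k, y * y = 1 → y = 1 := by
    intro y hy
    have h3' : (1 : k) + 1 = 0 := add_self _
    have h3 : y + y = 0 := add_self _
    have : (y - 1) * (y - 1) = 0 := by linear_combination hy - h3 + h3'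
    rcases mul_eq_zero.1 this with h | h <;> exact sub_eq_zero.1 h
  rw [Cfsg.Agent.ClassTwo.Sp4SL2.ext_iff]
  simp [x01, x10, sq _ (by simpa using f1), sq _ (by simpa using f4)]

/-- a matrix inverting a nontrivial diagonal matrix -/
theorem eq_w_mul_d {x : SpecialLinearGroup (Fin 2) k} {a : kˣ} (ha : a ≠ 1) (h1 : x * d a * x⁻¹ = (d a)⁻¹) :
    ∃ l : kˣ, x = w k * d l := by
  have ha' : (a : k) ≠ 1 := fun h => ha (Units.ext (by simpa using h))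
  have hsq := sq_ne_one ha'
  have ha0 : (a : k) ≠ 0 := a.ne_zero
  have h1' : x * d a = (d a)⁻¹ * x := by rw [← h1]; group
  rw [d_inv] at h1'
  have hdet := det_eq x
  obtain ⟨e1, -, -, e4⟩ := ext_iff.1 h1'
  simp [Matrix.mul_apply, Fin.sum_univ_two] at e1 e4
  have v00 : x.1 0 0 = 0 := by
    have : x.1 0 0 * ((a : k) ^ 2 - 1) = 0 := by
      field_simp at e1
      linear_combination e1
    rcases mul_eq_zero.1 this with h | h
    · exact h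
    · exact absurd h hsq
  have v11 : x.1 1 1 = 0 := by
    have : x.1 1 1 * ((a : k) ^ 2 - 1) = 0 := by
      field_simp at e4
      linear_combination -e4
    rcases mul_eq_zero.1 this with h | h
    · exact h
    · exact absurd h hsq
  rw [v00, zero_mul, zero_sub, CharTwo.neg_eq] at hdet
  have hc : x.1 1 0 ≠ 0 := by
    intro h; rw [h, mul_zero] at hdet; exact zero_ne_one hdet
  refine ⟨Units.mk0 _ hc, ?_⟩
  rw [Cfsg.Agent.ClassTwo.Sp4SL2.ext_iff]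
  simp [Matrix.mul_apply, Fin.sum_univ_two, v00, v11, CharTwo.neg_eq]
  exact eq_inv_of_mul_eq_one_left hdet

theorem lower_ne_zero {a : kˣ} (ha : a ≠ 1) : (w k * (u 1 * d a * u 1) * w k).1 1 0 ≠ 0 := by
  have ha' : (a : k) ≠ 1 := fun h => ha (Units.ext (by simpa using h))
  have hsq := sq_ne_one ha'
  have ha0 : (a : k) ≠ 0 := a.ne_zero
  simp [Matrix.mul_apply, Fin.sum_univ_two, CharTwo.neg_eq]
  intro h
  apply hsq
  have h2 : (1 : k) + 1 = 0 := add_self _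
  field_simp at h
  linear_combination h - h2

end SL2

variable {F K : Type*} [Field F] [Field K] [Algebra F K] {C : Cubic F K}

namespace Pre

open Par

variable {G : Type*} [Group G] (P : Pre C G)

/-- an element of `L1` with trivial image commuting with `h (1, m)` is trivial -/
theorem eq_one_of_L1 {m : Fˣ} (hm : m ≠ 1) {x : P.L1} (h1 : P.p1 x = 1) (h2 : Commute (x : G) (P.h (1, m))) :
    x = 1 := by
  obtain ⟨s, hs, hs1⟩ := (P.p1_ker x).1 h1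
  have : s = 1 := by
    apply P.eq_one_of_cj_a hm hs1
    apply Subtype.ext
    rw [Torus.cj_coe, hs, ← h2.eq, mul_inv_cancel_right]
  rw [this] at hs
  exact Subtype.ext hs.symm

/-- fixed points of the second torus in `Q2` -/
theorem eq_x3_of_cj {m : Fˣ} (hm : m ≠ 1) {s : P.S} (h6 : (P.E.e s).a6 = 0)
    (h : P.toTorus.cj (emb F K m⁻¹, m ^ 2) s = s) : ∃ t, s = P.E.x3 t := by
  refine ⟨(P.E.e s).a3, ?_⟩
  obtain ⟨hm1, hm2, hm3⟩ := unit_facts C hm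
  have e := congrArg P.E.e h
  rw [P.toTorus.e_cj, Tup.ext_iff] at e
  obtain ⟨e1, e2, -, e4, e5, -⟩ := e
  obtain ⟨hN, hS⟩ := WB.emb_facts C m⁻¹
  have hE : ((emb F K m⁻¹ : Kˣ) : K) = (algebraMap F K m)⁻¹ := by simp
  have hmF : (m : F) ≠ 0 := m.ne_zero
  have hmK : algebraMap F K m ≠ 0 := by simp
  simp only at e1 e2 e4 e5
  rw [hN] at e2 e4
  rw [hE] at e1 e5
  simp only [Units.val_pow_eq_pow_val, Units.val_inv_eq_inv_val, map_pow] at e2 e4 e5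
  apply P.E.ext
  · rw [Coord.e_x3]
    apply fix_eq_zero (c := (algebraMap F K m)⁻¹)
    · intro h; apply hm2; simpa using h
    · exact e1
  · rw [Coord.e_x3]
    apply fix_eq_zero (c := (m : F)⁻¹)
    · intro h; apply hm1; simpa using h
    · field_simp at e2 ⊢
      linear_combination e2
  · rw [Coord.e_x3]
  · rw [Coord.e_x3]
    apply fix_eq_zero (c := (m : F))
    · exact hm1
    · field_simp at e4 ⊢
      linear_combination e4
  · rw [Coord.e_x3]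
    apply fix_eq_zero (c := algebraMap F K m)
    · exact hm2
    · field_simp at e5 ⊢
      linear_combination e5
  · rw [h6, Coord.e_x3]

/-- an involution of `L2` commuting with the second torus is in `U3` -/
theorem mem_U3_of_L2 {m : Fˣ} (hm : m ≠ 1) {x : G} (hx : x ∈ P.L2) (h1 : x * x = 1)
    (h2 : Commute x (P.h (emb F K m⁻¹, m ^ 2))) : ∃ t, x = P.E.x3 t := by
  have : CharP F 2 := C.charP_F
  have h3 : P.p2 ⟨x, hx⟩ = 1 := by
    apply eq_one_of_comm hm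
    · rw [← P.p2_T2, ← map_mul, ← map_mul]
      congr 1
      exact Subtype.ext h2.eq
    · rw [← map_mul]
      have : (⟨x, hx⟩ : P.L2) * ⟨x, hx⟩ = 1 := Subtype.ext h1
      rw [this, map_one]
  obtain ⟨s, hs, hs6⟩ := (P.p2_ker _).1 h3
  have h4 : P.toTorus.cj (emb F K m⁻¹, m ^ 2) s = s := by
    apply Subtype.ext
    rw [Torus.cj_coe, hs]
    change P.h (emb F K m⁻¹, m ^ 2) * x * (P.h (emb F K m⁻¹, m ^ 2))⁻¹ = x
    rw [← h2.eq, mul_inv_cancel_right]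
  obtain ⟨t, rfl⟩ := P.eq_x3_of_cj hm hs6 h4
  exact ⟨t, hs.symm⟩

/-- an element of `L2` inverting the second torus -/
theorem eq_of_inv_L2 {m : Fˣ} (hm : m ≠ 1) {x : G} (hx : x ∈ P.L2)
    (h2 : x * P.h (emb F K m⁻¹, m ^ 2) * x⁻¹ = (P.h (emb F K m⁻¹, m ^ 2))⁻¹) :
    ∃ (l : Fˣ) (t : K), x = P.nb * P.h (emb F K l⁻¹, l ^ 2) * P.E.x3 t := by
  have : CharP F 2 := C.charP_F
  have h3 : P.p2 ⟨x, hx⟩ * d m * (P.p2 ⟨x, hx⟩)⁻¹ = (d m)⁻¹ := by
    rw [← P.p2_T2, ← map_mul, ← map_inv, ← map_inv, ← map_mul]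
    congr 1
    exact Subtype.ext h2
  obtain ⟨l, hl⟩ := eq_w_mul_d hm h3
  set y : P.L2 := (⟨P.nb, P.nb_mem⟩ * P.T2 l)⁻¹ * ⟨x, hx⟩ with hy
  have hy1 : P.p2 y = 1 := by
    rw [hy, map_mul, map_inv, map_mul, hl, P.p_nb, P.p2_T2, inv_mul_cancel]
  obtain ⟨s, hs, hs6⟩ := (P.p2_ker _).1 hy1
  set τ := P.h (emb F K m⁻¹, m ^ 2) with hτ
  set tl := P.h (emb F K l⁻¹, l ^ 2) with htl
  have hyG : (y : G) = (P.nb * tl)⁻¹ * x := rfl
  -- `nb` inverts `τ`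
  have hnb : P.nb * τ * P.nb = τ⁻¹ := by
    rw [hτ, P.nb_h, ← map_inv]
    congr 1
    rw [Prod.inv_mk, map_pow, map_inv, pow_two, inv_mul_cancel_left, inv_inv]
  have hcomm : tl * τ = τ * tl := P.toTorus.h_comm _ _
  have hyτ : (y : G) * τ * (y : G)⁻¹ = τ := by
    rw [hyG]
    have e1 : (P.nb * tl)⁻¹ * x * τ * ((P.nb * tl)⁻¹ * x)⁻¹ = tl⁻¹ * (P.nb⁻¹ * (x * τ * x⁻¹) * P.nb) * tl := by
      group
    rw [e1, h2, P.nb_inv]
    have e2 : P.nb * τ⁻¹ * P.nb = τ := by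
      rw [← hnb]
      have : P.nb * (P.nb * τ * P.nb) * P.nb = (P.nb * P.nb) * τ * (P.nb * P.nb) := by group
      rw [this, P.nb_sq]; group
    rw [e2, mul_assoc, ← hcomm, inv_mul_cancel_left]
  have h4 : P.toTorus.cj (emb F K m⁻¹, m ^ 2) s = s := by
    apply Subtype.ext
    rw [Torus.cj_coe, hs, ← hτ]
    rw [mul_inv_eq_iff_eq_mul] at hyτ ⊢
    exact hyτ.symm
  obtain ⟨t, rfl⟩ := P.eq_x3_of_cj hm hs6 h4
  refine ⟨l, t, ?_⟩
  rw [hs, hyG, mul_inv_cancel_left]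

theorem na_x5 (t : K) : P.na * (P.E.x5 t : G) * P.na = (P.E.x3 t : G) := by
  rw [← P.na_x3 t]
  have : P.na * (P.na * (P.E.x3 t : G) * P.na) * P.na = (P.na * P.na) * (P.E.x3 t : G) * (P.na * P.na) := by group
  rw [this, P.na_sq]; group

/-- the word of length six inverts the torus -/
theorem word_h (p : Kˣ × Fˣ) :
    (P.na * P.nb * P.na * P.nb * P.na * P.nb) * P.h p * (P.na * P.nb * P.na * P.nb * P.na * P.nb)⁻¹ =
      (P.h p)⁻¹ := by
  obtain ⟨a, m⟩ := p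
  have hA : ∀ x : G, P.na * x * P.na⁻¹ = P.na * x * P.na := fun x => by rw [P.na_inv]
  have hB : ∀ x : G, P.nb * x * P.nb⁻¹ = P.nb * x * P.nb := fun x => by rw [P.nb_inv]
  have e0 : (P.na * P.nb * P.na * P.nb * P.na * P.nb) * P.h (a, m) *
      (P.na * P.nb * P.na * P.nb * P.na * P.nb)⁻¹ =
      P.na * (P.nb * (P.na * (P.nb * (P.na * (P.nb * P.h (a, m) * P.nb⁻¹) * P.na⁻¹) * P.nb⁻¹) * P.na⁻¹) *
        P.nb⁻¹) * P.na⁻¹ := by group
  rw [e0]
  simp only [hA, hB, P.na_h, P.nb_h]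
  rw [← map_inv]
  congr 1
  rw [Prod.inv_mk]
  have hN : ∀ x : Fˣ, C.Nu (Units.map (algebraMap F K : F →* K) x) = x ^ 3 := C.Nu_map
  simp only [map_mul, map_inv, hN, map_pow]
  set M : Kˣ := Units.map (algebraMap F K : F →* K) m
  set A : Fˣ := C.Nu a
  set B : Kˣ := Units.map (algebraMap F K : F →* K) A
  refine Prod.ext ?_ ?_
  · apply Units.ext
    have h1 : (a : K) ≠ 0 := a.ne_zero
    have h2 : (M : K) ≠ 0 := M.ne_zero
    have h3 : (B : K) ≠ 0 := B.ne_zero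
    simp only [Units.val_mul, Units.val_inv_eq_inv_val, Units.val_pow_eq_pow_val]
    field_simp
  · apply Units.ext
    have h1 : (m : F) ≠ 0 := m.ne_zero
    have h2 : (A : F) ≠ 0 := A.ne_zero
    simp only [Units.val_mul, Units.val_inv_eq_inv_val, Units.val_pow_eq_pow_val]
    field_simp

/-- data around the Weyl element `n = na nb na nb na` -/
theorem x3_sq : (P.E.x3 1 : G) * (P.E.x3 1 : G) = 1 := by
  have : P.E.x3 1 * P.E.x3 1 = 1 := by
    apply P.E.ext <;> simp [P.E.mul_a1, P.E.mul_a2, P.E.mul_a3, P.E.mul_a4, P.E.mul_a5, P.E.mul_a6,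
      Coord.e_x3, C.T_zero_left, C.T_zero_right, C.cr_zero_left, C.sh_zero, C.N_zero, C.add_selfK,
      P.E.one_a1, P.E.one_a2, P.E.one_a3, P.E.one_a4, P.E.one_a5, P.E.one_a6]
  rw [← Subgroup.coe_mul, this]; rfl

/-- `r0 = na nb` -/
def r0 : G := P.na * P.nb
/-- `n = na nb na nb na` -/
def nn : G := P.r0 * P.na * (P.r0)⁻¹
/-- `g = x3(1) n` -/
def gg : G := (P.E.x3 1 : G) * P.nn

theorem r0_x1 (t : K) : P.r0 * (P.E.x1 t : G) * P.r0⁻¹ = (P.E.x3 t : G) := by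
  have e : P.r0 * (P.E.x1 t : G) * P.r0⁻¹ = P.na * (P.nb * (P.E.x1 t : G) * P.nb⁻¹) * P.na⁻¹ := by
    unfold r0; group
  rw [e, P.nb_inv, P.na_inv, P.nb_x1, P.na_x5]

theorem nn_sq : P.nn * P.nn = 1 := by
  unfold nn
  have e : P.r0 * P.na * P.r0⁻¹ * (P.r0 * P.na * P.r0⁻¹) = P.r0 * (P.na * P.na) * P.r0⁻¹ := by group
  rw [e, P.na_sq]; group

theorem nn_inv : P.nn⁻¹ = P.nn := inv_eq_of_mul_eq_one_right P.nn_sq

theorem nn_cube : P.nn * (P.E.x3 1 : G) * P.nn = (P.E.x3 1 : G) * P.nn * (P.E.x3 1 : G) := by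
  have h : P.r0 * (P.na * (P.E.x1 1 : G) * P.na) * P.r0⁻¹ =
      P.r0 * ((P.E.x1 1 : G) * P.na * (P.E.x1 1 : G)) * P.r0⁻¹ := by rw [P.na_cube]
  have g3 : ∀ h x y z : G, h * (x * y * z) * h⁻¹ = (h * x * h⁻¹) * (h * y * h⁻¹) * (h * z * h⁻¹) := by
    intros; group
  rw [g3, g3, r0_x1] at h
  exact h

theorem nn_eq : P.nn = P.gg * (P.E.x3 1 : G) * P.gg⁻¹ := by
  unfold gg
  have hx : (P.E.x3 1 : G)⁻¹ = P.E.x3 1 := inv_eq_of_mul_eq_one_right P.x3_sq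
  rw [_root_.mul_inv_rev, P.nn_inv, hx]
  have e : (P.E.x3 1 : G) * P.nn * (P.E.x3 1 : G) * (P.nn * (P.E.x3 1 : G)) =
      (P.E.x3 1 : G) * (P.nn * (P.E.x3 1 : G) * P.nn) * (P.E.x3 1 : G) := by group
  rw [e, P.nn_cube]
  have e2 : (P.E.x3 1 : G) * ((P.E.x3 1 : G) * P.nn * (P.E.x3 1 : G)) * (P.E.x3 1 : G) =
      ((P.E.x3 1 : G) * (P.E.x3 1 : G)) * P.nn * ((P.E.x3 1 : G) * (P.E.x3 1 : G)) := by group
  rw [e2, P.x3_sq]; group

/-- `r0` carries `h (1, m)` to the second torus -/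
theorem r0_h1 (m : Fˣ) : P.r0 * P.h (1, m) * P.r0⁻¹ = P.h (emb F K m⁻¹, m ^ 2) := by
  have e : P.r0 * P.h (1, m) * P.r0⁻¹ = P.na * (P.nb * P.h (1, m) * P.nb⁻¹) * P.na⁻¹ := by
    unfold r0; group
  rw [e, P.nb_inv, P.na_inv, P.nb_h, P.na_h, one_mul, C.Nu_map]
  congr 2
  group

theorem comm_na (m : Fˣ) : Commute P.na (P.h (1, m)) := by
  have h := P.na_h 1 m
  rw [inv_one, map_one, one_mul] at h
  have : P.na * P.h (1, m) * P.na⁻¹ = P.h (1, m) := by rw [P.na_inv]; exact h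
  exact mul_inv_eq_iff_eq_mul.1 this

theorem comm_x1 (m : Fˣ) (t : K) : Commute (P.E.x1 t : G) (P.h (1, m)) := by
  have h := P.conj1 1 m t
  rw [Units.val_one, one_mul] at h
  exact (mul_inv_eq_iff_eq_mul.1 h).symm

theorem comm_nn (m : Fˣ) : Commute P.nn (P.h (emb F K m⁻¹, m ^ 2)) := by
  rw [← P.r0_h1]
  unfold nn
  have h := P.comm_na m
  have e1 : P.r0 * P.na * P.r0⁻¹ * (P.r0 * P.h (1, m) * P.r0⁻¹) = P.r0 * (P.na * P.h (1, m)) * P.r0⁻¹ := by group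
  have e2 : P.r0 * P.h (1, m) * P.r0⁻¹ * (P.r0 * P.na * P.r0⁻¹) = P.r0 * (P.h (1, m) * P.na) * P.r0⁻¹ := by group
  change _ = _
  rw [e1, e2, h.eq]

theorem comm_x3 (m : Fˣ) (t : K) : Commute (P.E.x3 t : G) (P.h (emb F K m⁻¹, m ^ 2)) := by
  rw [← P.r0_h1, ← P.r0_x1]
  have h := P.comm_x1 m t
  have e1 : P.r0 * (P.E.x1 t : G) * P.r0⁻¹ * (P.r0 * P.h (1, m) * P.r0⁻¹) =
    P.r0 * ((P.E.x1 t : G) * P.h (1, m)) * P.r0⁻¹ := by group
  have e2 : P.r0 * P.h (1, m) * P.r0⁻¹ * (P.r0 * (P.E.x1 t : G) * P.r0⁻¹) =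
    P.r0 * (P.h (1, m) * (P.E.x1 t : G)) * P.r0⁻¹ := by group
  change _ = _
  rw [e1, e2, h.eq]

theorem comm_gg (m : Fˣ) : Commute P.gg (P.h (emb F K m⁻¹, m ^ 2)) :=
  (P.comm_x3 m 1).mul_left (P.comm_nn m)

theorem r0_gg : P.r0⁻¹ * P.gg * P.r0 = (P.E.x1 1 : G) * P.na := by
  unfold gg nn
  rw [← P.r0_x1]; group

theorem r0_x3 (t : K) : P.r0⁻¹ * (P.E.x3 t : G) * P.r0 = (P.E.x1 t : G) := by
  rw [← P.r0_x1]; group

theorem r0_h (p : Kˣ × Fˣ) : ∃ q, P.r0 * P.h p * P.r0⁻¹ = P.h q := by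
  obtain ⟨a, m⟩ := p
  have e : P.r0 * P.h (a, m) * P.r0⁻¹ = P.na * (P.nb * P.h (a, m) * P.nb⁻¹) * P.na⁻¹ := by
    unfold r0; group
  rw [e, P.nb_inv, P.na_inv, P.nb_h, P.na_h]
  exact ⟨_, rfl⟩

/-- transport of commutation -/
theorem comm_conj {x y r : G} (h : Commute x (r * y * r⁻¹)) : Commute (r⁻¹ * x * r) y := by
  have e1 : r⁻¹ * x * r * y = r⁻¹ * (x * (r * y * r⁻¹)) * r := by group
  have e2 : y * (r⁻¹ * x * r) = r⁻¹ * ((r * y * r⁻¹) * x) * r := by group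
  change _ = _
  rw [e1, e2, h.eq]

/-- an involution centralising the torus and `n` is trivial -/
theorem eq_one_of_comm_h (hF : ∃ m : Fˣ, m ≠ 1)
    (hU : ∀ x : G, x * x = 1 → Commute x (P.E.x3 1 : G) → x ∈ P.L2) {i : G} (hi : i * i = 1)
    (hh : ∀ p, Commute i (P.h p)) (hn : Commute i P.nn) : i = 1 := by
  have : CharP K 2 := C.charP_K
  obtain ⟨m, hm⟩ := hF
  -- `j = g⁻¹ i g`
  have hj1 : (P.gg⁻¹ * i * P.gg) * (P.gg⁻¹ * i * P.gg) = 1 := by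
    have e : (P.gg⁻¹ * i * P.gg) * (P.gg⁻¹ * i * P.gg) = P.gg⁻¹ * (i * i) * P.gg := by group
    rw [e, hi]; group
  have hj2 : Commute (P.gg⁻¹ * i * P.gg) (P.E.x3 1 : G) := by
    apply comm_conj; rw [← P.nn_eq]; exact hn
  have hj3 : Commute (P.gg⁻¹ * i * P.gg) (P.h (emb F K m⁻¹, m ^ 2)) := by
    have h1 := P.comm_gg m
    have h2 := (hh (emb F K m⁻¹, m ^ 2))
    exact (h1.inv_left.mul_left h2).mul_left h1
  obtain ⟨t, ht⟩ := P.mem_U3_of_L2 hm (hU _ hj1 hj2) hj1 hj3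
  -- `i' = r0⁻¹ i r0`
  set i' : G := P.r0⁻¹ * i * P.r0 with hi'
  have hi'1 : i' = ((P.E.x1 1 : G) * P.na) * (P.E.x1 t : G) * ((P.E.x1 1 : G) * P.na)⁻¹ := by
    have e1 : i = P.gg * (P.E.x3 t : G) * P.gg⁻¹ := by rw [← ht]; group
    rw [← P.r0_gg, ← P.r0_x3 t, hi']
    nth_rewrite 1 [e1]
    group
  have hL : i' ∈ P.L1 := by
    rw [hi'1]
    have h1 : (P.E.x1 1 : G) ∈ P.L1 := P.S_le1 (SetLike.coe_mem _)
    have h2 : (P.E.x1 t : G) ∈ P.L1 := P.S_le1 (SetLike.coe_mem _)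
    exact mul_mem (mul_mem (mul_mem h1 P.na_mem) h2) (inv_mem (mul_mem h1 P.na_mem))
  have hcomm : ∀ p, Commute i' (P.h p) := by
    intro p
    obtain ⟨q, hq⟩ := P.r0_h p
    apply comm_conj
    rw [hq]; exact hh q
  have hi'2 : i' * i' = 1 := by
    have e : i' * i' = P.r0⁻¹ * (i * i) * P.r0 := by rw [hi']; group
    rw [e, hi]; group
  have h3 : P.p1 ⟨i', hL⟩ = 1 := by
    apply eq_one_of_comm (a := emb F K m) (emb_ne_one hm)
    · rw [← P.p1_T1, ← map_mul, ← map_mul]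
      congr 1
      exact Subtype.ext (hcomm _).eq
    · rw [← map_mul]
      have : (⟨i', hL⟩ : P.L1) * ⟨i', hL⟩ = 1 := Subtype.ext hi'2
      rw [this, map_one]
  have h4 := P.eq_one_of_L1 hm h3 (hcomm _)
  have h5 : i' = 1 := congrArg (fun x : P.L1 => (x : G)) h4
  have : i = P.r0 * i' * P.r0⁻¹ := by rw [hi']; group
  rw [this, h5]; group

/-- the subgroup of `L1` centralising `z` and `h (1, m)` covers `L1 / Q1` -/
theorem comm_of_gen {m : Fˣ} (hm : m ≠ 1) {z : G}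
    (h1 : ∀ t, Commute z (((P.E.x1 1 : G) * P.na) * (P.E.x1 t : G) * ((P.E.x1 1 : G) * P.na)⁻¹))
    (h2 : ∀ a : Kˣ, Commute z (P.h (a ^ 2, (C.Nu a)⁻¹))) :
    (∀ t, Commute z (P.E.x1 t : G)) ∧ Commute z P.na := by
  have : CharP K 2 := C.charP_K
  let M : Subgroup P.L1 :=
    { carrier := {x | Commute (x : G) z ∧ Commute (x : G) (P.h (1, m))}
      one_mem' := ⟨Commute.one_left _, Commute.one_left _⟩
      mul_mem' := fun ha hb => ⟨ha.1.mul_left hb.1, ha.2.mul_left hb.2⟩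
      inv_mem' := fun ha => ⟨ha.1.inv_left, ha.2.inv_left⟩ }
  -- conjugated
  set v0 : SpecialLinearGroup (Fin 2) K := u 1 * w K with hv0
  have hMu : ∀ t, v0 * u t * v0⁻¹ ∈ M.map P.p1 := by
    intro t
    refine ⟨(P.X1 1 * ⟨P.na, P.na_mem⟩) * P.X1 t * (P.X1 1 * ⟨P.na, P.na_mem⟩)⁻¹, ⟨?_, ?_⟩, ?_⟩
    · exact (h1 t).symm
    · have c1 : Commute ((P.E.x1 1 : G) * P.na) (P.h (1, m)) := (P.comm_x1 m 1).mul_left (P.comm_na m)
      exact (c1.mul_left (P.comm_x1 m t)).mul_left c1.inv_left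
    · rw [map_mul, map_mul, map_inv, map_mul, P.p1_X1, P.p1_X1, P.p_na]
  have hMd : ∀ a : Kˣ, d a ∈ M.map P.p1 := by
    intro a
    refine ⟨P.T1 a, ⟨(h2 a).symm, ?_⟩, P.p1_T1 a⟩
    exact P.toTorus.h_comm _ _
  have htop : M.map P.p1 = ⊤ := by
    have h3 : (M.map P.p1).map (MulAut.conj v0⁻¹).toMonoidHom = ⊤ := by
      have ha : emb F K m ≠ 1 := emb_ne_one hm
      apply eq_top_of_u_of_lower _ (x := v0⁻¹ * d (emb F K m) * v0)
      · intro t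
        refine ⟨_, hMu t, ?_⟩
        change v0⁻¹ * (v0 * u t * v0⁻¹) * (v0⁻¹)⁻¹ = u t
        group
      · refine ⟨_, hMd (emb F K m), ?_⟩
        change v0⁻¹ * d (emb F K m) * (v0⁻¹)⁻¹ = _
        rw [inv_inv]
      · have e1 : v0⁻¹ * d (emb F K m) * v0 = w K * (u 1 * d (emb F K m) * u 1) * w K := by
          rw [hv0, _root_.mul_inv_rev, u_inv', w_inv]; group
        rw [e1]
        exact lower_ne_zero ha
    rw [← Subgroup.map_top_of_surjective (MulAut.conj v0⁻¹).toMonoidHom (MulAut.conj v0⁻¹).surjective] at h3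
    exact Subgroup.map_injective (MulAut.conj v0⁻¹).injective h3
  -- elements of `L1` commuting with `h (1, m)` lie in `M`
  have key : ∀ x : P.L1, Commute (x : G) (P.h (1, m)) → Commute (x : G) z := by
    intro x hx
    have hx1 : P.p1 x ∈ M.map P.p1 := by rw [htop]; trivial
    obtain ⟨y, hy, hxy⟩ := hx1
    have h3 : P.p1 (x * y⁻¹) = 1 := by rw [map_mul, map_inv, hxy, mul_inv_cancel]
    have h4 := P.eq_one_of_L1 hm h3 (by
      have : Commute ((x : G) * (y : G)⁻¹) (P.h (1, m)) := hx.mul_left hy.2.inv_left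
      exact this)
    rw [mul_inv_eq_one] at h4
    rw [h4]; exact hy.1
  exact ⟨fun t => (key (P.X1 t) (P.comm_x1 m t)).symm, (key ⟨P.na, P.na_mem⟩ (P.comm_na m)).symm⟩

theorem nn_mul_nb : P.nn * P.nb = P.na * P.nb * P.na * P.nb * P.na * P.nb := by
  unfold nn r0
  rw [_root_.mul_inv_rev, P.nb_inv, P.na_inv]
  simp only [mul_assoc]

theorem r0_T1 (a : Kˣ) : ∃ α : Kˣ, P.r0 * P.h (a ^ 2, (C.Nu a)⁻¹) * P.r0⁻¹ = P.h (α, 1) := by
  have e : P.r0 * P.h (a ^ 2, (C.Nu a)⁻¹) * P.r0⁻¹ =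
      P.na * (P.nb * P.h (a ^ 2, (C.Nu a)⁻¹) * P.nb⁻¹) * P.na⁻¹ := by
    unfold r0; group
  refine ⟨(a ^ 2 * Units.map (algebraMap F K : F →* K) (C.Nu a)⁻¹)⁻¹, ?_⟩
  rw [e, P.nb_inv, P.na_inv, P.nb_h, P.na_h]
  congr 2
  rw [map_mul, map_pow, C.Nu_map]
  group

theorem comm_nb (α : Kˣ) : Commute P.nb (P.h (α, 1)) := by
  have h := P.nb_h α 1
  rw [inv_one, map_one, mul_one] at h
  have : P.nb * P.h (α, 1) * P.nb⁻¹ = P.h (α, 1) := by rw [P.nb_inv]; exact h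
  exact mul_inv_eq_iff_eq_mul.1 this

theorem comm_nb_x3 (t : K) : Commute P.nb (P.E.x3 t : G) := by
  have h := P.nb_x3 t
  have : P.nb * (P.E.x3 t : G) * P.nb⁻¹ = (P.E.x3 t : G) := by rw [P.nb_inv]; exact h
  exact mul_inv_eq_iff_eq_mul.1 this

theorem comm_x3_x3 (s t : K) : Commute (P.E.x3 s : G) (P.E.x3 t : G) := by
  have : P.E.x3 s * P.E.x3 t = P.E.x3 t * P.E.x3 s := by
    apply P.E.ext <;> simp [P.E.mul_a1, P.E.mul_a2, P.E.mul_a3, P.E.mul_a4, P.E.mul_a5, P.E.mul_a6,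
      Coord.e_x3, C.T_zero_left, C.T_zero_right, C.cr_zero_left, C.sh_zero, C.N_zero, add_comm]
  exact congrArg (fun x : P.S => (x : G)) this

/-- `nb` inverts the second torus -/
theorem nb_inv_T (m : Fˣ) : P.nb * P.h (emb F K m⁻¹, m ^ 2) * P.nb⁻¹ = (P.h (emb F K m⁻¹, m ^ 2))⁻¹ := by
  rw [P.nb_inv, P.nb_h, ← map_inv]
  congr 1
  rw [Prod.inv_mk, map_pow, map_inv, pow_two, inv_mul_cancel_left, inv_inv]

/-- **The braid relation.** -/
theorem braid [Finite G] (hF : ∃ m : Fˣ, m ≠ 1)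
    (hU : ∀ x : G, x * x = 1 → Commute x (P.E.x3 1 : G) → x ∈ P.L2) : (P.na * P.nb) ^ 6 = 1 := by
  have hFF := hF
  obtain ⟨m, hm⟩ := hF
  set T := P.h (emb F K m⁻¹, m ^ 2) with hT
  set r := P.nn * P.nb with hr
  set k := r ^ 2 with hk
  have hnn := P.nn_inv
  have hnb := P.nb_inv
  have hrh : ∀ p, r * P.h p * r⁻¹ = (P.h p)⁻¹ := by
    intro p; rw [hr, P.nn_mul_nb]; exact P.word_h p
  have hkh : ∀ p, Commute k (P.h p) := by
    intro p
    have h1 : k * P.h p * k⁻¹ = P.h p := by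
      have e : k * P.h p * k⁻¹ = r * (r * P.h p * r⁻¹) * r⁻¹ := by
        rw [hk, pow_two, _root_.mul_inv_rev]; simp only [mul_assoc]
      have e2 : r * (P.h p)⁻¹ * r⁻¹ = (r * P.h p * r⁻¹)⁻¹ := by group
      rw [e, hrh, e2, hrh, inv_inv]
    exact mul_inv_eq_iff_eq_mul.1 h1
  have hrinv : r⁻¹ = P.nb * P.nn := by rw [hr, _root_.mul_inv_rev, hnn, hnb]
  have hnr : P.nn * r * P.nn⁻¹ = r⁻¹ := by
    rw [hrinv, hr, hnn]
    have e : P.nn * (P.nn * P.nb) * P.nn = (P.nn * P.nn) * P.nb * P.nn := by group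
    rw [e, P.nn_sq, one_mul]
  have hbr : P.nb * r * P.nb⁻¹ = r⁻¹ := by
    rw [hrinv, hr]; group
  have hnk : ∀ j : ℕ, P.nn * k ^ j * P.nn⁻¹ = (k ^ j)⁻¹ := by
    intro j
    have h1 : P.nn * k * P.nn⁻¹ = k⁻¹ := by
      have e : P.nn * k * P.nn⁻¹ = (P.nn * r * P.nn⁻¹) ^ 2 := by rw [conj_pow]
      rw [e, hnr, inv_pow]
    rw [← conj_pow, h1, inv_pow]
  have hbk : ∀ j : ℕ, P.nb * k ^ j * P.nb⁻¹ = (k ^ j)⁻¹ := by
    intro j
    have h1 : P.nb * k * P.nb⁻¹ = k⁻¹ := by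
      have e : P.nb * k * P.nb⁻¹ = (P.nb * r * P.nb⁻¹) ^ 2 := by rw [conj_pow]
      rw [e, hbr, inv_pow]
    rw [← conj_pow, h1, inv_pow]
  -- the order of `k` is odd
  have hodd : Odd (orderOf k) := by
    by_contra hne
    rw [Nat.not_odd_iff_even] at hne
    obtain ⟨j, hj⟩ := hne
    have hpos := orderOf_pos k
    have hi1 : k ^ j * k ^ j = 1 := by rw [← pow_add, ← hj, pow_orderOf_eq_one]
    have hi2 : k ^ j ≠ 1 := by
      intro h
      have := orderOf_dvd_of_pow_eq_one h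
      have := Nat.le_of_dvd (by omega) this
      omega
    apply hi2
    apply P.eq_one_of_comm_h hFF hU hi1 (fun p => (hkh p).pow_left j)
    have h1 := hnk j
    rw [inv_eq_of_mul_eq_one_right hi1] at h1
    exact (mul_inv_eq_iff_eq_mul.1 h1).symm
  obtain ⟨l, hl⟩ := hodd
  set d := k ^ ((l + 1) ^ 2) with hd
  have hd4 : d * d * (d * d) = k := by
    rw [hd, ← pow_add, ← pow_add]
    have e : (l + 1) ^ 2 + (l + 1) ^ 2 + ((l + 1) ^ 2 + (l + 1) ^ 2) = orderOf k * (2 * l + 3) + 1 := by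
      rw [hl]; ring
    rw [e, pow_succ, pow_mul, pow_orderOf_eq_one, one_pow, one_mul]
  have hdh : ∀ p, Commute d (P.h p) := fun p => (hkh p).pow_left _
  have hnd : P.nn * d * P.nn⁻¹ = d⁻¹ := hnk _
  have hbd : P.nb * d * P.nb⁻¹ = d⁻¹ := hbk _
  have hdr : Commute d r := by
    rw [hd, hk]; exact ((Commute.refl r).pow_left 2).pow_left _
  set b := d * P.nb * d⁻¹ with hb
  have hbb : b * b = 1 := by
    have e : b * b = d * (P.nb * P.nb) * d⁻¹ := by rw [hb]; group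
    rw [e, P.nb_sq]; group
  have hbinv : b⁻¹ = b := inv_eq_of_mul_eq_one_right hbb
  have hb2 : b = d * d * P.nb := by
    have e : b = d * (P.nb * d * P.nb⁻¹)⁻¹ * P.nb := by rw [hb]; group
    rw [e, hbd, inv_inv]
  -- `b` commutes with `n`
  have hbn : Commute b P.nn := by
    have h1 : P.nn * b * P.nn⁻¹ = b := by
      have e1 : P.nn * b * P.nn⁻¹ = (P.nn * d * P.nn⁻¹) * (P.nn * d * P.nn⁻¹) * (P.nn * P.nb * P.nn⁻¹) := by
        rw [hb2]; group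
      have e2 : P.nn * P.nb * P.nn⁻¹ = r * r * P.nb := by
        have : P.nb = P.nb⁻¹ := hnb.symm
        rw [hr, hnn]
        have e3 : P.nn * P.nb * (P.nn * P.nb) * P.nb = P.nn * P.nb * P.nn * (P.nb * P.nb) := by group
        rw [e3, P.nb_sq, mul_one]
      have e4 : r * r = d * d * (d * d) := by rw [hd4, hk, pow_two]
      rw [e1, hnd, e2, e4, hb2]
      simp only [mul_assoc, inv_mul_cancel_left]
    exact (mul_inv_eq_iff_eq_mul.1 h1).symm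
  -- `b` inverts the second torus
  have hbT : b * T * b⁻¹ = T⁻¹ := by
    have e1 : b * T * b⁻¹ = d * (P.nb * (d⁻¹ * T * d) * P.nb⁻¹) * d⁻¹ := by rw [hb]; group
    have e2 : d⁻¹ * T * d = T := by
      rw [mul_assoc, ← (hdh (emb F K m⁻¹, m ^ 2)).eq, inv_mul_cancel_left]
    rw [e1, e2, hT, P.nb_inv_T, ← hT]
    have e3 := (hdh (emb F K m⁻¹, m ^ 2)).inv_right
    rw [← hT] at e3
    rw [e3.eq, mul_inv_cancel_right]
  have hgT : Commute P.gg T := P.comm_gg m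
  -- `b'' = g⁻¹ b g`
  have h1 : (P.gg⁻¹ * b * P.gg) * (P.gg⁻¹ * b * P.gg) = 1 := by
    have e : (P.gg⁻¹ * b * P.gg) * (P.gg⁻¹ * b * P.gg) = P.gg⁻¹ * (b * b) * P.gg := by group
    rw [e, hbb]; group
  have h2 : Commute (P.gg⁻¹ * b * P.gg) (P.E.x3 1 : G) := by
    apply comm_conj; rw [← P.nn_eq]; exact hbn
  have h3 : (P.gg⁻¹ * b * P.gg) * T * (P.gg⁻¹ * b * P.gg)⁻¹ = T⁻¹ := by
    have e1 : (P.gg⁻¹ * b * P.gg) * T * (P.gg⁻¹ * b * P.gg)⁻¹ =
      P.gg⁻¹ * (b * (P.gg * T * P.gg⁻¹) * b⁻¹) * P.gg := by group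
    rw [e1, hgT.eq, mul_inv_cancel_right, hbT, mul_assoc, ← (hgT.inv_right).eq, inv_mul_cancel_left]
  obtain ⟨l1, t0, hl1⟩ := P.eq_of_inv_L2 hm (hU _ h1 h2) h3
  have h4 : ∀ t, Commute (P.gg⁻¹ * b * P.gg) (P.E.x3 t : G) := by
    intro t
    rw [hl1]
    exact ((P.comm_nb_x3 t).mul_left (P.comm_x3 l1 t).symm).mul_left (P.comm_x3_x3 t0 t)
  -- `z = r0⁻¹ b r0`
  set z := P.r0⁻¹ * b * P.r0 with hz
  have h5 : ∀ t, Commute z (((P.E.x1 1 : G) * P.na) * (P.E.x1 t : G) * ((P.E.x1 1 : G) * P.na)⁻¹) := by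
    intro t
    apply comm_conj
    rw [← P.r0_gg, ← P.r0_x3 t]
    have e : P.r0 * (P.r0⁻¹ * P.gg * P.r0 * (P.r0⁻¹ * (P.E.x3 t : G) * P.r0) * (P.r0⁻¹ * P.gg * P.r0)⁻¹) * P.r0⁻¹ =
      P.gg * (P.E.x3 t : G) * P.gg⁻¹ := by group
    rw [e]
    have h6 := h4 t
    have e2 : b = (P.gg⁻¹)⁻¹ * (P.gg⁻¹ * b * P.gg) * P.gg⁻¹ := by group
    rw [e2]
    apply comm_conj
    have e3 : P.gg⁻¹ * (P.gg * (P.E.x3 t : G) * P.gg⁻¹) * (P.gg⁻¹)⁻¹ = (P.E.x3 t : G) := by group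
    rw [e3]; exact h6
  have hbα : ∀ α : Kˣ, Commute b (P.h (α, 1)) := by
    intro α
    exact ((hdh (α, 1)).mul_left (P.comm_nb α)).mul_left (hdh (α, 1)).inv_left
  have h6 : ∀ a : Kˣ, Commute z (P.h (a ^ 2, (C.Nu a)⁻¹)) := by
    intro a
    obtain ⟨α, hα⟩ := P.r0_T1 a
    apply comm_conj
    rw [hα]; exact hbα α
  obtain ⟨h7, h8⟩ := P.comm_of_gen hm h5 h6
  have h9 : ∀ t, Commute b (P.E.x3 t : G) := by
    intro t
    have e2 : b = (P.r0⁻¹)⁻¹ * z * P.r0⁻¹ := by rw [hz]; group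
    rw [e2]
    apply comm_conj
    have e3 : P.r0⁻¹ * (P.E.x3 t : G) * (P.r0⁻¹)⁻¹ = (P.E.x1 t : G) := by rw [inv_inv]; exact P.r0_x3 t
    rw [e3]; exact h7 t
  obtain ⟨l2, t1, hl2⟩ := P.eq_of_inv_L2 hm (hU _ hbb (h9 1)) hbT
  -- `t1 = 0`
  have ht1 : t1 = 0 := by
    have c1 : Commute (P.nb * P.h (emb F K l2⁻¹, l2 ^ 2)) (P.h (emb F K m, 1)) :=
      (P.comm_nb _).mul_left (P.toTorus.h_comm _ _)
    have c2 : Commute (P.E.x3 t1 : G) (P.h (emb F K m, 1)) := by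
      have e : (P.E.x3 t1 : G) = (P.nb * P.h (emb F K l2⁻¹, l2 ^ 2))⁻¹ * b := by rw [hl2]; group
      rw [e]
      exact c1.inv_left.mul_left (hbα _)
    have c3 := P.conj3 (emb F K m) 1 t1
    rw [← c2.eq, mul_inv_cancel_right] at c3
    have c4 := Subtype.ext (a1 := P.E.x3 t1) (a2 := P.E.x3 _) c3
    have c5 := congrArg (fun s => (P.E.e s).a3) c4
    simp only [Coord.e_x3, Units.val_one, map_one, mul_one] at c5
    apply fix_eq_zero _ c5.symm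
    intro h
    exact emb_ne_one (K := K) hm (Units.ext (C.eq_one_of_sh_eq_one h))
  have hx30 : (P.E.x3 0 : G) = 1 := by
    have : P.E.x3 0 = 1 := by
      apply P.E.ext <;> simp [Coord.e_x3, P.E.one_a1, P.E.one_a2, P.E.one_a3, P.E.one_a4, P.E.one_a5, P.E.one_a6]
    rw [this]; rfl
  rw [ht1, hx30, mul_one] at hl2
  have h10 : Commute P.nb P.nn := by
    have e : P.nb = b * (P.h (emb F K l2⁻¹, l2 ^ 2))⁻¹ := by rw [hl2]; group
    rw [e]
    exact hbn.mul_left (P.comm_nn l2).symm.inv_left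
  have h11 : r * r = 1 := by
    rw [hr]
    have e : P.nn * P.nb * (P.nn * P.nb) = P.nn * (P.nb * P.nn) * P.nb := by group
    rw [e, h10.eq]
    have e2 : P.nn * (P.nn * P.nb) * P.nb = (P.nn * P.nn) * (P.nb * P.nb) := by group
    rw [e2, P.nn_sq, P.nb_sq, mul_one]
  have e : (P.na * P.nb) ^ 6 = r * r := by
    rw [hr, P.nn_mul_nb]
    simp only [pow_succ, pow_zero, one_mul, mul_assoc]
  rw [e, h11]

/-- the frame -/
theorem exists_frame [Finite G] (hF : ∃ m : Fˣ, m ≠ 1)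
    (hU : ∀ x : G, x * x = 1 → Commute x (P.E.x3 1 : G) → x ∈ P.L2) :
    ∃ Φ : Frame C G, Φ.toTorus = P.toTorus ∧ Φ.na = P.na ∧ Φ.nb = P.nb :=
  ⟨P.toFrame (P.braid hF hU), rfl, rfl, rfl⟩

end Pre

end Cfsg.Agent.HexRec
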