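import Mathlib

/-!
# Cubic data in characteristic two

`Cubic F K`: the (commutative associative) hexagonal systems of degree `1` and `3` used for the Sylow
2-subgroups of `G₂(q)` (`K = F`, `t^# = t²`) and `³D₄(q)` (`K/F` cubic, `t^# = t^q t^(q²)`).
-/

set_option autoImplicit false

namespace Cfsg.Agent.HexRec

/-- cubic data over a field of characteristic two -/
structure Cubic (F K : Type*) [Field F] [Field K] [Algebra F K] where
  /-- the trace -/
  tr : K →ₗ[F] F
  /-- the sharp map `t ↦ t^#` -/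
  sh : K → K
  /-- the norm -/
  N : K → F
  char2 : ∀ x : F, x + x = 0
  sh_mul : ∀ a b : K, sh (a * b) = sh a * sh b
  sh_map : ∀ f : F, sh (algebraMap F K f) = algebraMap F K f ^ 2
  N_map : ∀ a : K, algebraMap F K (N a) = a * sh a
  /-- polarisation of `sh` is additive -/
  sh_add : ∀ a b c : K, sh (a + b + c) + sh a + sh b + sh c =
    sh (a + b) + sh (b + c) + sh (a + c)
  /-- adjoint identity: `T(a × b, c) = T(a, b × c)` -/
  tr_cr : ∀ a b c : K, tr ((sh (a + b) + sh a + sh b) * c) = tr (a * (sh (b + c) + sh b + sh c))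
  N_add : ∀ a b : K, N (a + b) = N a + tr (sh a * b) + tr (a * sh b) + N b
  tr_one : tr 1 = 1
  tr_nondeg : ∀ a : K, (∀ b : K, tr (a * b) = 0) → a = 0

namespace Cubic

variable {F K : Type*} [Field F] [Field K] [Algebra F K] (C : Cubic F K)

/-- polarisation of `sh` -/
def cr (a b : K) : K := C.sh (a + b) + C.sh a + C.sh b

/-- the trace form -/
def T (a b : K) : F := C.tr (a * b)

include C in
theorem add_self (x : F) : x + x = 0 := C.char2 x

include C in
theorem two_F : (2 : F) = 0 := by
  have := C.char2 1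
  rw [← one_add_one_eq_two, this]

include C in
theorem two_K : (2 : K) = 0 := by
  have h : algebraMap F K 2 = 2 := map_ofNat (algebraMap F K) 2
  rw [← h, C.two_F, map_zero]

include C in
theorem add_selfK (x : K) : x + x = 0 := by
  rw [← two_mul, C.two_K, zero_mul]

include C in
theorem neg_eq (x : F) : -x = x := by
  rw [neg_eq_iff_add_eq_zero, C.add_self]

include C in
theorem neg_eqK (x : K) : -x = x := by
  rw [neg_eq_iff_add_eq_zero, C.add_selfK]

include C in
theorem eq_of_add_eq_zero {x y : F} (h : x + y = 0) : x = y := by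
  rw [← C.neg_eq y]; exact eq_neg_of_add_eq_zero_left h

include C in
theorem eq_of_add_eq_zeroK {x y : K} (h : x + y = 0) : x = y := by
  rw [← C.neg_eqK y]; exact eq_neg_of_add_eq_zero_left h

theorem sh_one : C.sh 1 = 1 := by
  have := C.sh_map 1
  simpa using this

theorem sh_zero : C.sh 0 = 0 := by
  have := C.sh_map 0
  simpa using this

theorem sh_smul (f : F) (a : K) : C.sh (f • a) = f ^ 2 • C.sh a := by
  rw [Algebra.smul_def, C.sh_mul, C.sh_map, Algebra.smul_def, map_pow]

theorem sh_ne_zero {a : K} (ha : a ≠ 0) : C.sh a ≠ 0 := by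
  intro h
  have : C.sh (a * a⁻¹) = 0 := by rw [C.sh_mul, h, zero_mul]
  rw [mul_inv_cancel₀ ha, C.sh_one] at this
  exact one_ne_zero this

theorem N_zero : C.N 0 = 0 := by
  have h : algebraMap F K (C.N 0) = 0 := by rw [C.N_map, zero_mul]
  exact (map_eq_zero _).1 h

theorem N_one : C.N 1 = 1 := by
  apply (algebraMap F K).injective
  rw [C.N_map, C.sh_one, map_one, mul_one]

theorem N_mul (a b : K) : C.N (a * b) = C.N a * C.N b := by
  apply (algebraMap F K).injective
  rw [map_mul, C.N_map, C.N_map, C.N_map, C.sh_mul]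
  ring

theorem N_smul (f : F) (a : K) : C.N (f • a) = f ^ 3 * C.N a := by
  apply (algebraMap F K).injective
  rw [map_mul, C.N_map, C.N_map, C.sh_smul, map_pow, Algebra.smul_def, Algebra.smul_def, map_pow]
  ring

theorem N_ne_zero {a : K} (ha : a ≠ 0) : C.N a ≠ 0 := by
  intro h
  have h2 := C.N_map a
  rw [h, map_zero] at h2
  exact mul_ne_zero ha (C.sh_ne_zero ha) h2.symm

theorem cr_comm (a b : K) : C.cr a b = C.cr b a := by
  unfold cr; rw [add_comm a b]; ring

theorem sh_add' (a b : K) : C.sh (a + b) = C.sh a + C.sh b + C.cr a b := by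
  unfold cr
  linear_combination (-(C.sh a) - C.sh b) * C.two_K

theorem cr_add_left (a b c : K) : C.cr (a + b) c = C.cr a c + C.cr b c := by
  unfold cr
  linear_combination C.sh_add a b c + (C.sh (a + b) - C.sh a - C.sh b - C.sh c) * C.two_K

theorem cr_add_right (a b c : K) : C.cr a (b + c) = C.cr a b + C.cr a c := by
  rw [C.cr_comm, C.cr_add_left, C.cr_comm b, C.cr_comm c]

theorem cr_zero_left (a : K) : C.cr 0 a = 0 := by
  unfold cr; rw [zero_add, C.sh_zero, add_zero, C.add_selfK]

theorem cr_zero_right (a : K) : C.cr a 0 = 0 := by rw [C.cr_comm, C.cr_zero_left]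

theorem cr_self (a : K) : C.cr a a = 0 := by
  unfold cr
  rw [C.add_selfK, C.sh_zero, zero_add, C.add_selfK]

theorem cr_mul (a b c : K) : C.cr (a * b) (a * c) = C.sh a * C.cr b c := by
  unfold cr
  rw [← mul_add, C.sh_mul, C.sh_mul, C.sh_mul]; ring

theorem cr_smul (f : F) (b c : K) : C.cr (f • b) (f • c) = f ^ 2 • C.cr b c := by
  rw [Algebra.smul_def, Algebra.smul_def, C.cr_mul, C.sh_map, Algebra.smul_def, map_pow]

theorem T_comm (a b : K) : C.T a b = C.T b a := by unfold T; rw [mul_comm]

theorem T_add_left (a b c : K) : C.T (a + b) c = C.T a c + C.T b c := by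
  unfold T; rw [add_mul, map_add]

theorem T_add_right (a b c : K) : C.T a (b + c) = C.T a b + C.T a c := by
  unfold T; rw [mul_add, map_add]

theorem T_smul_left (f : F) (a b : K) : C.T (f • a) b = f * C.T a b := by
  unfold T; rw [smul_mul_assoc, map_smul, smul_eq_mul]

theorem T_smul_right (f : F) (a b : K) : C.T a (f • b) = f * C.T a b := by
  unfold T; rw [mul_smul_comm, map_smul, smul_eq_mul]

theorem T_zero_left (a : K) : C.T 0 a = 0 := by unfold T; rw [zero_mul, map_zero]

theorem T_zero_right (a : K) : C.T a 0 = 0 := by unfold T; rw [mul_zero, map_zero]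

theorem T_cr (a b c : K) : C.T (C.cr a b) c = C.T a (C.cr b c) := C.tr_cr a b c

theorem T_cr_self (a b : K) : C.T (C.cr a b) b = 0 := by
  rw [C.T_cr, C.cr_self, C.T_zero_right]

theorem T_cr_self' (a b : K) : C.T (C.cr a b) a = 0 := by
  rw [C.cr_comm, C.T_cr_self]

theorem T_sh_self (a : K) : C.T (C.sh a) a = C.N a := by
  unfold T
  rw [mul_comm, ← C.N_map, Algebra.algebraMap_eq_smul_one, map_smul, C.tr_one, smul_eq_mul, mul_one]

theorem T_self_sh (a : K) : C.T a (C.sh a) = C.N a := by rw [C.T_comm, C.T_sh_self]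

theorem N_add' (a b : K) : C.N (a + b) = C.N a + C.T (C.sh a) b + C.T a (C.sh b) + C.N b := C.N_add a b

theorem T_nondeg {a : K} (h : ∀ b, C.T a b = 0) : a = 0 := C.tr_nondeg a h

theorem exists_T_eq {a : K} (ha : a ≠ 0) (f : F) : ∃ b, C.T a b = f := by
  by_contra hcon
  push Not at hcon
  apply ha
  apply C.T_nondeg
  intro b
  by_contra hb
  apply hcon ((f / C.T a b) • b)
  rw [C.T_smul_right, div_mul_cancel₀ _ hb]

theorem sh_sh (a : K) : a ≠ 0 → C.sh (C.sh a) = algebraMap F K (C.N a) * a := by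
  intro ha
  have h : C.sh (a * C.sh a) = algebraMap F K (C.N a) ^ 2 := by
    rw [← C.N_map, C.sh_map]
  rw [C.sh_mul] at h
  have hs := C.sh_ne_zero ha
  have h2 : C.sh a * C.sh (C.sh a) = C.sh a * (algebraMap F K (C.N a) * a) := by
    rw [h, C.N_map]; ring
  exact mul_left_cancel₀ hs h2

end Cubic

end Cfsg.Agent.HexRec
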