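import Cfsg.Agent.HexRec.Frame

/-!
# Identification by frames

`Frame.nonempty_mulEquiv`: two groups generated by frames over the same cubic data are isomorphic if one of them
is simple (`F ≠ 𝔽₂`, finite).
-/

set_option autoImplicit false

namespace Cfsg.Agent.HexRec

variable {F K : Type*} [Field F] [Field K] [Algebra F K] {C : Cubic F K}

/-- `Tup` is a product -/
def tupEquiv (F K : Type*) : Tup F K ≃ (K × K × K) × (F × F × F) where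
  toFun t := ((t.a1, t.a3, t.a5), (t.a2, t.a4, t.a6))
  invFun p := ⟨p.1.1, p.2.1, p.1.2.1, p.2.2.1, p.1.2.2, p.2.2.2⟩
  left_inv _ := rfl
  right_inv _ := rfl

theorem Cubic.card_F (C : Cubic F K) [Finite F] : ∃ n, 0 < n ∧ Nat.card F = 2 ^ n := by
  have : Fintype F := Fintype.ofFinite F
  have : CharP F 2 := CharTwo.of_one_ne_zero_of_two_eq_zero one_ne_zero C.two_F
  obtain ⟨n, _, h⟩ := FiniteField.card F 2
  exact ⟨n, n.pos, by rw [Nat.card_eq_fintype_card, h]⟩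

theorem Cubic.card_K (C : Cubic F K) [Finite K] : ∃ n, 0 < n ∧ Nat.card K = 2 ^ n := by
  have : Fintype K := Fintype.ofFinite K
  have : CharP K 2 := CharTwo.of_one_ne_zero_of_two_eq_zero one_ne_zero C.two_K
  obtain ⟨n, _, h⟩ := FiniteField.card K 2
  exact ⟨n, n.pos, by rw [Nat.card_eq_fintype_card, h]⟩

theorem Coord.card_eq {S : Type*} [Group S] (E : Coord C S) [Finite F] [Finite K] :
    ∃ n, Nat.card S = 2 ^ n := by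
  obtain ⟨n, _, hn⟩ := C.card_F
  obtain ⟨m, _, hm⟩ := C.card_K
  refine ⟨m + (m + m) + (n + (n + n)), ?_⟩
  rw [Nat.card_congr E.e, Nat.card_congr (tupEquiv F K)]
  simp only [Nat.card_prod, hn, hm, ← pow_add]

theorem odd_card_units (k : Type*) [Field k] [Finite k] (n : ℕ) (hn : 0 < n) (h : Nat.card k = 2 ^ n) :
    Odd (Nat.card kˣ) := by
  rw [Nat.card_units, h]
  obtain ⟨m, rfl⟩ := Nat.exists_eq_succ_of_ne_zero hn.ne'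
  have h2 : 0 < 2 ^ m := pow_pos two_pos m
  refine ⟨2 ^ m - 1, ?_⟩
  rw [pow_succ]
  omega

namespace Torus

variable {G : Type*} [Group G] (Φ : Torus C G)

theorem conj_mem (p : Kˣ × Fˣ) (s : Φ.S) : Φ.h p * (s : G) * (Φ.h p)⁻¹ ∈ Φ.S := by
  obtain ⟨a, m⟩ := p
  have hs := congrArg (fun x : Φ.S => (x : G)) (Φ.E.eq_prod s)
  simp only [Subgroup.coe_mul] at hs
  rw [hs]
  have e : ∀ g x1 x2 x3 x4 x5 x6 : G, g * (x1 * x2 * x3 * x4 * x5 * x6) * g⁻¹ =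
    (g * x1 * g⁻¹) * (g * x2 * g⁻¹) * (g * x3 * g⁻¹) * (g * x4 * g⁻¹) * (g * x5 * g⁻¹) * (g * x6 * g⁻¹) := by
    intros; group
  rw [e, Φ.conj1, Φ.conj2, Φ.conj3, Φ.conj4, Φ.conj5, Φ.conj6]
  exact SetLike.coe_mem (Φ.E.x1 _ * Φ.E.x2 _ * Φ.E.x3 _ * Φ.E.x4 _ * Φ.E.x5 _ * Φ.E.x6 _)

/-- `S` meets the torus trivially -/
theorem eq_one_of_mem [Finite F] [Finite K] (p : Kˣ × Fˣ) (hp : Φ.h p ∈ Φ.S) : p = 1 := by
  obtain ⟨n, hn, hF⟩ := C.card_F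
  obtain ⟨m, hm, hK⟩ := C.card_K
  obtain ⟨k, hk⟩ := Φ.E.card_eq
  apply Φ.h_inj
  rw [map_one]
  have h1 : orderOf (Φ.h p) ∣ 2 ^ k := by
    rw [← hk]
    have := orderOf_dvd_natCard (⟨Φ.h p, hp⟩ : Φ.S)
    rwa [Subgroup.orderOf_mk] at this
  have h2 : orderOf (Φ.h p) ∣ Nat.card Kˣ * Nat.card Fˣ := by
    refine (orderOf_map_dvd Φ.h p).trans ?_
    rw [← Nat.card_prod]
    exact orderOf_dvd_natCard p
  have hodd : Odd (Nat.card Kˣ * Nat.card Fˣ) := (odd_card_units K m hm hK).mul (odd_card_units F n hn hF)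
  have h3 : orderOf (Φ.h p) ∣ 1 := by
    have hc : Nat.Coprime (2 ^ k) (Nat.card Kˣ * Nat.card Fˣ) :=
      (Nat.coprime_two_left.2 hodd).pow_left k
    rw [← hc]
    exact Nat.dvd_gcd h1 h2
  exact orderOf_eq_one_iff.1 (Nat.dvd_one.1 h3)

end Torus

namespace Torus

variable {G : Type*} [Group G] (Φ : Torus C G)

/-- conjugation by a torus element -/
def cj (p : Kˣ × Fˣ) (s : Φ.S) : Φ.S := ⟨Φ.h p * (s : G) * (Φ.h p)⁻¹, Φ.conj_mem p s⟩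

theorem cj_coe (p : Kˣ × Fˣ) (s : Φ.S) : (Φ.cj p s : G) = Φ.h p * (s : G) * (Φ.h p)⁻¹ := rfl

theorem cj_mul (p : Kˣ × Fˣ) (s t : Φ.S) : Φ.cj p (s * t) = Φ.cj p s * Φ.cj p t := by
  apply Subtype.ext
  rw [Subgroup.coe_mul, cj_coe, cj_coe, cj_coe, Subgroup.coe_mul]; group

theorem cj_x1 (a : Kˣ) (m : Fˣ) (t : K) : Φ.cj (a, m) (Φ.E.x1 t) = Φ.E.x1 (a * t) :=
  Subtype.ext (Φ.conj1 a m t)
theorem cj_x2 (a : Kˣ) (m : Fˣ) (t : F) : Φ.cj (a, m) (Φ.E.x2 t) = Φ.E.x2 (C.N a * m * t) :=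
  Subtype.ext (Φ.conj2 a m t)
theorem cj_x3 (a : Kˣ) (m : Fˣ) (t : K) : Φ.cj (a, m) (Φ.E.x3 t) = Φ.E.x3 (C.sh a * algebraMap F K m * t) :=
  Subtype.ext (Φ.conj3 a m t)
theorem cj_x4 (a : Kˣ) (m : Fˣ) (t : F) : Φ.cj (a, m) (Φ.E.x4 t) = Φ.E.x4 (C.N a * m ^ 2 * t) :=
  Subtype.ext (Φ.conj4 a m t)
theorem cj_x5 (a : Kˣ) (m : Fˣ) (t : K) : Φ.cj (a, m) (Φ.E.x5 t) = Φ.E.x5 (a * algebraMap F K m * t) :=
  Subtype.ext (Φ.conj5 a m t)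
theorem cj_x6 (a : Kˣ) (m : Fˣ) (t : F) : Φ.cj (a, m) (Φ.E.x6 t) = Φ.E.x6 (m * t) :=
  Subtype.ext (Φ.conj6 a m t)

theorem cj_eq (p : Kˣ × Fˣ) (s : Φ.S) : Φ.cj p s =
    Φ.E.x1 (p.1 * (Φ.E.e s).a1) * Φ.E.x2 (C.N p.1 * p.2 * (Φ.E.e s).a2) *
    Φ.E.x3 (C.sh p.1 * algebraMap F K p.2 * (Φ.E.e s).a3) * Φ.E.x4 (C.N p.1 * p.2 ^ 2 * (Φ.E.e s).a4) *
    Φ.E.x5 (p.1 * algebraMap F K p.2 * (Φ.E.e s).a5) * Φ.E.x6 (p.2 * (Φ.E.e s).a6) := by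
  obtain ⟨a, m⟩ := p
  conv_lhs => rw [Φ.E.eq_prod s]
  simp only [cj_mul, cj_x1, cj_x2, cj_x3, cj_x4, cj_x5, cj_x6]

variable {G' : Type*} [Group G'] (Φ' : Torus C G')

theorem iso_cj (p : Kˣ × Fˣ) (s : Φ.S) : Φ.E.iso Φ'.E (Φ.cj p s) = Φ'.cj p (Φ.E.iso Φ'.E s) := by
  rw [cj_eq, cj_eq]
  simp only [map_mul, Coord.iso_x1, Coord.iso_x2, Coord.iso_x3, Coord.iso_x4, Coord.iso_x5, Coord.iso_x6,
    Coord.e_iso]

/-- the element of `G × G'` given by `s ∈ S` and a torus parameter -/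
def pr (s : Φ.S) (p : Kˣ × Fˣ) : G × G' := ((s : G) * Φ.h p, (Φ.E.iso Φ'.E s : G') * Φ'.h p)

theorem pr_mul (s t : Φ.S) (p q : Kˣ × Fˣ) :
    Φ.pr Φ' s p * Φ.pr Φ' t q = Φ.pr Φ' (s * Φ.cj p t) (p * q) := by
  refine Prod.ext ?_ ?_
  · simp only [pr, Prod.fst_mul, Subgroup.coe_mul, cj_coe, map_mul]; group
  · simp only [pr, Prod.snd_mul, map_mul, iso_cj, Subgroup.coe_mul, cj_coe]; group

theorem pr_one : Φ.pr Φ' 1 1 = 1 := by simp [pr, Prod.ext_iff]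

theorem pr_inv (s : Φ.S) (p : Kˣ × Fˣ) : (Φ.pr Φ' s p)⁻¹ = Φ.pr Φ' (Φ.cj p⁻¹ s⁻¹) p⁻¹ := by
  rw [inv_eq_iff_mul_eq_one, pr_mul]
  have h1 : Φ.cj p (Φ.cj p⁻¹ s⁻¹) = s⁻¹ := by
    apply Subtype.ext
    rw [cj_coe, cj_coe, map_inv]; group
  rw [h1, mul_inv_cancel, mul_inv_cancel, pr_one]

/-- the pairing of two tori -/
def pairing : Subgroup (G × G') where
  carrier := {x | ∃ (s : Φ.S) (p : Kˣ × Fˣ), x = Φ.pr Φ' s p}
  one_mem' := ⟨1, 1, (Φ.pr_one Φ').symm⟩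
  mul_mem' := by
    rintro _ _ ⟨s, p, rfl⟩ ⟨t, q, rfl⟩
    exact ⟨_, _, Φ.pr_mul Φ' s t p q⟩
  inv_mem' := by
    rintro _ ⟨s, p, rfl⟩
    exact ⟨_, _, Φ.pr_inv Φ' s p⟩

theorem pr_mem (s : Φ.S) (p : Kˣ × Fˣ) : Φ.pr Φ' s p ∈ Φ.pairing Φ' := ⟨s, p, rfl⟩

theorem s_mem (s : Φ.S) : ((s : G), (Φ.E.iso Φ'.E s : G')) ∈ Φ.pairing Φ' :=
  ⟨s, 1, by simp [pr]⟩

theorem h_mem (p : Kˣ × Fˣ) : (Φ.h p, Φ'.h p) ∈ Φ.pairing Φ' :=
  ⟨1, p, by simp [pr]⟩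

theorem x1_mem (t : K) : ((Φ.E.x1 t : G), (Φ'.E.x1 t : G')) ∈ Φ.pairing Φ' := by
  have := Φ.s_mem Φ' (Φ.E.x1 t); rwa [Coord.iso_x1] at this
theorem x2_mem (t : F) : ((Φ.E.x2 t : G), (Φ'.E.x2 t : G')) ∈ Φ.pairing Φ' := by
  have := Φ.s_mem Φ' (Φ.E.x2 t); rwa [Coord.iso_x2] at this
theorem x3_mem (t : K) : ((Φ.E.x3 t : G), (Φ'.E.x3 t : G')) ∈ Φ.pairing Φ' := by
  have := Φ.s_mem Φ' (Φ.E.x3 t); rwa [Coord.iso_x3] at this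
theorem x4_mem (t : F) : ((Φ.E.x4 t : G), (Φ'.E.x4 t : G')) ∈ Φ.pairing Φ' := by
  have := Φ.s_mem Φ' (Φ.E.x4 t); rwa [Coord.iso_x4] at this
theorem x5_mem (t : K) : ((Φ.E.x5 t : G), (Φ'.E.x5 t : G')) ∈ Φ.pairing Φ' := by
  have := Φ.s_mem Φ' (Φ.E.x5 t); rwa [Coord.iso_x5] at this
theorem x6_mem (t : F) : ((Φ.E.x6 t : G), (Φ'.E.x6 t : G')) ∈ Φ.pairing Φ' := by
  have := Φ.s_mem Φ' (Φ.E.x6 t); rwa [Coord.iso_x6] at this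

/-- `S` meets the torus trivially -/
theorem mul_eq_one [Finite F] [Finite K] {s : Φ.S} {p : Kˣ × Fˣ} (h : (s : G) * Φ.h p = 1) :
    s = 1 ∧ p = 1 := by
  have h1 : Φ.h p = ((s⁻¹ : Φ.S) : G) := by
    rw [Subgroup.coe_inv]; exact eq_inv_of_mul_eq_one_right h
  have h2 : p = 1 := Φ.eq_one_of_mem p (h1 ▸ SetLike.coe_mem _)
  refine ⟨?_, h2⟩
  rw [h2, map_one, mul_one] at h
  exact Subtype.ext h

theorem pairing_fst [Finite F] [Finite K] : ∀ d ∈ Φ.pairing Φ', d.1 = 1 → d = 1 := by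
  rintro _ ⟨s, p, rfl⟩ h
  obtain ⟨rfl, rfl⟩ := Φ.mul_eq_one h
  exact Φ.pr_one Φ'

theorem pairing_snd [Finite F] [Finite K] : ∀ d ∈ Φ.pairing Φ', d.2 = 1 → d = 1 := by
  rintro _ ⟨s, p, rfl⟩ h
  obtain ⟨h1, rfl⟩ := Φ'.mul_eq_one h
  have : s = 1 := by simpa using h1
  rw [this]
  exact Φ.pr_one Φ'

end Torus

namespace Frame

open Cfsg.Agent.HexRec.Graph

variable {G G' : Type*} [Group G] [Group G'] (Φ : Frame C G) (Φ' : Frame C G')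

theorem na_inv : Φ.na⁻¹ = Φ.na := inv_eq_of_mul_eq_one_right Φ.na_sq
theorem nb_inv : Φ.nb⁻¹ = Φ.nb := inv_eq_of_mul_eq_one_right Φ.nb_sq

theorem na_conj_comm {x y : G} (h : Φ.na * x * Φ.na = y) : Φ.na * y * Φ.na = x := by
  rw [← h]
  have : Φ.na * (Φ.na * x * Φ.na) * Φ.na = (Φ.na * Φ.na) * x * (Φ.na * Φ.na) := by group
  rw [this, Φ.na_sq]; group

theorem nb_conj_comm {x y : G} (h : Φ.nb * x * Φ.nb = y) : Φ.nb * y * Φ.nb = x := by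
  rw [← h]
  have : Φ.nb * (Φ.nb * x * Φ.nb) * Φ.nb = (Φ.nb * Φ.nb) * x * (Φ.nb * Φ.nb) := by group
  rw [this, Φ.nb_sq]; group

theorem na_x6 (t : F) : Φ.na * (Φ.E.x6 t : G) * Φ.na = (Φ.E.x2 t : G) := Φ.na_conj_comm (Φ.na_x2 t)
theorem na_x5 (t : K) : Φ.na * (Φ.E.x5 t : G) * Φ.na = (Φ.E.x3 t : G) := Φ.na_conj_comm (Φ.na_x3 t)
theorem nb_x5 (t : K) : Φ.nb * (Φ.E.x5 t : G) * Φ.nb = (Φ.E.x1 t : G) := Φ.nb_conj_comm (Φ.nb_x1 t)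
theorem nb_x4 (t : F) : Φ.nb * (Φ.E.x4 t : G) * Φ.nb = (Φ.E.x2 t : G) := Φ.nb_conj_comm (Φ.nb_x2 t)

/-- the pairs of Weyl elements -/
def nn : Bool → G × G'
  | true => (Φ.na, Φ'.na)
  | false => (Φ.nb, Φ'.nb)

/-- the pairs of root elements -/
def XX : Bool → Set (G × G')
  | true => {x | ∃ t : K, x = ((Φ.E.x1 t : G), (Φ'.E.x1 t : G'))}
  | false => {x | ∃ t : F, x = ((Φ.E.x6 t : G), (Φ'.E.x6 t : G'))}

theorem nn_sq (i : Bool) : Φ.nn Φ' i * Φ.nn Φ' i = 1 := by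
  cases i
  · exact Prod.ext Φ.nb_sq Φ'.nb_sq
  · exact Prod.ext Φ.na_sq Φ'.na_sq

theorem nn_inv (i : Bool) : (Φ.nn Φ' i)⁻¹ = Φ.nn Φ' i := inv_eq_of_mul_eq_one_right (Φ.nn_sq Φ' i)

theorem nn_true (x : G × G') : Φ.nn Φ' true * x * Φ.nn Φ' true = (Φ.na * x.1 * Φ.na, Φ'.na * x.2 * Φ'.na) := rfl
theorem nn_false (x : G × G') :
    Φ.nn Φ' false * x * Φ.nn Φ' false = (Φ.nb * x.1 * Φ.nb, Φ'.nb * x.2 * Φ'.nb) := rfl

/-- the paired Borel subgroup -/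
abbrev D : Subgroup (G × G') := Φ.toTorus.pairing Φ'.toTorus

theorem nn_h (i : Bool) (p : Kˣ × Fˣ) : Φ.nn Φ' i * (Φ.h p, Φ'.h p) * Φ.nn Φ' i ∈ Φ.D Φ' := by
  obtain ⟨a, m⟩ := p
  cases i
  · rw [nn_false, Φ.nb_h, Φ'.nb_h]; exact Torus.h_mem ..
  · rw [nn_true, Φ.na_h, Φ'.na_h]; exact Torus.h_mem ..

theorem conj_pr_true {r : Φ.S} (hr : (Φ.E.e r).a1 = 0) (p : Kˣ × Fˣ) :
    Φ.nn Φ' true * Φ.toTorus.pr Φ'.toTorus r p * (Φ.nn Φ' true)⁻¹ ∈ Φ.D Φ' := by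
  rw [nn_inv]
  have e1 := congrArg (fun x : Φ.S => (x : G)) (Φ.E.eq_prod r)
  have e2 := congrArg (fun x : Φ'.S => (x : G')) (Φ'.E.eq_prod (Φ.E.iso Φ'.E r))
  simp only [Subgroup.coe_mul, hr, Coord.x1_zero, one_mul, Coord.e_iso] at e1 e2
  have e3 : Φ.nn Φ' true * Φ.toTorus.pr Φ'.toTorus r p * Φ.nn Φ' true =
      (Φ.nn Φ' true * ((Φ.E.x2 (Φ.E.e r).a2 : G), (Φ'.E.x2 (Φ.E.e r).a2 : G')) * Φ.nn Φ' true) *
      (Φ.nn Φ' true * ((Φ.E.x3 (Φ.E.e r).a3 : G), (Φ'.E.x3 (Φ.E.e r).a3 : G')) * Φ.nn Φ' true) *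
      (Φ.nn Φ' true * ((Φ.E.x4 (Φ.E.e r).a4 : G), (Φ'.E.x4 (Φ.E.e r).a4 : G')) * Φ.nn Φ' true) *
      (Φ.nn Φ' true * ((Φ.E.x5 (Φ.E.e r).a5 : G), (Φ'.E.x5 (Φ.E.e r).a5 : G')) * Φ.nn Φ' true) *
      (Φ.nn Φ' true * ((Φ.E.x6 (Φ.E.e r).a6 : G), (Φ'.E.x6 (Φ.E.e r).a6 : G')) * Φ.nn Φ' true) *
      (Φ.nn Φ' true * (Φ.h p, Φ'.h p) * Φ.nn Φ' true) := by
    have e4 : Φ.toTorus.pr Φ'.toTorus r p =
        ((Φ.E.x2 (Φ.E.e r).a2 : G), (Φ'.E.x2 (Φ.E.e r).a2 : G')) *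
        ((Φ.E.x3 (Φ.E.e r).a3 : G), (Φ'.E.x3 (Φ.E.e r).a3 : G')) *
        ((Φ.E.x4 (Φ.E.e r).a4 : G), (Φ'.E.x4 (Φ.E.e r).a4 : G')) *
        ((Φ.E.x5 (Φ.E.e r).a5 : G), (Φ'.E.x5 (Φ.E.e r).a5 : G')) *
        ((Φ.E.x6 (Φ.E.e r).a6 : G), (Φ'.E.x6 (Φ.E.e r).a6 : G')) * (Φ.h p, Φ'.h p) := by
      refine Prod.ext ?_ ?_
      · simp only [Torus.pr, Prod.fst_mul]; rw [← e1]
      · simp only [Torus.pr, Prod.snd_mul]; rw [← e2]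
    rw [e4]
    have hn := Φ.nn_sq Φ' true
    have g6 : ∀ n a b c d e f : G × G', n * n = 1 → n * (a * b * c * d * e * f) * n =
        (n * a * n) * (n * b * n) * (n * c * n) * (n * d * n) * (n * e * n) * (n * f * n) := by
      intro n a b c d e f hn
      have hn' : n⁻¹ = n := inv_eq_of_mul_eq_one_right hn
      nth_rewrite 2 4 6 8 10 12 14 [← hn']
      group
    exact g6 _ _ _ _ _ _ _ hn
  rw [e3]
  refine mul_mem (mul_mem (mul_mem (mul_mem (mul_mem ?_ ?_) ?_) ?_) ?_) (Φ.nn_h Φ' true p) <;> rw [nn_true]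
  · simp only [na_x2]; exact Torus.x6_mem ..
  · simp only [na_x3]; exact Torus.x5_mem ..
  · simp only [na_x4]; exact Torus.x4_mem ..
  · simp only [na_x5]; exact Torus.x3_mem ..
  · simp only [na_x6]; exact Torus.x2_mem ..

theorem conj_pr_false {r : Φ.S} (hr : (Φ.E.e r).a6 = 0) (p : Kˣ × Fˣ) :
    Φ.nn Φ' false * Φ.toTorus.pr Φ'.toTorus r p * (Φ.nn Φ' false)⁻¹ ∈ Φ.D Φ' := by
  rw [nn_inv]
  have e1 := congrArg (fun x : Φ.S => (x : G)) (Φ.E.eq_prod r)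
  have e2 := congrArg (fun x : Φ'.S => (x : G')) (Φ'.E.eq_prod (Φ.E.iso Φ'.E r))
  simp only [Subgroup.coe_mul, hr, Coord.x6_zero, mul_one, Coord.e_iso] at e1 e2
  have e3 : Φ.nn Φ' false * Φ.toTorus.pr Φ'.toTorus r p * Φ.nn Φ' false =
      (Φ.nn Φ' false * ((Φ.E.x1 (Φ.E.e r).a1 : G), (Φ'.E.x1 (Φ.E.e r).a1 : G')) * Φ.nn Φ' false) *
      (Φ.nn Φ' false * ((Φ.E.x2 (Φ.E.e r).a2 : G), (Φ'.E.x2 (Φ.E.e r).a2 : G')) * Φ.nn Φ' false) *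
      (Φ.nn Φ' false * ((Φ.E.x3 (Φ.E.e r).a3 : G), (Φ'.E.x3 (Φ.E.e r).a3 : G')) * Φ.nn Φ' false) *
      (Φ.nn Φ' false * ((Φ.E.x4 (Φ.E.e r).a4 : G), (Φ'.E.x4 (Φ.E.e r).a4 : G')) * Φ.nn Φ' false) *
      (Φ.nn Φ' false * ((Φ.E.x5 (Φ.E.e r).a5 : G), (Φ'.E.x5 (Φ.E.e r).a5 : G')) * Φ.nn Φ' false) *
      (Φ.nn Φ' false * (Φ.h p, Φ'.h p) * Φ.nn Φ' false) := by
    have e4 : Φ.toTorus.pr Φ'.toTorus r p =
        ((Φ.E.x1 (Φ.E.e r).a1 : G), (Φ'.E.x1 (Φ.E.e r).a1 : G')) *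
        ((Φ.E.x2 (Φ.E.e r).a2 : G), (Φ'.E.x2 (Φ.E.e r).a2 : G')) *
        ((Φ.E.x3 (Φ.E.e r).a3 : G), (Φ'.E.x3 (Φ.E.e r).a3 : G')) *
        ((Φ.E.x4 (Φ.E.e r).a4 : G), (Φ'.E.x4 (Φ.E.e r).a4 : G')) *
        ((Φ.E.x5 (Φ.E.e r).a5 : G), (Φ'.E.x5 (Φ.E.e r).a5 : G')) * (Φ.h p, Φ'.h p) := by
      refine Prod.ext ?_ ?_
      · simp only [Torus.pr, Prod.fst_mul]; rw [← e1]
      · simp only [Torus.pr, Prod.snd_mul]; rw [← e2]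
    rw [e4]
    have hn := Φ.nn_sq Φ' false
    have g6 : ∀ n a b c d e f : G × G', n * n = 1 → n * (a * b * c * d * e * f) * n =
        (n * a * n) * (n * b * n) * (n * c * n) * (n * d * n) * (n * e * n) * (n * f * n) := by
      intro n a b c d e f hn
      have hn' : n⁻¹ = n := inv_eq_of_mul_eq_one_right hn
      nth_rewrite 2 4 6 8 10 12 14 [← hn']
      group
    exact g6 _ _ _ _ _ _ _ hn
  rw [e3]
  refine mul_mem (mul_mem (mul_mem (mul_mem (mul_mem ?_ ?_) ?_) ?_) ?_) (Φ.nn_h Φ' false p) <;> rw [nn_false]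
  · simp only [nb_x1]; exact Torus.x5_mem ..
  · simp only [nb_x2]; exact Torus.x4_mem ..
  · simp only [nb_x3]; exact Torus.x3_mem ..
  · simp only [nb_x4]; exact Torus.x2_mem ..
  · simp only [nb_x5]; exact Torus.x1_mem ..

theorem XX_le (i : Bool) : Φ.XX Φ' i ⊆ (Φ.D Φ' : Set (G × G')) := by
  cases i
  · rintro _ ⟨t, rfl⟩; exact Torus.x6_mem ..
  · rintro _ ⟨t, rfl⟩; exact Torus.x1_mem ..

theorem factor (i : Bool) : ∀ b ∈ Φ.D Φ', ∃ c ∈ Φ.D Φ', ∃ x ∈ Φ.XX Φ' i,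
    b = c * x ∧ Φ.nn Φ' i * c * (Φ.nn Φ' i)⁻¹ ∈ Φ.D Φ' := by
  rintro _ ⟨s, ⟨a, m⟩, rfl⟩
  cases i
  · set t : F := (m⁻¹ : Fˣ) * (Φ.E.e s).a6 with ht
    set x : G × G' := ((Φ.E.x6 t : G), (Φ'.E.x6 t : G')) with hx
    have hxm : x ∈ Φ.D Φ' := Torus.x6_mem ..
    refine ⟨Φ.toTorus.pr Φ'.toTorus s (a, m) * x⁻¹, mul_mem (Torus.pr_mem ..) (inv_mem hxm), x, ⟨t, rfl⟩,
      by group, ?_⟩
    have hx' : x⁻¹ = Φ.toTorus.pr Φ'.toTorus (Φ.E.x6 t)⁻¹ 1 := by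
      rw [hx, Prod.inv_mk]
      refine Prod.ext ?_ ?_
      · simp [Torus.pr]
      · simp [Torus.pr, map_inv, Coord.iso_x6]
    rw [hx', Torus.pr_mul, mul_one]
    apply conj_pr_false
    have h6 : (Φ.E.x6 t)⁻¹ = Φ.E.x6 t := by
      rw [inv_eq_iff_mul_eq_one]
      have h0 : Φ.E.x6 t * Φ.E.x6 t = Φ.E.x6 0 := by
        apply Φ.E.ext <;> simp [Φ.E.mul_a1, Φ.E.mul_a2, Φ.E.mul_a3, Φ.E.mul_a4, Φ.E.mul_a5, Φ.E.mul_a6,
          Coord.e_x6, C.T_zero_left, C.cr_zero_left, C.sh_zero, C.N_zero, C.add_self]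
      rw [h0, Coord.x6_zero]
    rw [h6, Torus.cj_x6, Φ.E.mul_a6, Coord.e_x6]
    simp [ht, C.add_self]
  · set t : K := (a⁻¹ : Kˣ) * (Φ.E.e s).a1 with ht
    set x : G × G' := ((Φ.E.x1 t : G), (Φ'.E.x1 t : G')) with hx
    have hxm : x ∈ Φ.D Φ' := Torus.x1_mem ..
    refine ⟨Φ.toTorus.pr Φ'.toTorus s (a, m) * x⁻¹, mul_mem (Torus.pr_mem ..) (inv_mem hxm), x, ⟨t, rfl⟩,
      by group, ?_⟩
    have hx' : x⁻¹ = Φ.toTorus.pr Φ'.toTorus (Φ.E.x1 t)⁻¹ 1 := by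
      rw [hx, Prod.inv_mk]
      refine Prod.ext ?_ ?_
      · simp [Torus.pr]
      · simp [Torus.pr, map_inv, Coord.iso_x1]
    rw [hx', Torus.pr_mul, mul_one]
    apply conj_pr_true
    have h6 : (Φ.E.x1 t)⁻¹ = Φ.E.x1 t := by
      rw [inv_eq_iff_mul_eq_one]
      have h0 : Φ.E.x1 t * Φ.E.x1 t = Φ.E.x1 0 := by
        apply Φ.E.ext <;> simp [Φ.E.mul_a1, Φ.E.mul_a2, Φ.E.mul_a3, Φ.E.mul_a4, Φ.E.mul_a5, Φ.E.mul_a6,
          Coord.e_x1, C.T_zero_right, C.cr_zero_right, C.sh_zero, C.add_selfK]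
      rw [h0, Coord.x1_zero]
    rw [h6, Torus.cj_x1, Φ.E.mul_a1, Coord.e_x1]
    simp [ht, C.add_selfK]

theorem chain (i : Bool) (k : ℕ) (hk : k < 6) : ∀ x ∈ Φ.XX Φ' i,
    (alt (Φ.nn Φ') (!i) k)⁻¹ * x * alt (Φ.nn Φ') (!i) k ∈ Φ.D Φ' := by
  have step : ∀ (j : Bool) (k : ℕ) (x y : G × G'), Φ.nn Φ' j * x * Φ.nn Φ' j = y →
      (alt (Φ.nn Φ') (!j) k)⁻¹ * y * alt (Φ.nn Φ') (!j) k ∈ Φ.D Φ' →
      (alt (Φ.nn Φ') j (k+1))⁻¹ * x * alt (Φ.nn Φ') j (k+1) ∈ Φ.D Φ' := by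
    intro j k x y h h2
    rw [← h] at h2
    have : (alt (Φ.nn Φ') j (k+1))⁻¹ * x * alt (Φ.nn Φ') j (k+1) =
        (alt (Φ.nn Φ') (!j) k)⁻¹ * ((Φ.nn Φ' j)⁻¹ * x * Φ.nn Φ' j) * alt (Φ.nn Φ') (!j) k := by
      rw [alt_succ]; group
    rw [this, nn_inv]
    exact h2
  have z : ∀ (j : Bool) (x : G × G'), x ∈ Φ.D Φ' → (alt (Φ.nn Φ') j 0)⁻¹ * x * alt (Φ.nn Φ') j 0 ∈ Φ.D Φ' := by
    intro j x hx
    simpa [alt_zero] using hx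
  cases i
  · rintro _ ⟨t, rfl⟩
    have s1 : ∀ t, Φ.nn Φ' true * ((Φ.E.x6 t : G), (Φ'.E.x6 t : G')) * Φ.nn Φ' true =
        ((Φ.E.x2 t : G), (Φ'.E.x2 t : G')) := fun t => by rw [nn_true, na_x6, na_x6]
    have s2 : ∀ t, Φ.nn Φ' false * ((Φ.E.x2 t : G), (Φ'.E.x2 t : G')) * Φ.nn Φ' false =
        ((Φ.E.x4 t : G), (Φ'.E.x4 t : G')) := fun t => by rw [nn_false, Φ.nb_x2, Φ'.nb_x2]
    have s3 : ∀ t, Φ.nn Φ' true * ((Φ.E.x4 t : G), (Φ'.E.x4 t : G')) * Φ.nn Φ' true =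
        ((Φ.E.x4 t : G), (Φ'.E.x4 t : G')) := fun t => by rw [nn_true, Φ.na_x4, Φ'.na_x4]
    have s4 : ∀ t, Φ.nn Φ' false * ((Φ.E.x4 t : G), (Φ'.E.x4 t : G')) * Φ.nn Φ' false =
        ((Φ.E.x2 t : G), (Φ'.E.x2 t : G')) := fun t => by rw [nn_false, nb_x4, nb_x4]
    have s5 : ∀ t, Φ.nn Φ' true * ((Φ.E.x2 t : G), (Φ'.E.x2 t : G')) * Φ.nn Φ' true =
        ((Φ.E.x6 t : G), (Φ'.E.x6 t : G')) := fun t => by rw [nn_true, Φ.na_x2, Φ'.na_x2]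
    interval_cases k
    · exact z _ _ (Torus.x6_mem ..)
    · exact step _ _ _ _ (s1 t) (z _ _ (Torus.x2_mem ..))
    · exact step _ _ _ _ (s1 t) (step _ _ _ _ (s2 t) (z _ _ (Torus.x4_mem ..)))
    · exact step _ _ _ _ (s1 t) (step _ _ _ _ (s2 t) (step _ _ _ _ (s3 t) (z _ _ (Torus.x4_mem ..))))
    · exact step _ _ _ _ (s1 t) (step _ _ _ _ (s2 t) (step _ _ _ _ (s3 t) (step _ _ _ _ (s4 t)
        (z _ _ (Torus.x2_mem ..)))))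
    · exact step _ _ _ _ (s1 t) (step _ _ _ _ (s2 t) (step _ _ _ _ (s3 t) (step _ _ _ _ (s4 t)
        (step _ _ _ _ (s5 t) (z _ _ (Torus.x6_mem ..))))))
  · rintro _ ⟨t, rfl⟩
    have s1 : ∀ t, Φ.nn Φ' false * ((Φ.E.x1 t : G), (Φ'.E.x1 t : G')) * Φ.nn Φ' false =
        ((Φ.E.x5 t : G), (Φ'.E.x5 t : G')) := fun t => by rw [nn_false, Φ.nb_x1, Φ'.nb_x1]
    have s2 : ∀ t, Φ.nn Φ' true * ((Φ.E.x5 t : G), (Φ'.E.x5 t : G')) * Φ.nn Φ' true =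
        ((Φ.E.x3 t : G), (Φ'.E.x3 t : G')) := fun t => by rw [nn_true, na_x5, na_x5]
    have s3 : ∀ t, Φ.nn Φ' false * ((Φ.E.x3 t : G), (Φ'.E.x3 t : G')) * Φ.nn Φ' false =
        ((Φ.E.x3 t : G), (Φ'.E.x3 t : G')) := fun t => by rw [nn_false, Φ.nb_x3, Φ'.nb_x3]
    have s4 : ∀ t, Φ.nn Φ' true * ((Φ.E.x3 t : G), (Φ'.E.x3 t : G')) * Φ.nn Φ' true =
        ((Φ.E.x5 t : G), (Φ'.E.x5 t : G')) := fun t => by rw [nn_true, Φ.na_x3, Φ'.na_x3]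
    have s5 : ∀ t, Φ.nn Φ' false * ((Φ.E.x5 t : G), (Φ'.E.x5 t : G')) * Φ.nn Φ' false =
        ((Φ.E.x1 t : G), (Φ'.E.x1 t : G')) := fun t => by rw [nn_false, nb_x5, nb_x5]
    interval_cases k
    · exact z _ _ (Torus.x1_mem ..)
    · exact step _ _ _ _ (s1 t) (z _ _ (Torus.x5_mem ..))
    · exact step _ _ _ _ (s1 t) (step _ _ _ _ (s2 t) (z _ _ (Torus.x3_mem ..)))
    · exact step _ _ _ _ (s1 t) (step _ _ _ _ (s2 t) (step _ _ _ _ (s3 t) (z _ _ (Torus.x3_mem ..))))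
    · exact step _ _ _ _ (s1 t) (step _ _ _ _ (s2 t) (step _ _ _ _ (s3 t) (step _ _ _ _ (s4 t)
        (z _ _ (Torus.x5_mem ..)))))
    · exact step _ _ _ _ (s1 t) (step _ _ _ _ (s2 t) (step _ _ _ _ (s3 t) (step _ _ _ _ (s4 t)
        (step _ _ _ _ (s5 t) (z _ _ (Torus.x1_mem ..))))))

theorem rules : Rules (Φ.D Φ') (Φ.nn Φ') (Φ.XX Φ') 6 where
  factor := Φ.factor Φ'
  X_le := Φ.XX_le Φ'
  chain := Φ.chain Φ'
  one_le := by norm_num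
  rankOne := by
    intro i x hx
    cases i
    · obtain ⟨t, rfl⟩ := hx
      rcases eq_or_ne t 0 with rfl | ht
      · left
        rw [nn_false, Coord.x6_zero, Coord.x6_zero]
        simp [Φ.nb_sq, Φ'.nb_sq, ← Prod.one_eq_mk, one_mem]
      · right
        have h1 := Φ.rank1b (Units.mk0 t ht)
        have h2 := Φ'.rank1b (Units.mk0 t ht)
        rw [Units.val_mk0] at h1 h2
        refine ⟨_, mul_mem (Torus.x6_mem Φ.toTorus Φ'.toTorus ((Units.mk0 t ht)⁻¹ : Fˣ))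
          (Torus.h_mem Φ.toTorus Φ'.toTorus
            (Units.map (algebraMap F K : F →* K) (Units.mk0 t ht), (Units.mk0 t ht)⁻¹ ^ 2)), _, Torus.x6_mem Φ.toTorus Φ'.toTorus ((Units.mk0 t ht)⁻¹ : Fˣ), ?_⟩
        rw [nn_false]
        exact Prod.ext h1 h2
    · obtain ⟨t, rfl⟩ := hx
      rcases eq_or_ne t 0 with rfl | ht
      · left
        rw [nn_true, Coord.x1_zero, Coord.x1_zero]
        simp [Φ.na_sq, Φ'.na_sq, ← Prod.one_eq_mk, one_mem]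
      · right
        have h1 := Φ.rank1a (Units.mk0 t ht)
        have h2 := Φ'.rank1a (Units.mk0 t ht)
        rw [Units.val_mk0] at h1 h2
        refine ⟨_, mul_mem (Torus.x1_mem Φ.toTorus Φ'.toTorus ((Units.mk0 t ht)⁻¹ : Kˣ))
          (Torus.h_mem Φ.toTorus Φ'.toTorus ((Units.mk0 t ht)⁻¹ ^ 2, C.Nu (Units.mk0 t ht))), _, Torus.x1_mem Φ.toTorus Φ'.toTorus ((Units.mk0 t ht)⁻¹ : Kˣ), ?_⟩
        rw [nn_true]
        exact Prod.ext h1 h2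
  braid := by
    have hb : (Φ.nn Φ' true * Φ.nn Φ' false) ^ 6 = 1 := Prod.ext Φ.braid Φ'.braid
    have key : alt (Φ.nn Φ') true 6 = alt (Φ.nn Φ') false 6 := by
      set x := Φ.nn Φ' true with hx
      set y := Φ.nn Φ' false with hy
      have hxx : x⁻¹ = x := Φ.nn_inv Φ' true
      have hyy : y⁻¹ = y := Φ.nn_inv Φ' false
      have e1 : alt (Φ.nn Φ') true 6 = (x * y) ^ 3 := by
        simp only [alt_succ, alt_zero, Bool.not_true, Bool.not_false, ← hx, ← hy, mul_one]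
        simp only [pow_succ, pow_zero, one_mul, mul_assoc]
      have e2 : alt (Φ.nn Φ') false 6 = (y * x) ^ 3 := by
        simp only [alt_succ, alt_zero, Bool.not_true, Bool.not_false, ← hx, ← hy, mul_one]
        simp only [pow_succ, pow_zero, one_mul, mul_assoc]
      rw [e1, e2]
      have e3 : y * x = (x * y)⁻¹ := by rw [mul_inv_rev, hxx, hyy]
      rw [e3, inv_pow, eq_inv_iff_mul_eq_one, ← pow_add]
      exact hb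
    intro i
    refine ⟨1, one_mem _, 1, one_mem _, ?_⟩
    rw [one_mul, mul_one]
    cases i
    · exact key.symm
    · exact key

/-! ### no alternating word lies in the Borel subgroup -/

/-- the Weyl elements -/
def nw : Bool → G
  | true => Φ.na
  | false => Φ.nb

/-- action of the Weyl elements on torus parameters -/
def sg (C : Cubic F K) : Bool → Kˣ × Fˣ → Kˣ × Fˣ
  | true, p => (p.1⁻¹, C.Nu p.1 * p.2)
  | false, p => (p.1 * Units.map (algebraMap F K : F →* K) p.2, p.2⁻¹)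

theorem nw_h (i : Bool) (p : Kˣ × Fˣ) : Φ.nw i * Φ.h p * (Φ.nw i)⁻¹ = Φ.h (sg C i p) := by
  obtain ⟨a, m⟩ := p
  cases i
  · rw [nw, nb_inv, Φ.nb_h]; rfl
  · rw [nw, na_inv, Φ.na_h]; rfl

/-- action of the alternating words on torus parameters -/
def sgw (C : Cubic F K) : Bool → ℕ → Kˣ × Fˣ → Kˣ × Fˣ
  | _, 0, p => p
  | i, (k+1), p => sg C i (sgw C (!i) k p)

def sgw_eqdef := @sgw.eq_def
def sgw_ind := @sgw.induct

theorem alt_h (i : Bool) (k : ℕ) (p : Kˣ × Fˣ) :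
    alt Φ.nw i k * Φ.h p * (alt Φ.nw i k)⁻¹ = Φ.h (sgw C i k p) := by
  induction k generalizing i with
  | zero => simp [alt_zero, sgw]
  | succ k ih =>
    rw [alt_succ, sgw, ← nw_h, ← ih]; group

theorem sgw_eq_of_mem [Finite F] [Finite K] (i : Bool) (k : ℕ) {s : Φ.S} {q : Kˣ × Fˣ}
    (h : alt Φ.nw i k = (s : G) * Φ.h q) (p : Kˣ × Fˣ) : sgw C i k p = p := by
  have h1 := Φ.alt_h i k p
  rw [h] at h1
  have h2 : (s : G) * Φ.h q * Φ.h p * ((s : G) * Φ.h q)⁻¹ =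
      ((s * Φ.toTorus.cj p s⁻¹ : Φ.S) : G) * Φ.h p := by
    have hc : Φ.h q * Φ.h p = Φ.h p * Φ.h q := by rw [← map_mul, ← map_mul, mul_comm]
    have : (s : G) * Φ.h q * Φ.h p * ((s : G) * Φ.h q)⁻¹ = s * (Φ.h q * Φ.h p) * (Φ.h q)⁻¹ * (s : G)⁻¹ := by
      group
    rw [this, hc, Subgroup.coe_mul, Torus.cj_coe, Subgroup.coe_inv]
    group
  rw [h2] at h1
  have h3 : ((s * Φ.toTorus.cj p s⁻¹ : Φ.S) : G) * Φ.h (p * (sgw C i k p)⁻¹) = 1 := by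
    rw [map_mul, map_inv, ← mul_assoc, h1, mul_inv_cancel]
  have h4 := (Φ.toTorus.mul_eq_one h3).2
  exact (mul_inv_eq_one.1 h4).symm

/-- the torus element `(uⁱ, uʲ)` -/
def vv (u : Fˣ) (i j : ℤ) : Kˣ × Fˣ := (Units.map (algebraMap F K : F →* K) u ^ i, u ^ j)

theorem sg_true_vv (C : Cubic F K) (u : Fˣ) (i j : ℤ) : sg C true (vv u i j) = vv u (-i) (3 * i + j) := by
  unfold sg vv
  refine Prod.ext ?_ ?_
  · simp [zpow_neg]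
  · simp only
    rw [map_zpow, C.Nu_map, zpow_add, zpow_mul]
    norm_cast

theorem sg_false_vv (C : Cubic F K) (u : Fˣ) (i j : ℤ) : sg C false (vv u i j) = vv u (i + j) (-j) := by
  unfold sg vv
  refine Prod.ext ?_ ?_
  · simp only
    rw [map_zpow, zpow_add]
  · simp [zpow_neg]

theorem vv_inj {u : Fˣ} {i j i' j' : ℤ} (h : (vv u i j : Kˣ × Fˣ) = vv u i' j') :
    u ^ (i - i') = 1 ∧ u ^ (j - j') = 1 := by
  unfold vv at h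
  obtain ⟨h1, h2⟩ := Prod.ext_iff.1 h
  simp only at h1 h2
  refine ⟨?_, by rw [zpow_sub, h2, mul_inv_cancel]⟩
  have hi : Function.Injective (Units.map (algebraMap F K : F →* K)) :=
    Units.map_injective (algebraMap F K).injective
  apply hi
  rw [map_zpow, zpow_sub, h1, mul_inv_cancel, map_one]

theorem alt_notMem [Finite F] [Finite K] (hF : ∃ u : Fˣ, u ≠ 1) (i : Bool) (k : ℕ) (h1 : 1 ≤ k) (h6 : k ≤ 6)
    (s : Φ.S) (q : Kˣ × Fˣ) : alt Φ.nw i k ≠ (s : G) * Φ.h q := by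
  intro h
  obtain ⟨u, hu⟩ := hF
  have hu2 : u ^ 2 ≠ 1 := by
    intro h2
    apply hu
    ext
    have h3 : (u : F) ^ 2 = 1 := by
      have := congrArg (fun x : Fˣ => (x : F)) h2
      simpa using this
    have h4 : ((u : F) + 1) * ((u : F) + 1) = 0 := by
      linear_combination h3 + ((u : F) + 1) * C.two_F
    have h5 : (u : F) + 1 = 0 := by simpa using h4
    rw [Units.val_one]
    exact C.eq_of_add_eq_zero h5
  have key := Φ.sgw_eq_of_mem i k h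
  have k1 := key (vv u 0 1)
  have k2 := key (vv u 1 0)
  interval_cases k <;> cases i <;>
    simp only [sgw, Bool.not_true, Bool.not_false, sg_true_vv, sg_false_vv] at k1 k2 <;>
    obtain ⟨m1, m2⟩ := vv_inj k1 <;> obtain ⟨m3, m4⟩ := vv_inj k2 <;>
    norm_num at m1 m2 m3 m4 <;>
    first
      | exact hu m1
      | exact hu m2
      | exact hu m3
      | exact hu m4
      | exact hu2 m1
      | exact hu2 m2
      | exact hu2 m3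

/-- **Identification theorem.** -/
theorem nonempty_mulEquiv [Finite F] [Finite K] (hF : ∃ u : Fˣ, u ≠ 1) [IsSimpleGroup G']
    (hG : Subgroup.closure ((Φ.S : Set G) ∪ {Φ.na, Φ.nb}) = ⊤)
    (hG' : Subgroup.closure ((Φ'.S : Set G') ∪ {Φ'.na, Φ'.nb}) = ⊤) : Nonempty (G ≃* G') := by
  have hsub : ∀ (x : G × G'), x ∈ Φ.D Φ' → x ∈ Φ.D Φ' ⊔ Subgroup.closure (Set.range (Φ.nn Φ')) :=
    fun x hx => (le_sup_left : Φ.D Φ' ≤ _) hx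
  have hn : ∀ i, Φ.nn Φ' i ∈ Φ.D Φ' ⊔ Subgroup.closure (Set.range (Φ.nn Φ')) :=
    fun i => (le_sup_right : Subgroup.closure (Set.range (Φ.nn Φ')) ≤ _) (Subgroup.subset_closure ⟨i, rfl⟩)
  have h := Cfsg.Agent.HexRec.Graph.nonempty_mulEquiv (Φ.rules Φ') (fun i => by rw [nn_sq]; exact one_mem _)
    (Torus.pairing_fst Φ.toTorus Φ'.toTorus) (Torus.pairing_snd Φ.toTorus Φ'.toTorus) ?_ ?_ ?_
  · have ht : (Φ.D Φ' ⊔ Subgroup.closure (Set.range (Φ.nn Φ'))).map (MonoidHom.fst G G') = ⊤ := by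
      rw [eq_top_iff, ← hG, Subgroup.closure_le]
      rintro x (hx | rfl | rfl)
      · exact ⟨_, hsub _ (Torus.s_mem Φ.toTorus Φ'.toTorus ⟨x, hx⟩), rfl⟩
      · exact ⟨_, hn true, rfl⟩
      · exact ⟨_, hn false, rfl⟩
    rw [ht] at h
    obtain ⟨e⟩ := h
    exact ⟨Subgroup.topEquiv.symm.trans e⟩
  · intro hbot
    obtain ⟨u, hu⟩ := hF
    have : (Φ.h (1, u), Φ'.h (1, u)) ∈ Φ.D Φ' := Torus.h_mem Φ.toTorus Φ'.toTorus (1, u)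
    rw [hbot, Subgroup.mem_bot] at this
    have h1 : Φ.h (1, u) = 1 := congrArg Prod.fst this
    have h2 := Φ.h_inj (h1.trans (map_one _).symm)
    exact hu (congrArg Prod.snd h2)
  · rintro i k h1 h6 ⟨d, ⟨s, p, rfl⟩, hd⟩
    have e : (fun j => (Φ.nn Φ' j).2) = Φ'.nw := by
      funext j; cases j <;> rfl
    rw [e] at hd
    exact Φ'.alt_notMem hF i k h1 h6 _ _ hd.symm
  · rw [eq_top_iff, ← hG', Subgroup.closure_le]
    rintro x (hx | rfl | rfl)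
    · refine ⟨_, hsub _ (Torus.s_mem Φ.toTorus Φ'.toTorus ((Φ.E.iso Φ'.E).symm ⟨x, hx⟩)), ?_⟩
      simp
    · exact ⟨_, hn true, rfl⟩
    · exact ⟨_, hn false, rfl⟩

end Frame

end Cfsg.Agent.HexRec
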