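import Cfsg.Agent.HexRec.FrameIso
import Cfsg.Agent.HexRec.OfHexRel
import Cfsg.Agent.Hexagon.Ident

/-!
# From a frame to a root datum of rank two, and identification

`Frame (OfPair.cubic h) G` gives `R2 6 G`, and `SplitTwo.HexRel`; with `RootSeq.Final` a simple group generated by a
frame is isomorphic to each simple group with a hexagonal root system over the same `(K, φ)`.
-/

set_option autoImplicit false

namespace Cfsg.Agent.HexRec.ToR2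

open Cfsg.Agent.Hex.Defs Cfsg.Agent.SplitTwo Cfsg.Agent.HexRec.OfHexRel
open Cfsg.Agent.TitsThree.RankTwoRGD Cfsg.Agent.TitsThree.RankTwoIdx Cfsg.Agent.TitsThree.RankTwoZ
open Cfsg.Agent.Hexagon.HexComm Cfsg.Agent.Hexagon.Ident Cfsg.Agent.RootSeq.Final
open scoped commutatorElement

universe u v w

variable {F K : Type*} [Field F] [Field K] [Algebra F K]

/-- range of an additive map into a group -/
def rg {A : Type*} [AddGroup A] {G : Type*} [Group G] (x : A → G) (hx : ∀ s t, x (s + t) = x s * x t) : Subgroup G where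
  carrier := Set.range x
  one_mem' := ⟨0, left_eq_mul.1 (by rw [← hx, add_zero] : x 0 = x 0 * x 0)⟩
  mul_mem' := by
    rintro _ _ ⟨s, rfl⟩ ⟨t, rfl⟩
    exact ⟨s + t, hx s t⟩
  inv_mem' := by
    rintro _ ⟨s, rfl⟩
    refine ⟨-s, ?_⟩
    rw [eq_inv_iff_mul_eq_one, ← hx, neg_add_cancel]
    exact left_eq_mul.1 (by rw [← hx, add_zero] : x 0 = x 0 * x 0)

theorem mem_rg {A : Type*} [AddGroup A] {G : Type*} [Group G] {x : A → G} {hx : ∀ s t, x (s + t) = x s * x t}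
    {g : G} : g ∈ rg x hx ↔ ∃ t, x t = g := Iff.rfl

section frame

variable {C : Cubic F K} {G : Type u} [Group G] (Φ : Frame C G)

/-- the root groups -/
def XX : ℕ → Subgroup G
  | 1 => rg (fun t => (Φ.E.x1 t : G)) fun s t => by rw [x1_add]; rfl
  | 2 => rg (fun t => (Φ.E.x2 t : G)) fun s t => by rw [x2_add]; rfl
  | 3 => rg (fun t => (Φ.E.x3 t : G)) fun s t => by rw [x3_add]; rfl
  | 4 => rg (fun t => (Φ.E.x4 t : G)) fun s t => by rw [x4_add]; rfl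
  | 5 => rg (fun t => (Φ.E.x5 t : G)) fun s t => by rw [x5_add]; rfl
  | 6 => rg (fun t => (Φ.E.x6 t : G)) fun s t => by rw [x6_add]; rfl
  | _ => ⊥

theorem XX_le (k : ℕ) : XX Φ k ≤ Φ.S := by
  match k with
  | 0 => exact bot_le
  | 1 => rintro _ ⟨t, rfl⟩; exact (Φ.E.x1 t).2
  | 2 => rintro _ ⟨t, rfl⟩; exact (Φ.E.x2 t).2
  | 3 => rintro _ ⟨t, rfl⟩; exact (Φ.E.x3 t).2
  | 4 => rintro _ ⟨t, rfl⟩; exact (Φ.E.x4 t).2
  | 5 => rintro _ ⟨t, rfl⟩; exact (Φ.E.x5 t).2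
  | 6 => rintro _ ⟨t, rfl⟩; exact (Φ.E.x6 t).2
  | (k + 7) => exact bot_le

theorem S_le : Φ.S ≤ ⨆ k ∈ Set.Icc 1 6, XX Φ k := by
  intro g hg
  have hk : ∀ k, k ∈ Set.Icc 1 6 → XX Φ k ≤ ⨆ k ∈ Set.Icc 1 6, XX Φ k := fun k hk =>
    le_iSup₂_of_le (f := fun k (_ : k ∈ Set.Icc 1 6) => XX Φ k) k hk le_rfl
  have h := Φ.E.eq_prod ⟨g, hg⟩
  have h' := congrArg (Subtype.val) h
  change g = _ at h'
  rw [h']
  simp only [Subgroup.coe_mul]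
  exact mul_mem (mul_mem (mul_mem (mul_mem (mul_mem (hk 1 (by simp) ⟨_, rfl⟩) (hk 2 (by simp) ⟨_, rfl⟩))
    (hk 3 (by simp) ⟨_, rfl⟩)) (hk 4 (by simp) ⟨_, rfl⟩)) (hk 5 (by simp) ⟨_, rfl⟩)) (hk 6 (by simp) ⟨_, rfl⟩)

theorem conj_na {x y : G} (h : Φ.na * x * Φ.na = y) : Φ.na * x * Φ.na⁻¹ = y := by rw [Φ.na_inv, h]
theorem conj_nb {x y : G} (h : Φ.nb * x * Φ.nb = y) : Φ.nb * x * Φ.nb⁻¹ = y := by rw [Φ.nb_inv, h]

theorem nI_X (k : ℕ) (h1 : 2 ≤ k) (h2 : k ≤ 6) (x : G) (hx : x ∈ XX Φ k) : Φ.na * x * Φ.na⁻¹ ∈ XX Φ (6 + 2 - k) := by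
  interval_cases k
  · obtain ⟨t, rfl⟩ := hx
    exact ⟨t, (conj_na Φ (Φ.na_x2 t)).symm⟩
  · obtain ⟨t, rfl⟩ := hx
    exact ⟨t, (conj_na Φ (Φ.na_x3 t)).symm⟩
  · obtain ⟨t, rfl⟩ := hx
    exact ⟨t, (conj_na Φ (Φ.na_x4 t)).symm⟩
  · obtain ⟨t, rfl⟩ := hx
    exact ⟨t, (conj_na Φ (Φ.na_x5 t)).symm⟩
  · obtain ⟨t, rfl⟩ := hx
    exact ⟨t, (conj_na Φ (Φ.na_x6 t)).symm⟩

theorem nJ_X (k : ℕ) (h1 : 1 ≤ k) (h2 : k < 6) (x : G) (hx : x ∈ XX Φ k) : Φ.nb * x * Φ.nb⁻¹ ∈ XX Φ (6 - k) := by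
  interval_cases k
  · obtain ⟨t, rfl⟩ := hx
    exact ⟨t, (conj_nb Φ (Φ.nb_x1 t)).symm⟩
  · obtain ⟨t, rfl⟩ := hx
    exact ⟨t, (conj_nb Φ (Φ.nb_x2 t)).symm⟩
  · obtain ⟨t, rfl⟩ := hx
    exact ⟨t, (conj_nb Φ (Φ.nb_x3 t)).symm⟩
  · obtain ⟨t, rfl⟩ := hx
    exact ⟨t, (conj_nb Φ (Φ.nb_x4 t)).symm⟩
  · obtain ⟨t, rfl⟩ := hx
    exact ⟨t, (conj_nb Φ (Φ.nb_x5 t)).symm⟩

theorem HX (g : G) (hg : g ∈ Φ.h.range) (k : ℕ) (h1 : 1 ≤ k) (h2 : k ≤ 6) (x : G) (hx : x ∈ XX Φ k) :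
    g * x * g⁻¹ ∈ XX Φ k := by
  obtain ⟨⟨a, m⟩, rfl⟩ := hg
  interval_cases k
  · obtain ⟨t, rfl⟩ := hx; exact ⟨_, (Φ.conj1 a m t).symm⟩
  · obtain ⟨t, rfl⟩ := hx; exact ⟨_, (Φ.conj2 a m t).symm⟩
  · obtain ⟨t, rfl⟩ := hx; exact ⟨_, (Φ.conj3 a m t).symm⟩
  · obtain ⟨t, rfl⟩ := hx; exact ⟨_, (Φ.conj4 a m t).symm⟩
  · obtain ⟨t, rfl⟩ := hx; exact ⟨_, (Φ.conj5 a m t).symm⟩
  · obtain ⟨t, rfl⟩ := hx; exact ⟨_, (Φ.conj6 a m t).symm⟩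

theorem memI : Φ.na ∈ XX Φ 1 ⊔ (XX Φ 1).map (MulAut.conj Φ.na).toMonoidHom := by
  have h := Φ.rank1a 1
  have h1 : ((1 : Kˣ)⁻¹ ^ 2, Cubic.Nu C 1) = 1 := by simp
  rw [h1, map_one, mul_one, inv_one, Units.val_one] at h
  have e : Φ.na = (Φ.E.x1 1 : G)⁻¹ * (Φ.na * (Φ.E.x1 1 : G) * Φ.na) * (Φ.E.x1 1 : G)⁻¹ := by rw [h]; group
  have m1 : (Φ.E.x1 1 : G) ∈ XX Φ 1 := ⟨1, rfl⟩
  have m2 : Φ.na * (Φ.E.x1 1 : G) * Φ.na ∈ (XX Φ 1).map (MulAut.conj Φ.na).toMonoidHom :=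
    ⟨_, m1, by change Φ.na * _ * Φ.na⁻¹ = _; rw [Φ.na_inv]⟩
  have l1 := (le_sup_left : XX Φ 1 ≤ XX Φ 1 ⊔ (XX Φ 1).map (MulAut.conj Φ.na).toMonoidHom) (inv_mem m1)
  have l2 := (le_sup_right : (XX Φ 1).map (MulAut.conj Φ.na).toMonoidHom ≤ XX Φ 1 ⊔ _) m2
  generalize XX Φ 1 ⊔ (XX Φ 1).map (MulAut.conj Φ.na).toMonoidHom = A at l1 l2 ⊢
  rw [e]
  exact mul_mem (mul_mem l1 l2) l1

theorem memJ : Φ.nb ∈ XX Φ 6 ⊔ (XX Φ 6).map (MulAut.conj Φ.nb).toMonoidHom := by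
  have h := Φ.rank1b 1
  have h1 : (Units.map (algebraMap F K : F →* K) 1, (1 : Fˣ)⁻¹ ^ 2) = 1 := by simp
  rw [h1, map_one, mul_one, inv_one, Units.val_one] at h
  have e : Φ.nb = (Φ.E.x6 1 : G)⁻¹ * (Φ.nb * (Φ.E.x6 1 : G) * Φ.nb) * (Φ.E.x6 1 : G)⁻¹ := by rw [h]; group
  have m1 : (Φ.E.x6 1 : G) ∈ XX Φ 6 := ⟨1, rfl⟩
  have m2 : Φ.nb * (Φ.E.x6 1 : G) * Φ.nb ∈ (XX Φ 6).map (MulAut.conj Φ.nb).toMonoidHom :=
    ⟨_, m1, by change Φ.nb * _ * Φ.nb⁻¹ = _; rw [Φ.nb_inv]⟩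
  have l1 := (le_sup_left : XX Φ 6 ≤ XX Φ 6 ⊔ (XX Φ 6).map (MulAut.conj Φ.nb).toMonoidHom) (inv_mem m1)
  have l2 := (le_sup_right : (XX Φ 6).map (MulAut.conj Φ.nb).toMonoidHom ≤ XX Φ 6 ⊔ _) m2
  generalize XX Φ 6 ⊔ (XX Φ 6).map (MulAut.conj Φ.nb).toMonoidHom = A at l1 l2 ⊢
  rw [e]
  exact mul_mem (mul_mem l1 l2) l1

theorem h_na (p : Kˣ × Fˣ) : ∃ q, Φ.h p * Φ.na = Φ.na * Φ.h q := by
  refine ⟨(p.1⁻¹, C.Nu p.1 * p.2), ?_⟩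
  rw [← Φ.na_h, ← mul_assoc, ← mul_assoc, Φ.na_sq, one_mul]

theorem h_nb (p : Kˣ × Fˣ) : ∃ q, Φ.h p * Φ.nb = Φ.nb * Φ.h q := by
  refine ⟨(p.1 * Units.map (algebraMap F K : F →* K) p.2, p.2⁻¹), ?_⟩
  rw [← Φ.nb_h, ← mul_assoc, ← mul_assoc, Φ.nb_sq, one_mul]

theorem rank_oneI (x : G) (hx : x ∈ (XX Φ 1).map (MulAut.conj Φ.na).toMonoidHom) (h1 : x ≠ 1) :
    ∃ y ∈ XX Φ 1, ∃ g ∈ Φ.h.range, ∃ z ∈ XX Φ 1, x = y * Φ.na * g * z := by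
  obtain ⟨_, ⟨t, rfl⟩, rfl⟩ := hx
  have ht : t ≠ 0 := by
    rintro rfl
    apply h1
    change Φ.na * (Φ.E.x1 0 : G) * Φ.na⁻¹ = 1
    rw [Coord.x1_zero]
    simp
  obtain ⟨p, hp⟩ := h_na Φ ((Units.mk0 t ht)⁻¹ ^ 2, C.Nu (Units.mk0 t ht))
  refine ⟨(Φ.E.x1 ((Units.mk0 t ht)⁻¹ : Kˣ) : G), ⟨_, rfl⟩, Φ.h p, ⟨p, rfl⟩,
    (Φ.E.x1 ((Units.mk0 t ht)⁻¹ : Kˣ) : G), ⟨_, rfl⟩, ?_⟩
  have h2 := Φ.rank1a (Units.mk0 t ht)
  rw [mul_assoc (Φ.E.x1 _ : G) (Φ.h _) Φ.na, hp] at h2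
  change Φ.na * (Φ.E.x1 t : G) * Φ.na⁻¹ = _
  rw [Φ.na_inv]
  rw [Units.val_mk0] at h2
  rw [h2]
  simp only [mul_assoc]

theorem rank_oneJ (x : G) (hx : x ∈ (XX Φ 6).map (MulAut.conj Φ.nb).toMonoidHom) (h1 : x ≠ 1) :
    ∃ y ∈ XX Φ 6, ∃ g ∈ Φ.h.range, ∃ z ∈ XX Φ 6, x = y * Φ.nb * g * z := by
  obtain ⟨_, ⟨t, rfl⟩, rfl⟩ := hx
  have ht : t ≠ 0 := by
    rintro rfl
    apply h1
    change Φ.nb * (Φ.E.x6 0 : G) * Φ.nb⁻¹ = 1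
    rw [Coord.x6_zero]
    simp
  obtain ⟨p, hp⟩ := h_nb Φ (Units.map (algebraMap F K : F →* K) (Units.mk0 t ht), (Units.mk0 t ht)⁻¹ ^ 2)
  refine ⟨(Φ.E.x6 ((Units.mk0 t ht)⁻¹ : Fˣ) : G), ⟨_, rfl⟩, Φ.h p, ⟨p, rfl⟩,
    (Φ.E.x6 ((Units.mk0 t ht)⁻¹ : Fˣ) : G), ⟨_, rfl⟩, ?_⟩
  have h2 := Φ.rank1b (Units.mk0 t ht)
  rw [mul_assoc (Φ.E.x6 _ : G) (Φ.h _) Φ.nb, hp] at h2
  change Φ.nb * (Φ.E.x6 t : G) * Φ.nb⁻¹ = _
  rw [Φ.nb_inv]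
  rw [Units.val_mk0] at h2
  rw [h2]
  simp only [mul_assoc]

theorem braid' : alt Φ.na Φ.nb 6 = alt Φ.nb Φ.na 6 := by
  have h := Φ.braid
  have h1 : alt Φ.na Φ.nb 6 * (alt Φ.nb Φ.na 6)⁻¹ = 1 := by
    simp only [alt_succ, alt_zero, mul_one, mul_inv_rev, Φ.na_inv, Φ.nb_inv]
    rw [← h]
    simp only [pow_succ, pow_zero, one_mul, mul_assoc]
  exact mul_inv_eq_one.1 h1

end frame

section pair

variable {φ : K ≃ₐ[F] K} {h : CubicPair φ} {G : Type u} [Group G] (Φ : Frame (OfPair.cubic h) G)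

theorem hexRel : HexRel (φ : K ≃+* K) (fun t => (Φ.E.x1 t : G)) (fun t => (Φ.E.x2 (inv F t) : G))
    (fun t => (Φ.E.x3 t : G)) (fun t => (Φ.E.x4 (inv F t) : G)) (fun t => (Φ.E.x5 t : G))
    (fun t => (Φ.E.x6 (inv F t) : G)) := by
  have H := hexRel_of_coord h Φ.E
  have hk : ∀ a b : Φ.S, kk (a : G) (b : G) = ((kk a b : Φ.S) : G) := fun a b => rfl
  constructor
  · exact H.cube
  · intro a b; rw [H.add1]; rfl
  · intro a b ha hb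
    exact congrArg Subtype.val (H.add2 a b ha hb)
  · intro a b; rw [H.add3]; rfl
  · intro a b ha hb
    exact congrArg Subtype.val (H.add4 a b ha hb)
  · intro a b; rw [H.add5]; rfl
  · intro a b ha hb
    exact congrArg Subtype.val (H.add6 a b ha hb)
  · intro a t ht; rw [hk, H.c12 a t ht]; rfl
  · intro a b; rw [hk, H.c13 a b]
  · intro a t ht; rw [hk, H.c14 a t ht]; rfl
  · intro a b; rw [hk, H.c15 a b]; rfl
  · intro a t ht; rw [hk, H.c16 a t ht]; rfl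
  · intro t a ht; rw [hk, H.c23 t a ht]; rfl
  · intro t u ht hu; rw [hk, H.c24 t u ht hu]; rfl
  · intro t a ht; rw [hk, H.c25 t a ht]; rfl
  · intro t u ht hu; rw [hk, H.c26 t u ht hu]
  · intro a t ht; rw [hk, H.c34 a t ht]; rfl
  · intro a b; rw [hk, H.c35 a b]
  · intro a t ht; rw [hk, H.c36 a t ht]; rfl
  · intro t a ht; rw [hk, H.c45 t a ht]; rfl
  · intro t u ht hu; rw [hk, H.c46 t u ht hu]; rfl
  · intro a t ht; rw [hk, H.c56 a t ht]; rfl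

theorem x1_inj {a b : K} (e : (Φ.E.x1 a : G) = Φ.E.x1 b) : a = b := by
  have h1 := congrArg (fun s => (Φ.E.e s).a1) (Subtype.ext e)
  simpa [Coord.e_x1] using h1
theorem x2_inj {a b : F} (e : (Φ.E.x2 a : G) = Φ.E.x2 b) : a = b := by
  have h1 := congrArg (fun s => (Φ.E.e s).a2) (Subtype.ext e)
  simpa [Coord.e_x2] using h1
theorem x3_inj {a b : K} (e : (Φ.E.x3 a : G) = Φ.E.x3 b) : a = b := by
  have h1 := congrArg (fun s => (Φ.E.e s).a3) (Subtype.ext e)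
  simpa [Coord.e_x3] using h1
theorem x4_inj {a b : F} (e : (Φ.E.x4 a : G) = Φ.E.x4 b) : a = b := by
  have h1 := congrArg (fun s => (Φ.E.e s).a4) (Subtype.ext e)
  simpa [Coord.e_x4] using h1
theorem x5_inj {a b : K} (e : (Φ.E.x5 a : G) = Φ.E.x5 b) : a = b := by
  have h1 := congrArg (fun s => (Φ.E.e s).a5) (Subtype.ext e)
  simpa [Coord.e_x5] using h1
theorem x6_inj {a b : F} (e : (Φ.E.x6 a : G) = Φ.E.x6 b) : a = b := by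
  have h1 := congrArg (fun s => (Φ.E.e s).a6) (Subtype.ext e)
  simpa [Coord.e_x6] using h1

include h in
omit [Group G] in
theorem inv_inj {a b : K} (ha : φ a = a) (hb : φ b = b) (e : inv F a = inv F b) : a = b := by
  rw [← algebraMap_inv h ha, ← algebraMap_inv h hb, e]

omit [Group G] in
theorem mem_aux {x : F → G} {g : G} : (∃ t, x t = g) ↔ ∃ a : K, (φ : K ≃+* K) a = a ∧ x (inv F a) = g := by
  constructor
  · rintro ⟨t, rfl⟩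
    exact ⟨algebraMap F K t, φ.commutes t, by rw [inv_algebraMap]⟩
  · rintro ⟨a, _, rfl⟩
    exact ⟨_, rfl⟩

/-- the coordinates of a frame as `HexPar` -/
theorem hexPar : HexPar (φ : K ≃+* K) (fun i : ZMod (2 * 6) => XX Φ i.val) (fun t => (Φ.E.x1 t : G))
    (fun t => (Φ.E.x2 (inv F t) : G)) (fun t => (Φ.E.x3 t : G)) (fun t => (Φ.E.x4 (inv F t) : G))
    (fun t => (Φ.E.x5 t : G)) (fun t => (Φ.E.x6 (inv F t) : G)) where
  rel := hexRel Φ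
  inj1 _ _ e := x1_inj Φ e
  inj2 _ _ ha hb e := inv_inj (h := h) ha hb (x2_inj Φ e)
  inj3 _ _ e := x3_inj Φ e
  inj4 _ _ ha hb e := inv_inj (h := h) ha hb (x4_inj Φ e)
  inj5 _ _ e := x5_inj Φ e
  inj6 _ _ ha hb e := inv_inj (h := h) ha hb (x6_inj Φ e)
  mem1 _ := Iff.rfl
  mem2 _ := mem_aux (x := fun t => (Φ.E.x2 t : G))
  mem3 _ := Iff.rfl
  mem4 _ := mem_aux (x := fun t => (Φ.E.x4 t : G))
  mem5 _ := Iff.rfl
  mem6 _ := mem_aux (x := fun t => (Φ.E.x6 t : G))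

/-- the root datum of rank two of a frame -/
noncomputable def r2 : R2 6 G where
  X := XX Φ
  XI' := (XX Φ 1).map (MulAut.conj Φ.na).toMonoidHom
  XJ' := (XX Φ 6).map (MulAut.conj Φ.nb).toMonoidHom
  H := Φ.h.range
  nI := Φ.na
  nJ := Φ.nb
  one_le := by norm_num
  comm k l hk hkl hl x hx y hy := by
    have hval : ∀ s : ℕ, s ≤ 6 → ((s : ℕ) : ZMod (2 * 6)).val = s := fun s hs =>
      ZMod.val_natCast_of_lt (by omega)
    have h1 := comm_of_hexPar (hexPar Φ) k l hk hkl hl x (by rw [hval k (by omega)]; exact hx) y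
      (by rw [hval l hl]; exact hy)
    refine (iSup₂_le fun s hs => ?_ : (⨆ s ∈ Set.Ioo k l, XX Φ ((s : ℕ) : ZMod (2 * 6)).val) ≤ _) h1
    rw [hval s (by have := hs.2; omega)]
    exact le_iSup₂_of_le (f := fun s (_ : s ∈ Set.Ioo k l) => XX Φ s) s hs le_rfl
  HX := HX Φ
  nI_X := nI_X Φ
  nJ_X := nJ_X Φ
  nI_pos x hx := ⟨x, hx, rfl⟩
  nI_neg := by
    rintro _ ⟨x, hx, rfl⟩
    change Φ.na * (Φ.na * x * Φ.na⁻¹) * Φ.na⁻¹ ∈ XX Φ 1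
    have e : Φ.na * (Φ.na * x * Φ.na⁻¹) * Φ.na⁻¹ = (Φ.na * Φ.na) * x * (Φ.na * Φ.na)⁻¹ := by group
    rw [e, Φ.na_sq, inv_one, mul_one, one_mul]
    exact hx
  nJ_pos x hx := ⟨x, hx, rfl⟩
  nJ_neg := by
    rintro _ ⟨x, hx, rfl⟩
    change Φ.nb * (Φ.nb * x * Φ.nb⁻¹) * Φ.nb⁻¹ ∈ XX Φ 6
    have e : Φ.nb * (Φ.nb * x * Φ.nb⁻¹) * Φ.nb⁻¹ = (Φ.nb * Φ.nb) * x * (Φ.nb * Φ.nb)⁻¹ := by group
    rw [e, Φ.nb_sq, inv_one, mul_one, one_mul]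
    exact hx
  nI_sq := by rw [Φ.na_sq]; exact one_mem _
  nJ_sq := by rw [Φ.nb_sq]; exact one_mem _
  nI_H := by
    rintro _ ⟨⟨a, m⟩, rfl⟩
    exact ⟨_, (conj_na Φ (Φ.na_h a m)).symm⟩
  nJ_H := by
    rintro _ ⟨⟨a, m⟩, rfl⟩
    exact ⟨_, (conj_nb Φ (Φ.nb_h a m)).symm⟩
  rank_oneI := rank_oneI Φ
  rank_oneJ := rank_oneJ Φ
  memI := memI Φ
  memJ := memJ Φ
  braid := ⟨1, one_mem _, by rw [mul_one]; exact braid' Φ⟩

end pair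

section fam

variable {E : Type*} [Field E] {σ : E ≃+* E}
variable {G : Type u} {K' : Type v} [Group G] [Group K']
variable {x1 x2 x3 x4 x5 x6 : E → G} {y1 y2 y3 y4 y5 y6 : E → K'}

/-- two groups with the same `(E, σ)` give a compatible family of graphs (`R2` version) -/
theorem fam_of_hexPar' (c : R2 6 G) (c' : R2 6 K') (h : HexPar σ (fun i : ZMod (2 * 6) => c.X i.val) x1 x2 x3 x4 x5 x6)
    (k : HexPar σ (fun i : ZMod (2 * 6) => c'.X i.val) y1 y2 y3 y4 y5 y6) :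
    Fam c c' (six _ _ _ _ _ _ (Cfsg.Agent.Hexagon.Ident.HexRel.prod h.rel k.rel)) := by
  have z1 : x1 0 = 1 := one_of_add (fun _ => True) trivial fun a b _ _ => h.rel.add1 a b
  have z2 : x2 0 = 1 := one_of_add (fun a => σ a = a) (map_zero σ) h.rel.add2
  have z3 : x3 0 = 1 := one_of_add (fun _ => True) trivial fun a b _ _ => h.rel.add3 a b
  have z4 : x4 0 = 1 := one_of_add (fun a => σ a = a) (map_zero σ) h.rel.add4
  have z5 : x5 0 = 1 := one_of_add (fun _ => True) trivial fun a b _ _ => h.rel.add5 a b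
  have z6 : x6 0 = 1 := one_of_add (fun a => σ a = a) (map_zero σ) h.rel.add6
  have w1 : y1 0 = 1 := one_of_add (fun _ => True) trivial fun a b _ _ => k.rel.add1 a b
  have w2 : y2 0 = 1 := one_of_add (fun a => σ a = a) (map_zero σ) k.rel.add2
  have w3 : y3 0 = 1 := one_of_add (fun _ => True) trivial fun a b _ _ => k.rel.add3 a b
  have w4 : y4 0 = 1 := one_of_add (fun a => σ a = a) (map_zero σ) k.rel.add4
  have w5 : y5 0 = 1 := one_of_add (fun _ => True) trivial fun a b _ _ => k.rel.add5 a b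
  have w6 : y6 0 = 1 := one_of_add (fun a => σ a = a) (map_zero σ) k.rel.add6
  refine ⟨?_, ?_, ?_, ?_, ?_, ?_⟩
  · intro r hr1 hr2 g g' hg
    interval_cases r
    · obtain ⟨a, -, ha⟩ := hg
      rw [Prod.ext_iff] at ha
      exact ⟨(h.mem1 _).2 ⟨a, ha.1⟩, (k.mem1 _).2 ⟨a, ha.2⟩⟩
    · obtain ⟨a, hs, ha⟩ := hg
      rw [Prod.ext_iff] at ha
      exact ⟨(h.mem2 _).2 ⟨a, hs, ha.1⟩, (k.mem2 _).2 ⟨a, hs, ha.2⟩⟩
    · obtain ⟨a, -, ha⟩ := hg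
      rw [Prod.ext_iff] at ha
      exact ⟨(h.mem3 _).2 ⟨a, ha.1⟩, (k.mem3 _).2 ⟨a, ha.2⟩⟩
    · obtain ⟨a, hs, ha⟩ := hg
      rw [Prod.ext_iff] at ha
      exact ⟨(h.mem4 _).2 ⟨a, hs, ha.1⟩, (k.mem4 _).2 ⟨a, hs, ha.2⟩⟩
    · obtain ⟨a, -, ha⟩ := hg
      rw [Prod.ext_iff] at ha
      exact ⟨(h.mem5 _).2 ⟨a, ha.1⟩, (k.mem5 _).2 ⟨a, ha.2⟩⟩
    · obtain ⟨a, hs, ha⟩ := hg
      rw [Prod.ext_iff] at ha
      exact ⟨(h.mem6 _).2 ⟨a, hs, ha.1⟩, (k.mem6 _).2 ⟨a, hs, ha.2⟩⟩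
  · intro r hr1 hr2 g hg
    interval_cases r
    · obtain ⟨a, rfl⟩ := (h.mem1 _).1 hg
      exact ⟨y1 a, a, trivial, rfl⟩
    · obtain ⟨a, hs, rfl⟩ := (h.mem2 _).1 hg
      exact ⟨y2 a, a, hs, rfl⟩
    · obtain ⟨a, rfl⟩ := (h.mem3 _).1 hg
      exact ⟨y3 a, a, trivial, rfl⟩
    · obtain ⟨a, hs, rfl⟩ := (h.mem4 _).1 hg
      exact ⟨y4 a, a, hs, rfl⟩
    · obtain ⟨a, rfl⟩ := (h.mem5 _).1 hg
      exact ⟨y5 a, a, trivial, rfl⟩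
    · obtain ⟨a, hs, rfl⟩ := (h.mem6 _).1 hg
      exact ⟨y6 a, a, hs, rfl⟩
  · intro r hr1 hr2 g hg
    interval_cases r
    · obtain ⟨a, rfl⟩ := (k.mem1 _).1 hg
      exact ⟨x1 a, a, trivial, rfl⟩
    · obtain ⟨a, hs, rfl⟩ := (k.mem2 _).1 hg
      exact ⟨x2 a, a, hs, rfl⟩
    · obtain ⟨a, rfl⟩ := (k.mem3 _).1 hg
      exact ⟨x3 a, a, trivial, rfl⟩
    · obtain ⟨a, hs, rfl⟩ := (k.mem4 _).1 hg
      exact ⟨x4 a, a, hs, rfl⟩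
    · obtain ⟨a, rfl⟩ := (k.mem5 _).1 hg
      exact ⟨x5 a, a, trivial, rfl⟩
    · obtain ⟨a, hs, rfl⟩ := (k.mem6 _).1 hg
      exact ⟨x6 a, a, hs, rfl⟩
  · intro r hr1 hr2 g hg
    interval_cases r
    · obtain ⟨a, -, ha⟩ := hg
      rw [Prod.ext_iff] at ha
      exact ha.2.symm.trans ((congrArg y1 (h.inj1 a 0 (ha.1.trans z1.symm))).trans w1)
    · obtain ⟨a, hs, ha⟩ := hg
      rw [Prod.ext_iff] at ha
      exact ha.2.symm.trans ((congrArg y2 (h.inj2 a 0 hs (map_zero σ) (ha.1.trans z2.symm))).trans w2)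
    · obtain ⟨a, -, ha⟩ := hg
      rw [Prod.ext_iff] at ha
      exact ha.2.symm.trans ((congrArg y3 (h.inj3 a 0 (ha.1.trans z3.symm))).trans w3)
    · obtain ⟨a, hs, ha⟩ := hg
      rw [Prod.ext_iff] at ha
      exact ha.2.symm.trans ((congrArg y4 (h.inj4 a 0 hs (map_zero σ) (ha.1.trans z4.symm))).trans w4)
    · obtain ⟨a, -, ha⟩ := hg
      rw [Prod.ext_iff] at ha
      exact ha.2.symm.trans ((congrArg y5 (h.inj5 a 0 (ha.1.trans z5.symm))).trans w5)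
    · obtain ⟨a, hs, ha⟩ := hg
      rw [Prod.ext_iff] at ha
      exact ha.2.symm.trans ((congrArg y6 (h.inj6 a 0 hs (map_zero σ) (ha.1.trans z6.symm))).trans w6)
  · intro r hr1 hr2 g hg
    interval_cases r
    · obtain ⟨a, -, ha⟩ := hg
      rw [Prod.ext_iff] at ha
      exact ha.1.symm.trans ((congrArg x1 (k.inj1 a 0 (ha.2.trans w1.symm))).trans z1)
    · obtain ⟨a, hs, ha⟩ := hg
      rw [Prod.ext_iff] at ha
      exact ha.1.symm.trans ((congrArg x2 (k.inj2 a 0 hs (map_zero σ) (ha.2.trans w2.symm))).trans z2)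
    · obtain ⟨a, -, ha⟩ := hg
      rw [Prod.ext_iff] at ha
      exact ha.1.symm.trans ((congrArg x3 (k.inj3 a 0 (ha.2.trans w3.symm))).trans z3)
    · obtain ⟨a, hs, ha⟩ := hg
      rw [Prod.ext_iff] at ha
      exact ha.1.symm.trans ((congrArg x4 (k.inj4 a 0 hs (map_zero σ) (ha.2.trans w4.symm))).trans z4)
    · obtain ⟨a, -, ha⟩ := hg
      rw [Prod.ext_iff] at ha
      exact ha.1.symm.trans ((congrArg x5 (k.inj5 a 0 (ha.2.trans w5.symm))).trans z5)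
    · obtain ⟨a, hs, ha⟩ := hg
      rw [Prod.ext_iff] at ha
      exact ha.1.symm.trans ((congrArg x6 (k.inj6 a 0 hs (map_zero σ) (ha.2.trans w6.symm))).trans z6)
  · intro r l hr hrl hl g hg g' hg'
    have hval : ∀ s : ℕ, s ≤ 6 → ((s : ℕ) : ZMod (2 * 6)).val = s := fun s hs =>
      ZMod.val_natCast_of_lt (by omega)
    have h1 := comm_of_hexPar (hexPar_prod h k) r l hr hrl hl g
      (by rw [hval r (by omega)]; exact hg) g' (by rw [hval l hl]; exact hg')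
    refine (iSup₂_le fun s hs => ?_ :
      (⨆ s ∈ Set.Ioo r l, six _ _ _ _ _ _ (Cfsg.Agent.Hexagon.Ident.HexRel.prod h.rel k.rel)
        ((s : ℕ) : ZMod (2 * 6)).val) ≤ _) h1
    rw [hval s (by have := hs.2; omega)]
    exact le_iSup₂_of_le (f := fun s (_ : s ∈ Set.Ioo r l) =>
      six _ _ _ _ _ _ (Cfsg.Agent.Hexagon.Ident.HexRel.prod h.rel k.rel) s) s hs le_rfl

theorem hexPar_r2 (c' : RGDZ 6 K') (k : HexPar σ c'.X y1 y2 y3 y4 y5 y6) :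
    HexPar σ (fun i : ZMod (2 * 6) => c'.r2.X i.val) y1 y2 y3 y4 y5 y6 where
  rel := k.rel
  inj1 := k.inj1
  inj2 := k.inj2
  inj3 := k.inj3
  inj4 := k.inj4
  inj5 := k.inj5
  inj6 := k.inj6
  mem1 g := by
    have e : c'.r2.X (1 : ZMod (2 * 6)).val = c'.X 1 := congrArg c'.X (ZMod.natCast_zmod_val 1)
    rw [← k.mem1, ← e]
  mem2 g := by
    have e : c'.r2.X (2 : ZMod (2 * 6)).val = c'.X 2 := congrArg c'.X (ZMod.natCast_zmod_val 2)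
    rw [← k.mem2, ← e]
  mem3 g := by
    have e : c'.r2.X (3 : ZMod (2 * 6)).val = c'.X 3 := congrArg c'.X (ZMod.natCast_zmod_val 3)
    rw [← k.mem3, ← e]
  mem4 g := by
    have e : c'.r2.X (4 : ZMod (2 * 6)).val = c'.X 4 := congrArg c'.X (ZMod.natCast_zmod_val 4)
    rw [← k.mem4, ← e]
  mem5 g := by
    have e : c'.r2.X (5 : ZMod (2 * 6)).val = c'.X 5 := congrArg c'.X (ZMod.natCast_zmod_val 5)
    rw [← k.mem5, ← e]
  mem6 g := by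
    have e : c'.r2.X (6 : ZMod (2 * 6)).val = c'.X 6 := congrArg c'.X (ZMod.natCast_zmod_val 6)
    rw [← k.mem6, ← e]

end fam

section ident

variable {φ : K ≃ₐ[F] K} {h : CubicPair φ} {G : Type u} [Group G] (Φ : Frame (OfPair.cubic h) G)

/-- **Identification of a simple group generated by a frame.** -/
theorem nonempty_mulEquiv [IsSimpleGroup G] (hG : Subgroup.closure ((Φ.S : Set G) ∪ {Φ.na, Φ.nb}) = ⊤)
    {K' : Type v} [Group K'] [IsSimpleGroup K'] (c' : RGDZ 6 K') (hgen' : ⨆ i, c'.X i = ⊤) (hU' : c'.U ≠ ⊤)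
    {y1 y2 y3 y4 y5 y6 : K → K'} (k : HexPar (φ : K ≃+* K) c'.X y1 y2 y3 y4 y5 y6) : Nonempty (G ≃* K') := by
  have hUS : (r2 Φ).U ≤ Φ.S := iSup₂_le fun k _ => XX_le Φ k
  refine ident_of_simple (c := r2 Φ) (c' := c'.r2) (by norm_num) ?_ (rgdz_gen c' hgen') ?_ hU' ?_
    (fam_of_hexPar' (r2 Φ) c'.r2 (hexPar Φ) (hexPar_r2 c' k))
  · rw [eq_top_iff, ← hG, Subgroup.closure_le]
    rintro x (hx | rfl | rfl)
    · exact (le_sup_left : (r2 Φ).U ≤ _) (S_le Φ hx)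
    · have h1 : (r2 Φ).X 1 ⊔ (r2 Φ).XI' ≤ (r2 Φ).U ⊔ ((r2 Φ).XI' ⊔ (r2 Φ).XJ') :=
        sup_le (((r2 Φ).X_le le_rfl (by norm_num)).trans le_sup_left) (le_sup_left.trans le_sup_right)
      exact h1 (memI Φ)
    · have h1 : (r2 Φ).X 6 ⊔ (r2 Φ).XJ' ≤ (r2 Φ).U ⊔ ((r2 Φ).XI' ⊔ (r2 Φ).XJ') :=
        sup_le (((r2 Φ).X_le (by norm_num) le_rfl).trans le_sup_left) (le_sup_right.trans le_sup_right)
      exact h1 (memJ Φ)
  · intro htop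
    have hS : Φ.S = ⊤ := top_le_iff.1 (htop.symm.trans_le hUS)
    have hc : Subgroup.center G ≠ ⊥ := by
      intro hb
      have h1 : (Φ.E.x4 1 : G) ∈ Subgroup.center G := by
        rw [Subgroup.mem_center_iff]
        intro g
        have hg : g ∈ Φ.S := by rw [hS]; trivial
        have e : (⟨g, hg⟩ : Φ.S) * Φ.E.x4 1 = Φ.E.x4 1 * ⟨g, hg⟩ := by
          apply Φ.E.ext <;> simp [Coord.mul_a1, Coord.mul_a2, Coord.mul_a3, Coord.mul_a4, Coord.mul_a5,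
            Coord.mul_a6, Coord.e_x4, Cubic.T_zero_left, Cubic.T_zero_right, Cubic.sh_zero, Cubic.cr_zero_left,
            Cubic.cr_zero_right, Cubic.N_zero, add_comm]
        exact congrArg Subtype.val e
      rw [hb, Subgroup.mem_bot] at h1
      have h2 := congrArg (fun s => (Φ.E.e s).a4) (Subtype.ext h1 : Φ.E.x4 1 = 1)
      simp [Coord.e_x4, Φ.E.one_a4] at h2
    have h1 := (Subgroup.Normal.eq_bot_or_eq_top (inferInstance : (Subgroup.center G).Normal)).resolve_left hc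
    have h2 : (Φ.E.x6 1 : G) ∈ Subgroup.center G := by rw [h1]; trivial
    rw [Subgroup.mem_center_iff] at h2
    have h3 : Φ.E.x1 1 * Φ.E.x6 1 = Φ.E.x6 1 * Φ.E.x1 1 := Subtype.ext (h2 _)
    have h4 := congrArg (fun s => (Φ.E.e s).a5) h3
    simp [Coord.mul_a5, Coord.e_x1, Coord.e_x6] at h4
  · intro hbot
    have h1 : (Φ.E.x4 1 : G) ∈ (r2 Φ).U := (r2 Φ).X_le (k := 4) (by norm_num) (by norm_num) ⟨1, rfl⟩
    rw [hbot, Subgroup.mem_bot] at h1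
    have h2 := congrArg (fun s => (Φ.E.e s).a4) (Subtype.ext h1 : Φ.E.x4 1 = 1)
    simp [Coord.e_x4, Φ.E.one_a4] at h2

end ident

end Cfsg.Agent.HexRec.ToR2
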