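import Cfsg.Agent.HexGlob.FinalS
import Cfsg.Agent.HexRec.ToR2
import Cfsg.Agent.HexRec.FixedField
import Cfsg.Agent.Hexagon.TwD4Ident
import Cfsg.Agent.Hexagon.G2End
import Cfsg.Agent.S1055
import Cfsg.Agent.S1059
import Cfsg.Agent.S1067
import Cfsg.Agent.S1071

/-!
# The model side of S1770: `G₂(2^r)` and `³D₄(2^r)`, `r ≥ 2`
-/

set_option autoImplicit false

namespace Cfsg.Agent.HexRec.Instances

open Cfsg.Agent.Hex.Defs Cfsg.Agent.HexRec Cfsg.Agent.HexGlob Cfsg.Agent.HexGlob.FinalS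

universe u

/-- `Reg` for the cubic data of a pair -/
theorem reg {F K : Type*} [Field F] [Field K] [Algebra F K] {φ : K ≃ₐ[F] K} (h : CubicPair φ) :
    Cfsg.Agent.HexEss.Reg (OfPair.cubic h) := by
  intro b
  rw [OfPair.cubic_cr, OfPair.cubic_tr, algebraMap_tr h]
  unfold cr
  rw [map_one, map_one, one_mul]
  linear_combination (-b) * h.two

theorem fac {r : ℕ} (hr : 2 ≤ r) : Odd ((2 ^ r) ^ 2 - 1) ∧ Odd ((2 ^ r) ^ 6 - 1) ∧
    Odd ((2 ^ r) ^ 8 + (2 ^ r) ^ 4 + 1) := by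
  have h0 : Even (2 ^ r) := (Nat.even_pow.2 ⟨even_two, by omega⟩)
  have h1 : ∀ k, k ≠ 0 → Odd ((2 ^ r) ^ k - 1) := fun k hk =>
    Nat.Even.sub_odd (Nat.one_le_pow _ _ (by positivity)) (h0.pow_of_ne_zero hk) odd_one
  refine ⟨h1 2 (by norm_num), h1 6 (by norm_num), ?_⟩
  exact ((h0.pow_of_ne_zero (by norm_num)).add (h0.pow_of_ne_zero (by norm_num))).add_one

theorem two_eq_zero {F : Type*} [Field F] [Fintype F] {k : ℕ} (hF : Fintype.card F = 2 ^ k) : (2 : F) = 0 := by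
  have h1 : ((Fintype.card F : ℕ) : F) = 0 := Nat.cast_card_eq_zero F
  rw [hF, Nat.cast_pow, Nat.cast_ofNat] at h1
  by_cases hk : k = 0
  · rw [hk, pow_zero] at h1
    exact absurd h1 one_ne_zero
  · exact (pow_eq_zero_iff hk).1 h1

theorem card_le_of_pow {K : Type*} [Field K] [Fintype K] {q : ℕ} (hq : 1 < q) (h : ∀ t : K, t ^ q = t) :
    Fintype.card K ≤ q := by
  classical
  have hne := FiniteField.X_pow_card_sub_X_ne_zero K hq
  rw [← Finset.card_univ, ← FiniteField.X_pow_card_sub_X_natDegree_eq K hq]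
  refine (Finset.card_le_card (t := (Polynomial.X ^ q - Polynomial.X : Polynomial K).roots.toFinset) ?_).trans
    ((Multiset.toFinset_card_le _).trans (Polynomial.card_roots' _))
  intro t _
  rw [Multiset.mem_toFinset, Polynomial.mem_roots hne]
  simp [Polynomial.IsRoot.def, h t]

/-- **Model side of `G₂(2^r)`.** -/
theorem instG2 : InstG2.{u} := by
  intro F _ _ r hr hF
  have h2 := two_eq_zero hF
  obtain ⟨c, x1, x2, x3, x4, x5, x6, k, hgen, hU, -, -⟩ := Cfsg.Agent.Hexagon.G2End.exists_kside F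
  have hs : IsSimpleGroup ↥(Cfsg.Lie.chevG2.group F) := by
    refine (Cfsg.Agent.S1055.result ?_).1
    by_contra hcon
    push Not at hcon
    have h3 : Fintype.card F ≤ 2 := by
      classical
      rw [← Finset.card_univ]
      refine (Finset.card_le_card (t := {0, 1}) fun x _ => ?_).trans Finset.card_le_two
      rw [Finset.mem_insert, Finset.mem_singleton]
      by_cases hx : x = 0
      · exact Or.inl hx
      · exact Or.inr (hcon x hx)
    have h4 : 2 ^ 2 ≤ 2 ^ r := Nat.pow_le_pow_right (by norm_num) hr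
    omega
  have k' : Cfsg.Agent.SplitTwo.HexPar ((AlgEquiv.refl : F ≃ₐ[F] F) : F ≃+* F) c.X x1 x2 x3 x4 x5 x6 := k
  refine ⟨OfPair.cubic (OfPair.pair_one h2), ⟨reg _, ?_, Or.inl fun x => ⟨x, rfl⟩⟩, fun P => ?_, fun Φ hΦ => ?_⟩
  · rw [Nat.card_eq_fintype_card, hF]
    exact (Nat.pow_le_pow_right (by norm_num) hr : 2 ^ 2 ≤ 2 ^ r)
  · refine Model.exists_coord (OfPair.pair_one h2) c hgen hU k' P
      ⟨6 * r, ((2 ^ r) ^ 2 - 1) * ((2 ^ r) ^ 6 - 1), ?_, ?_, (fac hr).1.mul (fac hr).2.1⟩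
    · rw [Nat.card_eq_fintype_card, hF]
      ring
    · rw [Cfsg.Agent.S1059.result hF]
      ring
  · exact ToR2.nonempty_mulEquiv Φ hΦ c hgen hU k'

/-- **Model side of `³D₄(2^r)`.** -/
theorem instD4 : InstD4.{u} := by
  intro K _ _ r hr hK
  have hq : IsPrimePow (2 ^ r) := (Nat.prime_two.isPrimePow).pow (by omega)
  have hK3 : Fintype.card K = (2 ^ r) ^ 3 := by
    rw [hK, ← pow_mul, mul_comm, pow_mul]
    norm_num
  have h2 : (2 : K) = 0 := two_eq_zero (k := 3 * r) (by rw [hK, pow_mul]; norm_num)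
  obtain ⟨f, hf⟩ := Cfsg.Agent.ChevalleyStructure.D4Fixed.exists_frob hq hK3
  let σ : K ≃+* K := RingEquiv.ofBijective f (Finite.injective_iff_bijective.1 f.injective)
  have hσ : ∀ x, σ x = x ^ 2 ^ r := hf
  have h3 : ∀ t, σ (σ (σ t)) = t := by
    intro t
    rw [hσ, hσ, hσ, ← pow_mul, ← pow_mul]
    have : 2 ^ r * (2 ^ r * 2 ^ r) = (2 ^ r) ^ 3 := by ring
    rw [this, ← hK3]
    exact FiniteField.pow_card t
  have hne : ∃ t, σ t ≠ t := by
    by_contra hcon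
    push Not at hcon
    have h4 := Cfsg.Agent.HexRec.Instances.card_le_of_pow (q := 2 ^ r) (by
      have : 2 ^ 2 ≤ 2 ^ r := Nat.pow_le_pow_right (by norm_num) hr
      omega) fun t => (hσ t).symm.trans (hcon t)
    rw [hK3] at h4
    have h5 : 2 ^ 2 ≤ 2 ^ r := Nat.pow_le_pow_right (by norm_num) hr
    nlinarith [h5, h4, Nat.mul_le_mul h5 h5]
  have hfr := FixedField.finrank_eq σ h3 hne
  have hF : Nat.card (FixedField.Fx σ) = 2 ^ r := by
    have h4 : Nat.card K = Nat.card (FixedField.Fx σ) ^ 3 := by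
      rw [← hfr]
      exact Module.natCard_eq_pow_finrank
    rw [Nat.card_eq_fintype_card, hK3] at h4
    exact (Nat.pow_left_injective (n := 3) (by norm_num) h4).symm
  obtain ⟨c, x1, x2, x3, x4, x5, x6, k, hgen, hU⟩ :=
    Cfsg.Agent.Hexagon.TwD4Par.exists_kside hq hK3 (σ := σ) hσ
  have hs : IsSimpleGroup ↥(Cfsg.Lie.twistedD4 K (2 ^ r)) := (Cfsg.Agent.S1071.result hq hK3).1
  have k' : Cfsg.Agent.SplitTwo.HexPar ((FixedField.phi σ : K ≃ₐ[FixedField.Fx σ] K) : K ≃+* K) c.X x1 x2 x3 x4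
      x5 x6 := k
  refine ⟨FixedField.Fx σ, inferInstance, inferInstance, OfPair.cubic (FixedField.cubicPair σ h2 h3),
    ⟨reg _, ?_, Or.inr hfr⟩, fun P => ?_, fun Φ hΦ => ?_⟩
  · rw [hF]
    exact (Nat.pow_le_pow_right (by norm_num) hr : 2 ^ 2 ≤ 2 ^ r)
  · refine Model.exists_coord (FixedField.cubicPair σ h2 h3) c hgen hU k' P
      ⟨12 * r, ((2 ^ r) ^ 2 - 1) * ((2 ^ r) ^ 6 - 1) * ((2 ^ r) ^ 8 + (2 ^ r) ^ 4 + 1), ?_, ?_,
        ((fac hr).1.mul (fac hr).2.1).mul (fac hr).2.2⟩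
    · rw [hF, Nat.card_eq_fintype_card, hK3]
      ring
    · rw [Cfsg.Agent.S1067.result hq hK3]
      ring
  · exact ToR2.nonempty_mulEquiv Φ hΦ c hgen hU k'

end Cfsg.Agent.HexRec.Instances
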