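import Cfsg.Agent.HexRec.FrameIso
import Cfsg.Agent.ClassTwo.Sp4SL2
import Cfsg.Agent.S0001

/-!
# The pair of parabolic subgroups

`Par C G`: a graded torus together with two subgroups `L1`, `L2` containing `S` and normalised homomorphisms
`p1 : L1 →* SL(2,K)`, `p2 : L2 →* SL(2,F)` with kernels `{a1 = 0}` and `{a6 = 0}`.
-/

set_option autoImplicit false

namespace Cfsg.Agent.HexRec

open Matrix
open Cfsg.Agent.ClassTwo.Sp4Defs Cfsg.Agent.ClassTwo.Sp4SL2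

variable {F K : Type*} [Field F] [Field K] [Algebra F K] {C : Cubic F K}

/-- the embedding of units -/
abbrev emb (F K : Type*) [Field F] [Field K] [Algebra F K] : Fˣ →* Kˣ := Units.map (algebraMap F K : F →* K)

/-- the pair of parabolic subgroups -/
structure Par (C : Cubic F K) (G : Type*) [Group G] extends Torus C G where
  L1 : Subgroup G
  L2 : Subgroup G
  S_le1 : S ≤ L1
  S_le2 : S ≤ L2
  h_L1 : ∀ p, ∀ g ∈ L1, h p * g * (h p)⁻¹ ∈ L1
  h_L2 : ∀ p, ∀ g ∈ L2, h p * g * (h p)⁻¹ ∈ L2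
  p1 : L1 →* SpecialLinearGroup (Fin 2) K
  p2 : L2 →* SpecialLinearGroup (Fin 2) F
  p1_surj : Function.Surjective p1
  p2_surj : Function.Surjective p2
  p1_ker : ∀ g : L1, p1 g = 1 ↔ ∃ s : S, (s : G) = g ∧ (E.e s).a1 = 0
  p2_ker : ∀ g : L2, p2 g = 1 ↔ ∃ s : S, (s : G) = g ∧ (E.e s).a6 = 0
  p1_x1 : ∀ (t : K) (g : L1), (g : G) = E.x1 t → p1 g = u t
  p2_x6 : ∀ (t : F) (g : L2), (g : G) = E.x6 t → p2 g = u t
  ha_mem : ∀ a : Kˣ, h (a ^ 2, (C.Nu a)⁻¹) ∈ L1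
  hb_mem : ∀ m : Fˣ, h (emb F K m⁻¹, m ^ 2) ∈ L2
  p1_h : ∀ (a : Kˣ) (g : L1), (g : G) = h (a ^ 2, (C.Nu a)⁻¹) → p1 g = d a
  p2_h : ∀ (m : Fˣ) (g : L2), (g : G) = h (emb F K m⁻¹, m ^ 2) → p2 g = d m
  L1_x4 : ∀ g ∈ L1, ∀ t, g * (E.x4 t : G) * g⁻¹ = (E.x4 t : G)

namespace Coord

variable {S : Type*} [Group S] (E : Coord C S)

theorem e_prod (t1 : K) (t2 : F) (t3 : K) (t4 : F) (t5 : K) (t6 : F) :
    E.e (E.x1 t1 * E.x2 t2 * E.x3 t3 * E.x4 t4 * E.x5 t5 * E.x6 t6) = ⟨t1, t2, t3, t4, t5, t6⟩ := by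
  apply Tup.ext <;>
  simp [E.mul_a1, E.mul_a2, E.mul_a3, E.mul_a4, E.mul_a5, E.mul_a6, e_x1, e_x2, e_x3, e_x4, e_x5, e_x6,
    C.T_zero_left, C.T_zero_right, C.cr_zero_left, C.sh_zero, C.N_zero]

end Coord

namespace Torus

variable {G : Type*} [Group G] (Φ : Torus C G)

theorem e_cj (p : Kˣ × Fˣ) (s : Φ.S) : Φ.E.e (Φ.cj p s) =
    ⟨p.1 * (Φ.E.e s).a1, C.N p.1 * p.2 * (Φ.E.e s).a2, C.sh p.1 * algebraMap F K p.2 * (Φ.E.e s).a3,
      C.N p.1 * p.2 ^ 2 * (Φ.E.e s).a4, p.1 * algebraMap F K p.2 * (Φ.E.e s).a5, p.2 * (Φ.E.e s).a6⟩ := by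
  rw [cj_eq, Coord.e_prod]

theorem cj_one (p : Kˣ × Fˣ) : Φ.cj p 1 = 1 := by
  apply Subtype.ext; rw [cj_coe]; simp

theorem h_comm (p q : Kˣ × Fˣ) : Φ.h p * Φ.h q = Φ.h q * Φ.h p := by rw [← map_mul, ← map_mul, mul_comm]

end Torus

open Pointwise in
/-- conjugation onto a complement, in the situation used below -/
theorem exists_normalizing {G : Type*} [Group G] [Finite G] {Q H : Subgroup G} (hQ : IsPGroup 2 Q)
    (hH : Odd (Nat.card H)) (hHQ : ∀ h ∈ H, ∀ q ∈ Q, h * q * h⁻¹ ∈ Q) {w : G}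
    (hwH : ∀ h ∈ H, ∃ k ∈ H, ∃ q ∈ Q, w * h * w⁻¹ = k * q) :
    ∃ q ∈ Q, ∀ h ∈ H, (q * w) * h * (q * w)⁻¹ ∈ H := by
  classical
  set Γ : Subgroup G := Q ⊔ H with hΓ
  have hQΓ : Q ≤ Γ := le_sup_left
  have hHΓ : H ≤ Γ := le_sup_right
  have hle : Γ ≤ Subgroup.normalizer (Q : Set G) := by
    rw [hΓ, sup_le_iff]
    refine ⟨Subgroup.le_normalizer, ?_⟩
    intro h hh
    rw [Subgroup.mem_normalizer_iff]
    intro q
    constructor
    · exact hHQ h hh q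
    · intro hq
      have := hHQ h⁻¹ (inv_mem hh) _ hq
      have e : h⁻¹ * (h * q * h⁻¹) * h⁻¹⁻¹ = q := by group
      rwa [e] at this
  set K : Subgroup G := H.map (MulAut.conj w).toMonoidHom with hK
  have hKΓ : K ≤ Γ := by
    rintro _ ⟨h, hh, rfl⟩
    obtain ⟨k, hk, q, hq, e⟩ := hwH h hh
    change w * h * w⁻¹ ∈ Γ
    rw [e]
    exact mul_mem (hHΓ hk) (hQΓ hq)
  have hKc : Nat.card K = Nat.card H := Nat.card_congr (H.equivMapOfInjective _ (MulAut.conj w).injective).symm.toEquiv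
  let N : Subgroup Γ := Q.subgroupOf Γ
  have hN : N.Normal := Subgroup.normal_subgroupOf_iff_le_normalizer hQΓ |>.2 hle
  have cN : Nat.card N = Nat.card Q := Nat.card_congr (Subgroup.subgroupOfEquivOfLe hQΓ).toEquiv
  have cH : Nat.card (H.subgroupOf Γ) = Nat.card H := Nat.card_congr (Subgroup.subgroupOfEquivOfLe hHΓ).toEquiv
  have cK : Nat.card (K.subgroupOf Γ) = Nat.card K := Nat.card_congr (Subgroup.subgroupOfEquivOfLe hKΓ).toEquiv
  obtain ⟨m, hm⟩ := (IsPGroup.iff_card).1 hQ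
  have hcop : (Nat.card N).Coprime (Nat.card H) := by
    rw [cN, hm]; exact (Nat.coprime_two_left.2 hH).pow_left m
  have dH : Nat.Coprime (Nat.card N) (Nat.card (H.subgroupOf Γ)) := by rw [cH]; exact hcop
  have dK : Nat.Coprime (Nat.card N) (Nat.card (K.subgroupOf Γ)) := by rw [cK, hKc]; exact hcop
  have compH : Subgroup.IsComplement' N (H.subgroupOf Γ) := by
    apply Subgroup.isComplement'_of_disjoint_and_mul_eq_univ (Subgroup.disjoint_of_coprime_natCard dH)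
    rw [← Subgroup.normal_mul, ← Subgroup.subgroupOf_sup hQΓ hHΓ, Subgroup.subgroupOf_self]
    rfl
  have compK : Subgroup.IsComplement' N (K.subgroupOf Γ) := by
    apply Subgroup.isComplement'_of_coprime _ dK
    rw [← compH.card_mul_card, cK, cH, hKc]
  have hi : N.index = Nat.card H := by
    rw [compH.symm.index_eq_card, cH]
  have := hQ.isNilpotent
  obtain ⟨g, hg⟩ := Cfsg.Agent.S0001.result N (by rw [hi]; exact hcop)
    (Or.inl (by
      have : Group.IsSolvable Q := inferInstance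
      exact Group.isSolvable_of_isSolvable_injective (f := (Subgroup.subgroupOfEquivOfLe hQΓ).toMonoidHom)
        (Subgroup.subgroupOfEquivOfLe hQΓ).injective)) _ _ compK compH
  -- write `g` as `h * q`
  obtain ⟨⟨⟨h0, hh0⟩, ⟨q0, hq0⟩⟩, hgh⟩ := compH.symm.2 g
  have hq0' : (q0 : G) ∈ Q := hq0
  have hh0' : (h0 : G) ∈ H := hh0
  refine ⟨q0, hq0', fun h hh => ?_⟩
  have h1 : (⟨w * h * w⁻¹, hKΓ ⟨h, hh, rfl⟩⟩ : Γ) ∈ K.subgroupOf Γ := ⟨h, hh, rfl⟩
  have h2 := Subgroup.smul_mem_pointwise_smul _ (MulAut.conj g) _ h1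
  rw [hg] at h2
  have h3 : (g : G) * (w * h * w⁻¹) * (g : G)⁻¹ ∈ H := h2
  have h4 : (g : G) = h0 * q0 := by rw [← hgh]; rfl
  rw [h4] at h3
  have h5 := mul_mem (mul_mem (inv_mem hh0') h3) hh0'
  have e : (h0 : G)⁻¹ * (h0 * q0 * (w * h * w⁻¹) * (h0 * q0 : G)⁻¹) * h0 = (q0 * w) * h * (q0 * w)⁻¹ := by group
  rwa [e] at h5

namespace Cubic

include C in
theorem charP_K : CharP K 2 := CharTwo.of_one_ne_zero_of_two_eq_zero one_ne_zero C.two_K

include C in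
theorem charP_F : CharP F 2 := CharTwo.of_one_ne_zero_of_two_eq_zero one_ne_zero C.two_F

theorem exists_sqrt_unit (k : Type*) [Field k] [CharP k 2] [Finite k] (a : kˣ) : ∃ b : kˣ, b ^ 2 = a := by
  obtain ⟨c, hc⟩ := (frobeniusEquiv k 2).surjective (a : k)
  rw [frobeniusEquiv_apply, frobenius_def] at hc
  have hc0 : c ≠ 0 := by
    rintro rfl
    apply a.ne_zero
    rw [← hc]; simp
  exact ⟨Units.mk0 c hc0, by ext; simpa using hc⟩

/-- `#` has trivial kernel on units -/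
theorem eq_one_of_sh_eq_one {a : K} (h : C.sh a = 1) : a = 1 := by
  have h1 : algebraMap F K (C.N a) = a := by rw [C.N_map, h, mul_one]
  have h2 : C.sh a = a ^ 2 := by
    conv_lhs => rw [← h1]
    rw [C.sh_map, h1]
  have h3 : a ^ 2 = 1 := by rw [← h2, h]
  have h4 : (a + 1) * (a + 1) = 0 := by linear_combination h3 + (a + 1) * C.two_K
  have h5 : a + 1 = 0 := by simpa using h4
  exact C.eq_of_add_eq_zeroK h5

end Cubic

end Cfsg.Agent.HexRec
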