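import Cfsg.Agent.HexRec.ActB

/-!
# Assembling the frame without the braid relation
-/

set_option autoImplicit false

namespace Cfsg.Agent.HexRec

open Matrix
open Cfsg.Agent.ClassTwo.Sp4Defs Cfsg.Agent.ClassTwo.Sp4SL2

variable {F K : Type*} [Field F] [Field K] [Algebra F K] {C : Cubic F K}

/-- a pair of parabolic subgroups with the two Weyl elements and all relations except the braid relation -/
structure Pre (C : Cubic F K) (G : Type*) [Group G] extends Par C G where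
  na : G
  nb : G
  na_mem : na ∈ L1
  nb_mem : nb ∈ L2
  p_na : p1 ⟨na, na_mem⟩ = w K
  p_nb : p2 ⟨nb, nb_mem⟩ = w F
  na_sq : na * na = 1
  nb_sq : nb * nb = 1
  na_h : ∀ (a : Kˣ) (m : Fˣ), na * h (a, m) * na = h (a⁻¹, C.Nu a * m)
  nb_h : ∀ (a : Kˣ) (m : Fˣ), nb * h (a, m) * nb = h (a * Units.map (algebraMap F K : F →* K) m, m⁻¹)
  na_x2 : ∀ t, na * (E.x2 t : G) * na = (E.x6 t : G)
  na_x3 : ∀ t, na * (E.x3 t : G) * na = (E.x5 t : G)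
  na_x4 : ∀ t, na * (E.x4 t : G) * na = (E.x4 t : G)
  nb_x1 : ∀ t, nb * (E.x1 t : G) * nb = (E.x5 t : G)
  nb_x2 : ∀ t, nb * (E.x2 t : G) * nb = (E.x4 t : G)
  nb_x3 : ∀ t, nb * (E.x3 t : G) * nb = (E.x3 t : G)
  na_cube : na * (E.x1 1 : G) * na = (E.x1 1 : G) * na * (E.x1 1 : G)
  nb_cube : nb * (E.x6 1 : G) * nb = (E.x6 1 : G) * nb * (E.x6 1 : G)

theorem Par.exists_pre {G : Type*} [Group G] (P : Par C G) [Finite G] [Finite F] [Finite K]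
    (hF : ∃ m : Fˣ, m ≠ 1) : ∃ (c : F) (hc : c = 0 ∨ ∀ a : Kˣ, C.N a = 1) (Q : Pre C G),
      Q.toPar = P.twist c hc := by
  obtain ⟨W⟩ := P.exists_WA hF
  obtain ⟨c, hc, WA', -, h2, h3⟩ := W.exists_final hF
  obtain ⟨WB'⟩ := (P.twist c hc).exists_WB hF
  obtain ⟨k1, k2, k3, k4⟩ := WB'.final hF
  refine ⟨c, hc,
    { toPar := P.twist c hc
      na := WA'.n
      nb := WB'.n
      na_mem := WA'.mem
      nb_mem := WB'.mem
      p_na := WA'.p_n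
      p_nb := WB'.p_n
      na_sq := WA'.sq
      nb_sq := WB'.sq
      na_h := WA'.act_h
      nb_h := WB'.act_h
      na_x2 := fun t => ?_
      na_x3 := fun t => ?_
      na_x4 := fun t => ?_
      nb_x1 := fun t => ?_
      nb_x2 := fun t => ?_
      nb_x3 := fun t => ?_
      na_cube := WA'.braid3
      nb_cube := WB'.braid3 k1 }, rfl⟩
  · rw [← h2 t, WA'.cn_coe (by rw [Coord.e_x2])]
  · rw [← h3 t, WA'.cn_coe (by rw [Coord.e_x3])]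
  · conv_rhs => rw [← WA'.cn_x4 t]
    rw [WA'.cn_coe (by rw [Coord.e_x4])]
  · rw [← k2 t, WB'.cn_coe (by rw [Coord.e_x1])]
  · rw [← k3 t, WB'.cn_coe (by rw [Coord.e_x2])]
  · conv_rhs => rw [← k4 t]
    rw [WB'.cn_coe (by rw [Coord.e_x3])]

namespace Pre

variable {G : Type*} [Group G] (P : Pre C G)

theorem na_inv : P.na⁻¹ = P.na := inv_eq_of_mul_eq_one_right P.na_sq
theorem nb_inv : P.nb⁻¹ = P.nb := inv_eq_of_mul_eq_one_right P.nb_sq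

/-- torus elements -/
theorem conj_na (a : Kˣ) (m : Fˣ) : P.h (a, m) * P.na * (P.h (a, m))⁻¹ = P.na * P.h (a⁻¹ ^ 2, C.Nu a) := by
  have h1 := P.na_h a m
  have h3 : P.h (a, m) * P.na = P.na * P.h (a⁻¹, C.Nu a * m) := by
    rw [← h1, ← mul_assoc, ← mul_assoc, P.na_sq, one_mul]
  rw [h3, mul_assoc, ← map_inv, ← map_mul]
  congr 2
  rw [Prod.inv_mk, Prod.mk_mul_mk, mul_inv_cancel_right, pow_two]

theorem conj_nb (a : Kˣ) (m : Fˣ) : P.h (a, m) * P.nb * (P.h (a, m))⁻¹ =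
    P.nb * P.h (Units.map (algebraMap F K : F →* K) m, m⁻¹ ^ 2) := by
  have h1 := P.nb_h a m
  have h3 : P.h (a, m) * P.nb = P.nb * P.h (a * Units.map (algebraMap F K : F →* K) m, m⁻¹) := by
    rw [← h1, ← mul_assoc, ← mul_assoc, P.nb_sq, one_mul]
  rw [h3, mul_assoc, ← map_inv, ← map_mul]
  congr 2
  rw [Prod.inv_mk, Prod.mk_mul_mk, mul_inv_cancel_comm, pow_two]

theorem rank1a (t : Kˣ) : P.na * (P.E.x1 t : G) * P.na =
    (P.E.x1 (t⁻¹ : Kˣ) : G) * P.h (t⁻¹ ^ 2, C.Nu t) * P.na * (P.E.x1 (t⁻¹ : Kˣ) : G) := by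
  set τ := P.h (t⁻¹ ^ 2, C.Nu t) with hτ
  have e1 := P.conj_na t 1
  have e2 := P.conj1 t 1 1
  rw [mul_one] at e2
  have e3 := P.na_h (t⁻¹ ^ 2) (C.Nu t)
  have e3' : P.na * τ * P.na = τ⁻¹ := by
    rw [hτ, e3, ← map_inv]
    congr 1
    rw [Prod.inv_mk, map_pow, map_inv]
    congr 1
    group
  have e4 : P.na * τ = τ⁻¹ * P.na := by rw [← e3', mul_assoc, P.na_sq, mul_one]
  have e5 : P.h (t, 1) * (P.na * (P.E.x1 1 : G) * P.na) * (P.h (t, 1))⁻¹ =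
      P.h (t, 1) * ((P.E.x1 1 : G) * P.na * (P.E.x1 1 : G)) * (P.h (t, 1))⁻¹ := by rw [P.na_cube]
  have g3 : ∀ h x y z : G, h * (x * y * z) * h⁻¹ = (h * x * h⁻¹) * (h * y * h⁻¹) * (h * z * h⁻¹) := by
    intros; group
  rw [g3, g3, e1, e2, ← hτ] at e5
  have e6 := P.conj1 (t⁻¹ ^ 2) (C.Nu t) t
  rw [← hτ] at e6
  have e7 : ((t⁻¹ ^ 2 : Kˣ) : K) * (t : K) = ((t⁻¹ : Kˣ) : K) := by
    rw [← Units.val_mul]; congr 1; group
  rw [e7] at e6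
  -- `e5 : na τ x1(t) (na τ) = x1(t) (na τ) x1(t)`
  have e8 : P.na * (P.E.x1 t : G) * P.na = (τ * (P.E.x1 t : G) * τ⁻¹) * P.na * ((P.E.x1 t : G) * τ⁻¹) := by
    have : P.na * (P.E.x1 t : G) * P.na = τ * (P.na * τ * (P.E.x1 t : G) * (P.na * τ)) * τ⁻¹ := by
      calc P.na * (P.E.x1 t : G) * P.na = τ * ((τ⁻¹ * P.na) * (P.E.x1 t : G) * (P.na * τ)) * τ⁻¹ := by group
        _ = _ := by rw [← e4]
    rw [this, e5, e4]
    group
  rw [e8, e6]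
  have e9 : (P.E.x1 t : G) * τ⁻¹ = τ⁻¹ * (P.E.x1 (t⁻¹ : Kˣ) : G) := by rw [← e6]; group
  rw [e9]
  have e10 : P.na * τ⁻¹ = τ * P.na := by
    calc P.na * τ⁻¹ = τ * (τ⁻¹ * P.na) * τ⁻¹ := by group
      _ = τ * P.na := by rw [← e4]; group
  rw [mul_assoc (P.E.x1 (t⁻¹ : Kˣ) : G) P.na, ← mul_assoc P.na, e10]
  group

theorem rank1b (t : Fˣ) : P.nb * (P.E.x6 t : G) * P.nb =
    (P.E.x6 (t⁻¹ : Fˣ) : G) * P.h (Units.map (algebraMap F K : F →* K) t, t⁻¹ ^ 2) * P.nb *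
      (P.E.x6 (t⁻¹ : Fˣ) : G) := by
  set τ := P.h (Units.map (algebraMap F K : F →* K) t, t⁻¹ ^ 2) with hτ
  have e1 := P.conj_nb 1 t
  have e2 := P.conj6 1 t 1
  rw [mul_one] at e2
  have e3 := P.nb_h (Units.map (algebraMap F K : F →* K) t) (t⁻¹ ^ 2)
  have e3' : P.nb * τ * P.nb = τ⁻¹ := by
    rw [hτ, e3, ← map_inv]
    congr 1
    rw [Prod.inv_mk, map_pow, map_inv]
    congr 1
    group
  have e4 : P.nb * τ = τ⁻¹ * P.nb := by rw [← e3', mul_assoc, P.nb_sq, mul_one]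
  have e5 : P.h (1, t) * (P.nb * (P.E.x6 1 : G) * P.nb) * (P.h (1, t))⁻¹ =
      P.h (1, t) * ((P.E.x6 1 : G) * P.nb * (P.E.x6 1 : G)) * (P.h (1, t))⁻¹ := by rw [P.nb_cube]
  have g3 : ∀ h x y z : G, h * (x * y * z) * h⁻¹ = (h * x * h⁻¹) * (h * y * h⁻¹) * (h * z * h⁻¹) := by
    intros; group
  rw [g3, g3, e1, e2, ← hτ] at e5
  have e6 := P.conj6 (Units.map (algebraMap F K : F →* K) t) (t⁻¹ ^ 2) t
  rw [← hτ] at e6
  have e7 : ((t⁻¹ ^ 2 : Fˣ) : F) * (t : F) = ((t⁻¹ : Fˣ) : F) := by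
    rw [← Units.val_mul]; congr 1; group
  rw [e7] at e6
  have e8 : P.nb * (P.E.x6 t : G) * P.nb = (τ * (P.E.x6 t : G) * τ⁻¹) * P.nb * ((P.E.x6 t : G) * τ⁻¹) := by
    have : P.nb * (P.E.x6 t : G) * P.nb = τ * (P.nb * τ * (P.E.x6 t : G) * (P.nb * τ)) * τ⁻¹ := by
      calc P.nb * (P.E.x6 t : G) * P.nb = τ * ((τ⁻¹ * P.nb) * (P.E.x6 t : G) * (P.nb * τ)) * τ⁻¹ := by group
        _ = _ := by rw [← e4]
    rw [this, e5, e4]
    group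
  rw [e8, e6]
  have e9 : (P.E.x6 t : G) * τ⁻¹ = τ⁻¹ * (P.E.x6 (t⁻¹ : Fˣ) : G) := by rw [← e6]; group
  rw [e9]
  have e10 : P.nb * τ⁻¹ = τ * P.nb := by
    calc P.nb * τ⁻¹ = τ * (τ⁻¹ * P.nb) * τ⁻¹ := by group
      _ = τ * P.nb := by rw [← e4]; group
  rw [mul_assoc (P.E.x6 (t⁻¹ : Fˣ) : G) P.nb, ← mul_assoc P.nb, e10]
  group

/-- the frame, given the braid relation -/
def toFrame (hb : (P.na * P.nb) ^ 6 = 1) : Frame C G where
  toTorus := P.toTorus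
  na := P.na
  nb := P.nb
  na_sq := P.na_sq
  nb_sq := P.nb_sq
  na_h := P.na_h
  nb_h := P.nb_h
  na_x2 := P.na_x2
  na_x3 := P.na_x3
  na_x4 := P.na_x4
  nb_x1 := P.nb_x1
  nb_x2 := P.nb_x2
  nb_x3 := P.nb_x3
  rank1a := P.rank1a
  rank1b := P.rank1b
  braid := hb

end Pre

end Cfsg.Agent.HexRec
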