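import Cfsg.Agent.HexRec.SameLay
import Cfsg.Agent.HexRec.Par
import Cfsg.Agent.Lib.FrattiniPGroup

/-!
# Making a torus graded

A group `h (Kˣ × Fˣ)` of automorphisms of a hexagonal 2-group `S` which acts by multiplication with `p.1`, `p.2` on the
first layer `(a1, a6)` becomes graded after a change of coordinates which is trivial on the first layer.
-/

set_option autoImplicit false
set_option linter.unusedSectionVars false

namespace Cfsg.Agent.HexRec

open Cfsg.Agent.HexEss Cfsg.Agent.HexGlob Subgroup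
open Cfsg.Agent.HexRec.SameLay

universe u v

/-! ### conjugacy of complements -/

open Pointwise in
/-- complements of a normal 2-subgroup are conjugate -/
theorem exists_conj_compl {G : Type*} [Group G] [Finite G] {Q H H' : Subgroup G} (hQ : IsPGroup 2 Q)
    (hH : Odd (Nat.card H)) (hHQ : ∀ h ∈ H, ∀ q ∈ Q, h * q * h⁻¹ ∈ Q) (hcard : Nat.card H' = Nat.card H)
    (hH' : ∀ k ∈ H', ∃ h ∈ H, ∃ q ∈ Q, k = h * q) :
    ∃ q ∈ Q, ∀ k ∈ H', q * k * q⁻¹ ∈ H := by
  classical
  set Γ : Subgroup G := Q ⊔ H with hΓ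
  have hQΓ : Q ≤ Γ := le_sup_left
  have hHΓ : H ≤ Γ := le_sup_right
  have hle : Γ ≤ Subgroup.normalizer (Q : Set G) := by
    rw [hΓ, sup_le_iff]
    refine ⟨Subgroup.le_normalizer, ?_⟩
    intro h hh
    rw [Subgroup.mem_normalizer_iff]
    intro q
    constructor
    · exact hHQ h hh q
    · intro hq
      have := hHQ h⁻¹ (inv_mem hh) _ hq
      have e : h⁻¹ * (h * q * h⁻¹) * h⁻¹⁻¹ = q := by group
      rwa [e] at this
  have hKΓ : H' ≤ Γ := by
    intro k hk
    obtain ⟨h, hh, q, hq, rfl⟩ := hH' k hk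
    exact mul_mem (hHΓ hh) (hQΓ hq)
  let N : Subgroup Γ := Q.subgroupOf Γ
  have hN : N.Normal := Subgroup.normal_subgroupOf_iff_le_normalizer hQΓ |>.2 hle
  have cN : Nat.card N = Nat.card Q := Nat.card_congr (Subgroup.subgroupOfEquivOfLe hQΓ).toEquiv
  have cH : Nat.card (H.subgroupOf Γ) = Nat.card H := Nat.card_congr (Subgroup.subgroupOfEquivOfLe hHΓ).toEquiv
  have cK : Nat.card (H'.subgroupOf Γ) = Nat.card H' :=
    Nat.card_congr (Subgroup.subgroupOfEquivOfLe hKΓ).toEquiv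
  obtain ⟨m, hm⟩ := (IsPGroup.iff_card).1 hQ
  have hcop : (Nat.card N).Coprime (Nat.card H) := by
    rw [cN, hm]; exact (Nat.coprime_two_left.2 hH).pow_left m
  have dH : Nat.Coprime (Nat.card N) (Nat.card (H.subgroupOf Γ)) := by rw [cH]; exact hcop
  have dK : Nat.Coprime (Nat.card N) (Nat.card (H'.subgroupOf Γ)) := by rw [cK, hcard]; exact hcop
  have compH : Subgroup.IsComplement' N (H.subgroupOf Γ) := by
    apply Subgroup.isComplement'_of_disjoint_and_mul_eq_univ (Subgroup.disjoint_of_coprime_natCard dH)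
    rw [← Subgroup.normal_mul, ← Subgroup.subgroupOf_sup hQΓ hHΓ, Subgroup.subgroupOf_self]
    rfl
  have compK : Subgroup.IsComplement' N (H'.subgroupOf Γ) := by
    apply Subgroup.isComplement'_of_coprime _ dK
    rw [← compH.card_mul_card, cK, cH, hcard]
  have hi : N.index = Nat.card H := by
    rw [compH.symm.index_eq_card, cH]
  have := hQ.isNilpotent
  obtain ⟨g, hg⟩ := Cfsg.Agent.S0001.result N (by rw [hi]; exact hcop)
    (Or.inl (by
      have : Group.IsSolvable Q := inferInstance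
      exact Group.isSolvable_of_isSolvable_injective (f := (Subgroup.subgroupOfEquivOfLe hQΓ).toMonoidHom)
        (Subgroup.subgroupOfEquivOfLe hQΓ).injective)) _ _ compK compH
  obtain ⟨⟨⟨h0, hh0⟩, ⟨q0, hq0⟩⟩, hgh⟩ := compH.symm.2 g
  have hq0' : (q0 : G) ∈ Q := hq0
  have hh0' : (h0 : G) ∈ H := hh0
  refine ⟨q0, hq0', fun k hk => ?_⟩
  have h1 : (⟨k, hKΓ hk⟩ : Γ) ∈ H'.subgroupOf Γ := hk
  have h2 := Subgroup.smul_mem_pointwise_smul _ (MulAut.conj g) _ h1
  rw [hg] at h2
  have h3 : (g : G) * k * (g : G)⁻¹ ∈ H := h2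
  have h4 : (g : G) = h0 * q0 := by rw [← hgh]; rfl
  rw [h4] at h3
  have h5 := mul_mem (mul_mem (inv_mem hh0') h3) hh0'
  have e : (h0 : G)⁻¹ * (h0 * q0 * k * (h0 * q0 : G)⁻¹) * h0 = q0 * k * (q0 : G)⁻¹ := by group
  rwa [e] at h5

/-! ### graded automorphisms -/

section graded

variable {F K : Type*} [Field F] [Field K] [Algebra F K]

/-- the graded action on coordinates -/
def wt (C : Cubic F K) (a : K) (m : F) (x : Tup F K) : Tup F K :=
  ⟨a * x.a1, C.N a * m * x.a2, C.sh a * algebraMap F K m * x.a3, C.N a * m ^ 2 * x.a4,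
    a * algebraMap F K m * x.a5, m * x.a6⟩

theorem T_left_sh (C : Cubic F K) (a b c : K) (m : F) : C.T (a * b) (C.sh a * algebraMap F K m * c) =
    C.N a * m * C.T b c := by
  have : a * b * (C.sh a * algebraMap F K m * c) = (C.N a * m) • (b * c) := by
    rw [Algebra.smul_def, map_mul, C.N_map]; ring
  unfold Cubic.T
  rw [this, map_smul, smul_eq_mul]

theorem T_sh_left (C : Cubic F K) (a b c : K) (m : F) : C.T (C.sh a * b) (a * algebraMap F K m * c) =
    C.N a * m * C.T b c := by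
  have : C.sh a * b * (a * algebraMap F K m * c) = (C.N a * m) • (b * c) := by
    rw [Algebra.smul_def, map_mul, C.N_map]; ring
  unfold Cubic.T
  rw [this, map_smul, smul_eq_mul]

theorem wt_mul (C : Cubic F K) (a : K) (m : F) (x y : Tup F K) :
    C.mul (wt C a m x) (wt C a m y) = wt C a m (C.mul x y) := by
  have hs : ∀ t : K, C.sh (a * algebraMap F K m * t) = C.sh a * algebraMap F K (m ^ 2) * C.sh t := by
    intro t; rw [C.sh_mul, C.sh_mul, C.sh_map, map_pow]
  have hcr : ∀ s t : K, C.cr (a * s) (a * algebraMap F K m * t) = C.sh a * algebraMap F K m * C.cr s t := by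
    intro s t
    rw [mul_assoc a, C.cr_mul, ← Algebra.smul_def, cr_smul_right, Algebra.smul_def, mul_assoc]
  have e1 : ∀ s t : K, C.T (a * s) (C.sh a * algebraMap F K (m ^ 2) * t) = C.N a * m ^ 2 * C.T s t :=
    fun s t => T_left_sh C a s t (m ^ 2)
  have e2 : ∀ s t : K, C.T (C.sh a * algebraMap F K m * s) (a * algebraMap F K m * t) =
      C.N a * m ^ 2 * C.T s t := by
    intro s t
    rw [mul_assoc (C.sh a), T_sh_left, ← Algebra.smul_def, C.T_smul_left]; ring
  have e3 : ∀ s t : K, C.T (C.sh a * algebraMap F K m * s) (a * t) = C.N a * m * C.T s t := by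
    intro s t
    have : C.sh a * algebraMap F K m * s * (a * t) = (C.N a * m) • (s * t) := by
      rw [Algebra.smul_def, map_mul, C.N_map]; ring
    unfold Cubic.T
    rw [this, map_smul, smul_eq_mul]
  apply Tup.ext
  · change a * x.a1 + a * y.a1 = a * (x.a1 + y.a1)
    ring
  · change C.N a * m * x.a2 + C.N a * m * y.a2 + m * x.a6 * C.N (a * y.a1) +
      C.T (a * y.a1) (C.sh a * algebraMap F K m * x.a3) + C.T (C.sh (a * y.a1)) (a * algebraMap F K m * x.a5) =
      C.N a * m * (x.a2 + y.a2 + x.a6 * C.N y.a1 + C.T y.a1 x.a3 + C.T (C.sh y.a1) x.a5)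
    rw [T_left_sh, C.sh_mul, T_sh_left, C.N_mul]; ring
  · change C.sh a * algebraMap F K m * x.a3 + C.sh a * algebraMap F K m * y.a3 + (m * x.a6) • C.sh (a * y.a1) +
      C.cr (a * y.a1) (a * algebraMap F K m * x.a5) =
      C.sh a * algebraMap F K m * (x.a3 + y.a3 + x.a6 • C.sh y.a1 + C.cr y.a1 x.a5)
    rw [hcr, C.sh_mul, Algebra.smul_def, Algebra.smul_def, map_mul]; ring
  · change C.N a * m ^ 2 * x.a4 + C.N a * m ^ 2 * y.a4 + (m * x.a6) ^ 2 * C.N (a * y.a1) +
      C.T (a * y.a1) (C.sh (a * algebraMap F K m * x.a5)) + (m * x.a6) * (C.N a * m * y.a2) +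
      (m * x.a6) * C.T (C.sh (a * y.a1)) (a * algebraMap F K m * x.a5) +
      C.T (C.sh a * algebraMap F K m * y.a3) (a * algebraMap F K m * x.a5) +
      (m * x.a6) * C.T (C.sh a * algebraMap F K m * y.a3) (a * y.a1) =
      C.N a * m ^ 2 * (x.a4 + y.a4 + x.a6 ^ 2 * C.N y.a1 + C.T y.a1 (C.sh x.a5) + x.a6 * y.a2 +
        x.a6 * C.T (C.sh y.a1) x.a5 + C.T y.a3 x.a5 + x.a6 * C.T y.a3 y.a1)
    rw [hs, e1, C.sh_mul, T_sh_left, e2, e3, C.N_mul]; ring
  · change a * algebraMap F K m * x.a5 + a * algebraMap F K m * y.a5 + (m * x.a6) • (a * y.a1) =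
      a * algebraMap F K m * (x.a5 + y.a5 + x.a6 • y.a1)
    rw [Algebra.smul_def, Algebra.smul_def, map_mul]; ring
  · change m * x.a6 + m * y.a6 = m * (x.a6 + y.a6)
    ring

theorem wt_wt (C : Cubic F K) (a b : K) (m n : F) (x : Tup F K) :
    wt C a m (wt C b n x) = wt C (a * b) (m * n) x := by
  apply Tup.ext <;> simp only [wt, C.N_mul, C.sh_mul, map_mul, mul_pow] <;> ring

theorem wt_one (C : Cubic F K) (x : Tup F K) : wt C 1 1 x = x := by
  apply Tup.ext <;> simp [wt, C.N_one, C.sh_one]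

variable {C : Cubic F K} {S : Type*} [Group S]

/-- graded automorphisms -/
def grHom (E : Coord C S) : Kˣ × Fˣ →* MulAut S where
  toFun p :=
    { toFun s := E.e.symm (wt C p.1 p.2 (E.e s))
      invFun s := E.e.symm (wt C ((p.1)⁻¹ : Kˣ) ((p.2)⁻¹ : Fˣ) (E.e s))
      left_inv s := by
        simp only [Equiv.apply_symm_apply, wt_wt]
        rw [Units.inv_mul, Units.inv_mul, wt_one, Equiv.symm_apply_apply]
      right_inv s := by
        simp only [Equiv.apply_symm_apply, wt_wt]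
        rw [Units.mul_inv, Units.mul_inv, wt_one, Equiv.symm_apply_apply]
      map_mul' s t := by
        apply E.e.injective
        rw [Equiv.apply_symm_apply, E.map_mul, E.map_mul, Equiv.apply_symm_apply, Equiv.apply_symm_apply, wt_mul] }
  map_one' := by
    ext s
    apply E.e.injective
    change E.e (E.e.symm _) = E.e s
    rw [Equiv.apply_symm_apply]
    exact wt_one C _
  map_mul' p q := by
    ext s
    apply E.e.injective
    change E.e (E.e.symm _) = E.e (E.e.symm (wt C p.1 p.2 (E.e (E.e.symm (wt C q.1 q.2 (E.e s))))))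
    rw [Equiv.apply_symm_apply, Equiv.apply_symm_apply, Equiv.apply_symm_apply, wt_wt]
    rfl

theorem e_grHom (E : Coord C S) (p : Kˣ × Fˣ) (s : S) : E.e (grHom E p s) = wt C p.1 p.2 (E.e s) :=
  E.e.apply_symm_apply _

/-- automorphisms trivial on the first layer -/
def lay (E : Coord C S) : Subgroup (MulAut S) where
  carrier := {τ | ∀ s, (E.e (τ s)).a1 = (E.e s).a1 ∧ (E.e (τ s)).a6 = (E.e s).a6}
  mul_mem' := by
    intro τ ρ h1 h2 s
    exact ⟨((h1 (ρ s)).1).trans (h2 s).1, ((h1 (ρ s)).2).trans (h2 s).2⟩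
  one_mem' := fun s => ⟨rfl, rfl⟩
  inv_mem' := by
    intro τ h1 s
    have h2 := h1 (τ⁻¹ s)
    rw [MulAut.apply_inv_self] at h2
    exact ⟨h2.1.symm, h2.2.symm⟩

theorem mem_lay {E : Coord C S} {τ : MulAut S} :
    τ ∈ lay E ↔ ∀ s, (E.e (τ s)).a1 = (E.e s).a1 ∧ (E.e (τ s)).a6 = (E.e s).a6 := Iff.rfl

/-- change of coordinates -/
def Coord.comp (E : Coord C S) (θ : MulAut S) : Coord C S where
  e := θ.toEquiv.trans E.e
  map_mul g h := by
    change E.e (θ (g * h)) = C.mul (E.e (θ g)) (E.e (θ h))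
    rw [_root_.map_mul, E.map_mul]

theorem Coord.comp_e (E : Coord C S) (θ : MulAut S) (s : S) : (E.comp θ).e s = E.e (θ s) := rfl

theorem Coord.comp_symm (E : Coord C S) (θ : MulAut S) (x : Tup F K) :
    (E.comp θ).e.symm x = θ⁻¹ (E.e.symm x) := rfl

end graded

/-! ### the automorphisms trivial on the first layer form a 2-group -/

section main

variable {F K : Type v} [Field F] [Field K] [Algebra F K] [Finite F] [Finite K] {C : Cubic F K}

theorem card_pow (C : Cubic F K) : (∃ n, Nat.card F = 2 ^ n) ∧ ∃ n, Nat.card K = 2 ^ n := by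
  have := C.charP_F
  have := C.charP_K
  refine ⟨?_, ?_⟩
  · let _ := Fintype.ofFinite F
    obtain ⟨n, -, hn⟩ := FiniteField.card F 2
    exact ⟨n, by rw [Nat.card_eq_fintype_card, hn]⟩
  · let _ := Fintype.ofFinite K
    obtain ⟨n, -, hn⟩ := FiniteField.card K 2
    exact ⟨n, by rw [Nat.card_eq_fintype_card, hn]⟩

/-- the coset with given first layer -/
def layEquiv {S : Type*} [Group S] (E : Coord C S) (a : K) (b : F) :
    {s : S // (E.e s).a1 = a ∧ (E.e s).a6 = b} ≃ F × K × F × K where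
  toFun s := ((E.e s.1).a2, (E.e s.1).a3, (E.e s.1).a4, (E.e s.1).a5)
  invFun x := ⟨E.el a x.1 x.2.1 x.2.2.1 x.2.2.2 b, by rw [E.e_el]; exact ⟨rfl, rfl⟩⟩
  left_inv := by
    rintro ⟨s, h1, h6⟩
    apply Subtype.ext
    apply E.e.injective
    rw [E.e_el]
    exact Tup.ext h1.symm rfl rfl rfl rfl h6.symm
  right_inv := by
    rintro ⟨x, y, z, w⟩
    simp only [E.e_el]

theorem card_lay {S : Type*} [Group S] (E : Coord C S) (a : K) (b : F) :
    ∃ n, Nat.card {s : S // (E.e s).a1 = a ∧ (E.e s).a6 = b} = 2 ^ n := by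
  obtain ⟨⟨n, hn⟩, m, hm⟩ := card_pow C
  refine ⟨n + (m + (n + m)), ?_⟩
  rw [Nat.card_congr (layEquiv E a b), Nat.card_prod, Nat.card_prod, Nat.card_prod, hn, hm, pow_add, pow_add,
    pow_add]

/-- an automorphism of odd prime order which is trivial on the first layer has fixed points everywhere -/
theorem exists_fixed {S : Type*} [Group S] (E : Coord C S) {τ : MulAut S} (hτ : τ ∈ lay E) {r : ℕ}
    (hr : r.Prime) (hr2 : r ≠ 2) (ho : τ ^ r = 1) (s : S) :
    ∃ t : S, (E.e t).a1 = (E.e s).a1 ∧ (E.e t).a6 = (E.e s).a6 ∧ τ t = t := by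
  classical
  set Ω := {t : S // (E.e t).a1 = (E.e s).a1 ∧ (E.e t).a6 = (E.e s).a6} with hΩ
  have hfin : Finite Ω := Finite.of_equiv _ (layEquiv E _ _).symm
  let _ := Fintype.ofFinite Ω
  have hinv : ∀ τ ∈ lay E, ∀ t : Ω, (E.e (τ t.1)).a1 = (E.e s).a1 ∧ (E.e (τ t.1)).a6 = (E.e s).a6 := by
    intro τ hτ t
    exact ⟨(hτ t.1).1.trans t.2.1, (hτ t.1).2.trans t.2.2⟩
  let σ : Equiv.Perm Ω :=
    { toFun t := ⟨τ t.1, hinv τ hτ t⟩
      invFun t := ⟨τ⁻¹ t.1, hinv τ⁻¹ (inv_mem hτ) t⟩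
      left_inv t := Subtype.ext (MulAut.inv_apply_self _ _ _)
      right_inv t := Subtype.ext (MulAut.apply_inv_self _ _ _) }
  have hσ : ∀ n : ℕ, ∀ t : Ω, (((σ ^ n) t : Ω) : S) = (τ ^ n) t.1 := by
    intro n
    induction n with
    | zero => intro t; rfl
    | succ n ih =>
      intro t
      rw [pow_succ, pow_succ, Equiv.Perm.mul_apply, ih]
      rfl
  have hσr : σ ^ r ^ 1 = 1 := by
    ext t
    rw [pow_one, hσ, ho]
    rfl
  have := Fact.mk hr
  have hcard : ¬ r ∣ Fintype.card Ω := by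
    obtain ⟨n, hn⟩ := card_lay E (E.e s).a1 (E.e s).a6
    rw [← Nat.card_eq_fintype_card, hn]
    intro hd
    have h1 := hr.dvd_of_dvd_pow hd
    exact hr2 ((Nat.prime_dvd_prime_iff_eq hr Nat.prime_two).1 h1)
  obtain ⟨t, ht⟩ := Equiv.Perm.exists_fixed_point_of_prime hcard hσr
  exact ⟨t.1, t.2.1, t.2.2, congrArg Subtype.val ht⟩

variable {G : Type u} [Group G] [Finite G] {S : Subgroup G}

theorem isPGroup_S (E : Coord C S) : IsPGroup 2 S := by
  obtain ⟨⟨n, hn⟩, m, hm⟩ := card_pow C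
  apply IsPGroup.of_card (n := m + (n + (m + (n + (m + n)))))
  have e : S ≃ K × F × K × F × K × F := E.e.trans
    { toFun x := (x.a1, x.a2, x.a3, x.a4, x.a5, x.a6)
      invFun y := ⟨y.1, y.2.1, y.2.2.1, y.2.2.2.1, y.2.2.2.2.1, y.2.2.2.2.2⟩
      left_inv _ := rfl
      right_inv _ := rfl }
  rw [Nat.card_congr e, Nat.card_prod, Nat.card_prod, Nat.card_prod, Nat.card_prod, Nat.card_prod, hn, hm]
  simp only [pow_add]

/-- elements with trivial first layer are in the commutator subgroup -/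
theorem mem_commutator (hD : Dat C) (E : Coord C S) {s : S} (h1 : (E.e s).a1 = 0) (h6 : (E.e s).a6 = 0) :
    s ∈ commutator S := by
  have h2 : (s : G) ∈ RR E := ⟨s.2, by rw [cx_eq s.2]; exact h1, by rw [cx_eq s.2]; exact h6⟩
  rw [← Facts.RR_eq (co := E) hD] at h2
  have h3 : (s : G) ∈ ⁅S, S⁆ := by
    refine (closure_le _).2 ?_ h2
    rintro _ ⟨g, hg, h, hh, rfl⟩
    exact commutator_mem_commutator hg hh
  rw [← Subgroup.map_subtype_commutator] at h3
  obtain ⟨t, ht, hts⟩ := h3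
  have : t = s := Subtype.ext hts
  rwa [← this]

theorem eq_one_of_prime (hD : Dat C) (E : Coord C S) {τ : MulAut S} (hτ : τ ∈ lay E) {r : ℕ}
    (hr : r.Prime) (hr2 : r ≠ 2) (ho : τ ^ r = 1) : τ = 1 := by
  have : Fact (Nat.Prime 2) := ⟨Nat.prime_two⟩
  let Fx : Subgroup S := MonoidHom.eqLocus τ.toMonoidHom (MonoidHom.id S)
  have hFx : Fx = ⊤ := by
    apply frattini_nongenerating
    rw [eq_top_iff]
    intro s _
    obtain ⟨t, h1, h6, ht⟩ := exists_fixed E hτ hr hr2 ho s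
    have hs : s = t * (t⁻¹ * s) := by group
    have e1 : (E.e (t⁻¹ * s)).a1 = 0 := by
      have := E.mul_a1 t (t⁻¹ * s)
      rw [mul_inv_cancel_left, h1] at this
      simpa using this
    have e6 : (E.e (t⁻¹ * s)).a6 = 0 := by
      have := E.mul_a6 t (t⁻¹ * s)
      rw [mul_inv_cancel_left, h6] at this
      simpa using this
    rw [hs]
    refine mul_mem (mem_sup_left ht) (mem_sup_right ?_)
    exact Lib.FrattiniPGroup.commutator_le_frattini (isPGroup_S E) (mem_commutator hD E e1 e6)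
  ext s
  have : s ∈ Fx := by rw [hFx]; trivial
  exact congrArg Subtype.val this

theorem isPGroup_lay (hD : Dat C) (E : Coord C S) : IsPGroup 2 (lay E) := by
  have : Fact (Nat.Prime 2) := ⟨Nat.prime_two⟩
  rintro ⟨τ, hτ⟩
  have hfo : 0 < orderOf τ := orderOf_pos τ
  obtain ⟨k, m, hm, hk⟩ := Nat.exists_eq_two_pow_mul_odd hfo.ne'
  refine ⟨k, ?_⟩
  apply Subtype.ext
  change τ ^ 2 ^ k = 1
  by_contra hne
  have ho : orderOf (τ ^ 2 ^ k) = m := by
    rw [orderOf_pow_of_dvd (by positivity) (by rw [hk]; exact dvd_mul_right _ _), hk,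
      Nat.mul_div_cancel_left _ (by positivity)]
  have hm1 : m ≠ 1 := by
    intro h
    rw [h] at ho
    exact hne (orderOf_eq_one_iff.1 ho)
  obtain ⟨r, hr, hrm⟩ := Nat.exists_prime_and_dvd hm1
  obtain ⟨n, hn⟩ := hrm
  have hr2 : r ≠ 2 := by
    rintro rfl
    rw [hn] at hm
    exact (Nat.not_odd_iff_even.2 (even_two.mul_right n)) hm
  have h1 : ((τ ^ 2 ^ k) ^ n) ^ r = 1 := by
    rw [← pow_mul, mul_comm n r, ← hn, ← ho, pow_orderOf_eq_one]
  have h2 := eq_one_of_prime hD E (pow_mem (pow_mem hτ _) n) hr hr2 h1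
  have h3 := orderOf_dvd_of_pow_eq_one h2
  rw [ho, hn] at h3
  have hn0 : 0 < n := by
    rcases Nat.eq_zero_or_pos n with h | h
    · rw [h, mul_zero] at hn
      rw [hn] at hm
      exact absurd hm (by decide)
    · exact h
  have h4 := Nat.le_of_dvd hn0 h3
  have := hr.two_le
  nlinarith

/-! ### the change of coordinates -/

/-- the action of `h` on `S` -/
def actHom {A : Type*} [Group A] (S : Subgroup G) (h : A →* G) (hS : ∀ p, ∀ s ∈ S, h p * s * (h p)⁻¹ ∈ S) :
    A →* MulAut S where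
  toFun p :=
    { toFun s := ⟨h p * s * (h p)⁻¹, hS p s s.2⟩
      invFun s := ⟨h p⁻¹ * s * (h p⁻¹)⁻¹, hS p⁻¹ s s.2⟩
      left_inv s := by
        apply Subtype.ext
        simp only [map_inv]
        group
      right_inv s := by
        apply Subtype.ext
        simp only [map_inv]
        group
      map_mul' s t := by
        apply Subtype.ext
        simp only [Subgroup.coe_mul]
        group }
  map_one' := by
    ext s
    change h 1 * (s : G) * (h 1)⁻¹ = s
    rw [map_one]; group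
  map_mul' p q := by
    ext s
    change h (p * q) * (s : G) * (h (p * q))⁻¹ = h p * (h q * s * (h q)⁻¹) * (h p)⁻¹
    rw [map_mul]; group

theorem coe_actHom {A : Type*} [Group A] {S : Subgroup G} {h : A →* G}
    {hS : ∀ p, ∀ s ∈ S, h p * s * (h p)⁻¹ ∈ S} (p : A) (s : S) :
    ((actHom S h hS p s : S) : G) = h p * s * (h p)⁻¹ := rfl

/-- the normalising automorphism -/
theorem exists_theta (hD : Dat C) (E : Coord C S) (f : Kˣ × Fˣ →* MulAut S)
    (hlay : ∀ p s, (E.e (f p s)).a1 = p.1 * (E.e s).a1 ∧ (E.e (f p s)).a6 = p.2 * (E.e s).a6) :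
    ∃ θ ∈ lay E, ∀ p, θ * f p * θ⁻¹ = grHom E p := by
  have hgr : ∀ p s, (E.e (grHom E p s)).a1 = p.1 * (E.e s).a1 ∧ (E.e (grHom E p s)).a6 = p.2 * (E.e s).a6 := by
    intro p s
    rw [e_grHom]
    exact ⟨rfl, rfl⟩
  have hinj : ∀ f' : Kˣ × Fˣ →* MulAut S,
      (∀ p s, (E.e (f' p s)).a1 = p.1 * (E.e s).a1 ∧ (E.e (f' p s)).a6 = p.2 * (E.e s).a6) →
      Function.Injective f' := by
    intro f' h'
    rw [injective_iff_map_eq_one]
    intro p hp
    have h1 := h' p (E.el 1 0 0 0 0 1)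
    rw [hp, MulAut.one_apply, E.e_el] at h1
    obtain ⟨e1, e6⟩ := h1
    refine Prod.ext (Units.ext ?_) (Units.ext ?_)
    · simpa using e1.symm
    · simpa using e6.symm
  have hodd : Odd (Nat.card (Kˣ × Fˣ)) := by
    obtain ⟨⟨n, hn⟩, m, hm⟩ := card_pow C
    have e : ∀ (k : Type v) [Field k] [Finite k] (n : ℕ), Nat.card k = 2 ^ n → Odd (Nat.card kˣ) := by
      intro k _ _ n hn
      have h1 : 1 < Nat.card k := Finite.one_lt_card
      have h2 : n ≠ 0 := by
        rintro rfl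
        rw [hn] at h1; simp at h1
      rw [Nat.card_units, hn]
      obtain ⟨j, rfl⟩ := Nat.exists_eq_succ_of_ne_zero h2
      have h3 : 0 < 2 ^ j := by positivity
      refine ⟨2 ^ j - 1, ?_⟩
      rw [Nat.succ_eq_add_one, pow_succ]
      omega
    rw [Nat.card_prod]
    exact (e K m hm).mul (e F n hn)
  have cf : Nat.card f.range = Nat.card (Kˣ × Fˣ) := by
    rw [← Nat.card_congr (MonoidHom.ofInjective (hinj f hlay)).toEquiv]
  have cg : Nat.card (grHom E).range = Nat.card (Kˣ × Fˣ) := by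
    rw [← Nat.card_congr (MonoidHom.ofInjective (hinj (grHom E) hgr)).toEquiv]
  obtain ⟨θ, hθ, hconj⟩ := exists_conj_compl (Q := lay E) (H := (grHom E).range) (H' := f.range)
    (isPGroup_lay hD E) (by rw [cg]; exact hodd)
    (by
      rintro _ ⟨p, rfl⟩ τ hτ s
      have e : (grHom E p * τ * (grHom E p)⁻¹) s = grHom E p (τ ((grHom E p)⁻¹ s)) := rfl
      have h1 := hgr p (τ ((grHom E p)⁻¹ s))
      have h2 := hτ ((grHom E p)⁻¹ s)
      have h3 := hgr p ((grHom E p)⁻¹ s)
      rw [MulAut.apply_inv_self] at h3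
      rw [e]
      exact ⟨by rw [h1.1, h2.1, h3.1], by rw [h1.2, h2.2, h3.2]⟩)
    (by rw [cf, cg])
    (by
      rintro _ ⟨p, rfl⟩
      refine ⟨grHom E p, ⟨p, rfl⟩, (grHom E p)⁻¹ * f p, ?_, by group⟩
      intro s
      have h1 := hgr p (((grHom E p)⁻¹ * f p) s)
      have h2 := hlay p s
      have e : grHom E p (((grHom E p)⁻¹ * f p) s) = f p s := by
        rw [← MulAut.mul_apply, mul_inv_cancel_left]
      rw [e, h2.1, h2.2] at h1
      exact ⟨(mul_left_cancel₀ p.1.ne_zero h1.1).symm, (mul_left_cancel₀ p.2.ne_zero h1.2).symm⟩)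
  refine ⟨θ, hθ, fun p => ?_⟩
  obtain ⟨p', hp'⟩ := hconj (f p) ⟨p, rfl⟩
  have : p' = p := by
    have h1 := hgr p' (θ (E.el 1 0 0 0 0 1))
    have h2 : grHom E p' (θ (E.el 1 0 0 0 0 1)) = θ (f p (E.el 1 0 0 0 0 1)) := by
      rw [hp']
      change θ (f p (θ⁻¹ (θ _))) = _
      rw [MulAut.inv_apply_self]
    rw [h2, (hθ _).1, (hθ _).2, (hθ _).1, (hθ _).2, (hlay _ _).1, (hlay _ _).2, E.e_el] at h1
    obtain ⟨e1, e6⟩ := h1
    refine Prod.ext (Units.ext ?_) (Units.ext ?_)
    · simpa using e1.symm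
    · simpa using e6.symm
  rw [← hp', this]

/-- a torus from graded coordinates -/
def mkTorus (S : Subgroup G) (E : Coord C S) (h : Kˣ × Fˣ →* G) (hinj : Function.Injective h)
    (hgr : ∀ p (x : Tup F K), h p * (E.e.symm x : G) * (h p)⁻¹ = (E.e.symm (wt C p.1 p.2 x) : G)) :
    Torus C G where
  S := S
  E := E
  h := h
  h_inj := hinj
  conj1 a m t := by
    refine (hgr (a, m) _).trans ?_
    congr 2
    simp [wt]
  conj2 a m t := by
    refine (hgr (a, m) _).trans ?_
    congr 2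
    simp [wt]
  conj3 a m t := by
    refine (hgr (a, m) _).trans ?_
    congr 2
    simp [wt]
  conj4 a m t := by
    refine (hgr (a, m) _).trans ?_
    congr 2
    simp [wt]
  conj5 a m t := by
    refine (hgr (a, m) _).trans ?_
    congr 2
    simp [wt]
  conj6 a m t := by
    refine (hgr (a, m) _).trans ?_
    congr 2
    simp [wt]

/-- **the change of coordinates**: a torus acting by multiplication on the first layer is graded in suitable new
coordinates with the same first layer -/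
theorem exists_graded (hD : Dat C) (S : Subgroup G) (E : Coord C S) (h : Kˣ × Fˣ →* G)
    (hS : ∀ p, ∀ s ∈ S, h p * s * (h p)⁻¹ ∈ S)
    (hlay : ∀ p (s t : S), (t : G) = h p * s * (h p)⁻¹ →
      (E.e t).a1 = p.1 * (E.e s).a1 ∧ (E.e t).a6 = p.2 * (E.e s).a6) :
    ∃ E' : Coord C S, Same E E' ∧
      ∀ p (x : Tup F K), h p * (E'.e.symm x : G) * (h p)⁻¹ = (E'.e.symm (wt C p.1 p.2 x) : G) := by
  obtain ⟨θ, hθ, hc⟩ := exists_theta hD E (actHom S h hS) (fun p s => hlay p s _ rfl)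
  refine ⟨E.comp θ, ?_, ?_⟩
  · intro g hg
    rw [cx_eq hg, cx_eq hg]
    exact hθ ⟨g, hg⟩
  · intro p x
    rw [Coord.comp_symm, Coord.comp_symm, ← coe_actHom (hS := hS)]
    have e1 : actHom S h hS p = θ⁻¹ * grHom E p * θ := by rw [← hc p]; group
    rw [e1]
    change ((θ⁻¹ (grHom E p (θ (θ⁻¹ (E.e.symm x)))) : S) : G) = _
    rw [MulAut.apply_inv_self]
    congr 2
    apply E.e.injective
    rw [e_grHom, Equiv.apply_symm_apply, Equiv.apply_symm_apply]

theorem torus_inj (S : Subgroup G) (E : Coord C S) (h : Kˣ × Fˣ →* G)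
    (hlay : ∀ p (s t : S), (t : G) = h p * s * (h p)⁻¹ →
      (E.e t).a1 = p.1 * (E.e s).a1 ∧ (E.e t).a6 = p.2 * (E.e s).a6) : Function.Injective h := by
  rw [injective_iff_map_eq_one]
  intro p hp
  have h1 := hlay p (E.el 1 0 0 0 0 1) (E.el 1 0 0 0 0 1) (by rw [hp]; group)
  rw [E.e_el] at h1
  obtain ⟨e1, e6⟩ := h1
  refine Prod.ext (Units.ext ?_) (Units.ext ?_)
  · simpa using e1.symm
  · simpa using e6.symm

end main

end Cfsg.Agent.HexRec
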