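import Cfsg.Agent.HexRec.Cubic
import Cfsg.Agent.HexEss.Basic
import Cfsg.Agent.HexRec.Par

/-!
# Algebra for the torus of a hexagonal parabolic pair

`eq_id_of_add`: two "semilinear" maps differing by the identity are linear.
`hua`: an additive map commuting with inversion is multiplicative (characteristic two).
`sim_*`: similarities of a cubic datum.
-/

set_option autoImplicit false

namespace Cfsg.Agent.HexRec.TorAlg

open Cfsg.Agent.HexRec

section Field

variable {k : Type*} [Field k]

/-- two multiplicative maps `σ`, `τ` with `β σ = id + α τ` are trivial -/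
theorem eq_id_of_add (h2 : (2 : k) = 0) {σ τ : k → k} (hσ : ∀ s t, σ (s * t) = σ s * σ t) (hσ1 : σ 1 = 1)
    (hτ : ∀ s t, τ (s * t) = τ s * τ t) (hτ1 : τ 1 = 1) {α β : k} (hα : α ≠ 0)
    (h : ∀ t, β * σ t = t + α * τ t) (t : k) : τ t = t := by
  have hβ : β = 1 + α := by
    have := h 1
    rw [hσ1, hτ1] at this
    linear_combination this
  have h1 := h (t * t)
  have h3 := h t
  rw [hσ, hτ] at h1
  have h4 : β * (β * (σ t * σ t)) = (t + α * τ t) * (t + α * τ t) := by
    linear_combination (β * σ t + t + α * τ t) * h3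
  rw [h1, hβ] at h4
  have h5 : α * ((t + τ t) * (t + τ t)) = 0 := by
    linear_combination h4 + α * (2 * t * τ t) * h2
  have h6 : t + τ t = 0 := by
    rcases mul_eq_zero.1 h5 with h | h
    · exact absurd h hα
    · exact mul_self_eq_zero.1 h
  linear_combination h6 - t * h2

/-- Hua's identity in characteristic two, multiplicative form. -/
theorem hua [Finite k] [CharP k 2] (A : k → k) (hadd : ∀ s t, A (s + t) = A s + A t) (h1 : A 1 = 1)
    (hinv : ∀ t, t ≠ 0 → A t⁻¹ = (A t)⁻¹) (s t : k) : A (s * t) = A s * A t := by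
  have h2 : (2 : k) = 0 := CharTwo.two_eq_zero
  have hss : ∀ x : k, x + x = 0 := CharTwo.add_self_eq_zero
  have h0 : A 0 = 0 := by
    have := hadd 0 0
    rw [add_zero] at this
    linear_combination -this
  have hne : ∀ x, x ≠ 0 → A x ≠ 0 := by
    intro x hx h
    have h3 := hinv x⁻¹ (inv_ne_zero hx)
    rw [inv_inv, h] at h3
    have h4 : A x⁻¹ = 0 := by
      have := congrArg (·⁻¹) h3
      simpa using this.symm
    -- use `A 1`
    by_cases hx1 : x = 1
    · rw [hx1, h1] at h; exact one_ne_zero h
    · have h5 : x + 1 ≠ 0 := by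
        intro h6
        apply hx1
        linear_combination h6 - h2
      have h7 := hinv (x + 1) h5
      have h8 := hinv (x⁻¹ + 1) (by
        intro h9
        apply h5
        field_simp at h9
        linear_combination h9)
      rw [hadd, h, h1, zero_add, inv_one] at h7
      rw [hadd, h4, h1, zero_add, inv_one] at h8
      have h9 : (x + 1)⁻¹ + (x⁻¹ + 1)⁻¹ = 1 := by
        have h10 : x⁻¹ + 1 ≠ 0 := by
          intro h9
          apply h5
          field_simp at h9
          linear_combination h9
        have h11 : x⁻¹ + 1 = (x + 1) * x⁻¹ := by field_simp; ring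
        rw [h11, mul_inv, inv_inv]
        field_simp
        ring
      have h10 : A ((x + 1)⁻¹ + (x⁻¹ + 1)⁻¹) = 1 + 1 := by rw [hadd, h7, h8]
      rw [h9, h1, hss] at h10
      exact one_ne_zero h10
  -- `A (a² b) = A(a)² A(b)`
  have key : ∀ a b : k, A (a ^ 2 * b) = A a ^ 2 * A b := by
    intro a b
    by_cases ha : a = 0
    · rw [ha, h0]; simp [h0]
    by_cases hb : b = 0
    · rw [hb, h0, mul_zero, h0, mul_zero]
    by_cases hab : a * b = 1
    · have h3 : b = a⁻¹ := by field_simp; linear_combination hab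
      rw [h3, hinv a ha]
      have h4 := hne a ha
      have h5 : a ^ 2 * a⁻¹ = a := by field_simp
      rw [h5]
      field_simp
    · -- `a⁻¹ + (b⁻¹ + a)⁻¹`
      have hb1 : b⁻¹ + a ≠ 0 := by
        intro h3
        apply hab
        field_simp at h3
        linear_combination h3 - h2
      have hab1 : 1 + a * b ≠ 0 := by
        intro h3
        apply hab
        linear_combination h3 - h2
      have e1 : a⁻¹ + (b⁻¹ + a)⁻¹ = (a + a ^ 2 * b)⁻¹ := by
        have h3 : a + a ^ 2 * b = a * (1 + a * b) := by ring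
        have h4 : b⁻¹ + a = b⁻¹ * (1 + a * b) := by field_simp
        rw [h3, h4, mul_inv, mul_inv, inv_inv]
        field_simp
        linear_combination a * b * h2
      have hne1 : a + a ^ 2 * b ≠ 0 := by
        have h3 : a + a ^ 2 * b = a * (1 + a * b) := by ring
        rw [h3]; exact mul_ne_zero ha hab1
      have e2 : A (a⁻¹ + (b⁻¹ + a)⁻¹) = (A (a + a ^ 2 * b))⁻¹ := by rw [e1, hinv _ hne1]
      rw [hadd, hinv a ha, hinv _ hb1, hadd, hinv b hb, hadd] at e2
      have n1 := hne a ha
      have n2 := hne b hb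
      have n3 := hne _ hb1
      rw [hadd, hinv b hb] at n3
      have n4 := hne _ hne1
      rw [hadd] at n4
      -- `α⁻¹ + (β⁻¹ + α)⁻¹ = (α + X)⁻¹`
      generalize A a = α at *
      generalize A b = β at *
      generalize A (a ^ 2 * b) = X at *
      have n5 : 1 + α * β ≠ 0 := by
        intro h3
        apply n3
        have h4 : β⁻¹ + α = β⁻¹ * (1 + α * β) := by field_simp
        rw [h4, h3, mul_zero]
      have e3 : α⁻¹ + (β⁻¹ + α)⁻¹ = (α * (1 + α * β))⁻¹ := by
        have h4 : β⁻¹ + α = β⁻¹ * (1 + α * β) := by field_simp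
        rw [h4, mul_inv, mul_inv, inv_inv]
        field_simp
        linear_combination α * β * h2
      rw [e3] at e2
      have e4 := inv_injective e2
      linear_combination -e4
  obtain ⟨r, hr⟩ : ∃ r, r ^ 2 = s := by
    obtain ⟨r, hr⟩ := (frobeniusEquiv k 2).surjective s
    rw [frobeniusEquiv_apply, frobenius_def] at hr
    exact ⟨r, hr⟩
  rw [← hr, key]
  have h3 := key r 1
  rw [mul_one, h1, mul_one] at h3
  rw [h3]

/-- bilinearity forces semilinearity -/
theorem mult_of_bilin {A4 A6 A2 : k → k} (h : ∀ u p, A4 (u * p) = A6 u * A2 p) (h2 : A2 1 ≠ 0) (h6 : A6 1 ≠ 0)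
    (u p : k) : A6 (u * p) / A6 1 = A6 u / A6 1 * (A6 p / A6 1) := by
  have e1 : A4 (u * p) = A6 (u * p) * A2 1 := by
    have := h (u * p) 1
    rwa [mul_one] at this
  have e2 : A4 p = A6 p * A2 1 := by
    have := h p 1
    rwa [mul_one] at this
  have e3 : A4 p = A6 1 * A2 p := by
    have := h 1 p
    rwa [one_mul] at this
  have e4 := h u p
  have e5 : A6 (u * p) * A6 1 = A6 u * A6 p := by
    have : A2 1 * (A6 (u * p) * A6 1) = A2 1 * (A6 u * A6 p) := by
      linear_combination (-A6 1) * e1 + A6 1 * e4 - A6 u * e3 + A6 u * e2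
    exact mul_left_cancel₀ h2 this
  field_simp
  linear_combination e5

end Field

variable {F K : Type*} [Field F] [Field K] [Algebra F K] (C : Cubic F K)

/-- `t × 1 = t + T(t)` -/
theorem cr_one (hq : ∃ f : F, f ≠ 0 ∧ f ≠ 1) (a : K) : C.cr a 1 = a + algebraMap F K (C.tr a) := by
  obtain ⟨f, hf0, hf1⟩ := hq
  have h2 := C.two_K
  have key : ∀ f : F, algebraMap F K f * (a + C.cr a 1) * algebraMap F K f +
      algebraMap F K f * (a * C.cr a 1 + C.sh a) =
      algebraMap F K f * algebraMap F K (C.tr (C.sh a)) +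
        algebraMap F K f * algebraMap F K f * algebraMap F K (C.tr a) := by
    intro f
    have e1 := C.N_map (a + algebraMap F K f)
    have e2 := C.N_add a (algebraMap F K f)
    have e3 : C.sh (a + algebraMap F K f) = C.sh a + algebraMap F K f ^ 2 + algebraMap F K f * C.cr a 1 := by
      rw [C.sh_add', C.sh_map]
      congr 1
      have : algebraMap F K f = f • (1 : K) := by rw [Algebra.smul_def, mul_one]
      rw [this, HexEss.cr_smul_right, Algebra.smul_def, Algebra.smul_def, mul_one]
    have e4 : C.tr (C.sh a * algebraMap F K f) = f * C.tr (C.sh a) := by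
      rw [mul_comm, ← Algebra.smul_def, map_smul, smul_eq_mul]
    have e5 : C.tr (a * C.sh (algebraMap F K f)) = f ^ 2 * C.tr a := by
      rw [C.sh_map, ← map_pow, mul_comm, ← Algebra.smul_def, map_smul, smul_eq_mul]
    have e6 := C.N_map (algebraMap F K f)
    rw [C.sh_map] at e6
    rw [e2, e3, e4, e5, map_add, map_add, map_add, map_mul, map_mul, map_pow, e6, C.N_map a] at e1
    linear_combination -e1
  have k1 := key 1
  have k2 := key f
  rw [map_one] at k1
  have n1 : algebraMap F K f ≠ 0 := (map_ne_zero _).2 hf0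
  have n2 : algebraMap F K f + 1 ≠ 0 := by
    intro h
    apply hf1
    apply (algebraMap F K).injective
    rw [map_one]
    linear_combination h - h2
  have e : algebraMap F K f * ((algebraMap F K f + 1) * (a + C.cr a 1 + algebraMap F K (C.tr a))) = 0 := by
    linear_combination k2 - algebraMap F K f * k1 +
      (algebraMap F K f * (a + C.cr a 1) + (algebraMap F K f) * (algebraMap F K f) * algebraMap F K (C.tr a)) * h2
  have e' : a + C.cr a 1 + algebraMap F K (C.tr a) = 0 := by
    rcases mul_eq_zero.1 e with h | h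
    · exact absurd h n1
    · rcases mul_eq_zero.1 h with h | h
      · exact absurd h n2
      · exact h
  linear_combination e' - (a + algebraMap F K (C.tr a)) * h2

/-- Similarities: the maps induced by an element of the first parabolic on the root groups `1`, `3` are
semilinear. -/
theorem sim (hq : ∃ f : F, f ≠ 0 ∧ f ≠ 1) [Finite K] {A1 A3 g : K → K} {e : F → K} {μ : F} (hμ : μ ≠ 0)
    (a1_add : ∀ s t, A1 (s + t) = A1 s + A1 t) (a1_smul : ∀ (f : F) t, A1 (f • t) = f • A1 t)
    (a1_inj : Function.Injective A1) (a3_add : ∀ s t, A3 (s + t) = A3 s + A3 t)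
    (hT : ∀ r s, C.T r s = μ * C.T (A1 r) (A3 s))
    (hst : ∀ (u : F) (t : K), g (u • t) + A3 (u • C.sh t) = (μ * u) • C.sh (A1 t) + C.cr (A1 t) (e u)) :
    A1 1 ≠ 0 ∧ μ ^ 2 * C.N (A1 1) = 1 ∧ ∀ s t, A1 (s * t) / A1 1 = A1 s / A1 1 * (A1 t / A1 1) := by
  have h2 := C.two_K
  have h2F := C.two_F
  have a1_surj : Function.Surjective A1 := Finite.surjective_of_injective a1_inj
  have a1_zero : A1 0 = 0 := by
    have := a1_add 0 0
    rw [add_zero] at this
    linear_combination -this
  have hα : A1 1 ≠ 0 := fun h => one_ne_zero (a1_inj (h.trans a1_zero.symm))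
  have a3_smul : ∀ (f : F) t, A3 (f • t) = f • A3 t := by
    intro f t
    apply HexEss.T_ext (C := C)
    intro c
    obtain ⟨r, rfl⟩ := a1_surj c
    rw [C.T_comm _ (A1 r), C.T_comm _ (A1 r), C.T_smul_right]
    apply mul_left_cancel₀ hμ
    rw [← hT, C.T_smul_right, hT]
    ring
  obtain ⟨f, hf0, hf1⟩ := hq
  have hff : f ^ 2 + f ≠ 0 := by
    intro h
    have : f * (f + 1) = 0 := by linear_combination h
    rcases mul_eq_zero.1 this with h | h
    · exact hf0 h
    · apply hf1; linear_combination h - h2F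
  -- `D t = A3 (t^#) + μ (A1 t)^#`
  have hD1 : ∀ t, (f ^ 2 + f) • (A3 (C.sh t) + μ • C.sh (A1 t)) = C.cr (A1 t) (f • e 1 + e f) := by
    intro t
    have e1 := hst 1 (f • t)
    have e2 := hst f t
    rw [one_smul, one_smul, C.sh_smul, a3_smul, a1_smul, C.sh_smul, mul_one, HexEss.cr_smul_left] at e1
    rw [a3_smul] at e2
    rw [C.cr_add_right, HexEss.cr_smul_right]
    simp only [Algebra.smul_def, map_mul, map_pow, map_add] at e1 e2 ⊢
    linear_combination e1 + e2 + (algebraMap F K f ^ 2 * algebraMap F K μ * C.sh (A1 t) +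
      algebraMap F K f * algebraMap F K μ * C.sh (A1 t) - g (algebraMap F K f * t)) * h2
  have hD2 : ∀ t, A3 (C.sh t) + μ • C.sh (A1 t) = 0 := by
    intro t
    have e1 := hD1 (f • t)
    have e2 := hD1 t
    rw [C.sh_smul, a3_smul, a1_smul, C.sh_smul, HexEss.cr_smul_left, ← e2] at e1
    simp only [Algebra.smul_def, map_pow, map_add] at e1
    have e3 : algebraMap F K ((f ^ 2 + f) * (f ^ 2 + f)) * (A3 (C.sh t) + μ • C.sh (A1 t)) = 0 := by
      simp only [Algebra.smul_def, map_mul, map_pow, map_add]
      linear_combination e1 + (algebraMap F K f ^ 2 + algebraMap F K f) * algebraMap F K f *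
        (A3 (C.sh t) + algebraMap F K μ * C.sh (A1 t)) * h2
    rcases mul_eq_zero.1 e3 with h | h
    · exact absurd h ((map_ne_zero _).2 (mul_ne_zero hff hff))
    · exact h
  have hD : ∀ t, A3 (C.sh t) = μ • C.sh (A1 t) := fun t => C.eq_of_add_eq_zeroK (hD2 t)
  have hN : ∀ t, C.N t = μ ^ 2 * C.N (A1 t) := by
    intro t
    rw [← C.T_self_sh t, hT, hD, C.T_smul_right, C.T_self_sh]
    ring
  set α := A1 1 with hαdef
  have hsα : C.sh α ≠ 0 := C.sh_ne_zero hα
  have hμK : algebraMap F K μ ≠ 0 := (map_ne_zero _).2 hμ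
  have hNα : algebraMap F K μ ^ 2 * (α * C.sh α) = 1 := by
    have := hN 1
    rw [C.N_one] at this
    rw [← C.N_map, ← map_pow, ← map_mul, ← this, map_one]
  -- normalised maps
  have key : ∀ t, A3 t / (algebraMap F K μ * C.sh α) = A1 t / α := by
    have hTT : ∀ r s, C.tr (A1 r / α * (A3 s / (algebraMap F K μ * C.sh α))) = C.tr (r * s) := by
      intro r s
      have e1 : A1 r / α * (A3 s / (algebraMap F K μ * C.sh α)) = μ • (A1 r * A3 s) := by
        rw [Algebra.smul_def]
        field_simp
        linear_combination -(A1 r * A3 s) * hNα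
      rw [e1, map_smul, smul_eq_mul]
      exact (hT r s).symm
    have hA31 : A3 1 = algebraMap F K μ * C.sh α := by
      have := hD 1
      rw [C.sh_one, Algebra.smul_def] at this
      exact this
    have htr1 : ∀ t, C.tr (A1 t / α) = C.tr t := by
      intro t
      have := hTT t 1
      rw [hA31, div_self (mul_ne_zero hμK hsα), mul_one, mul_one] at this
      exact this
    -- polarise
    have hpol : ∀ r s, A3 (C.cr r s) = μ • C.cr (A1 r) (A1 s) := by
      intro r s
      have e1 := hD (r + s)
      rw [C.sh_add', a1_add, C.sh_add', a3_add, a3_add, hD, hD] at e1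
      rw [smul_add, smul_add] at e1
      linear_combination e1
    intro t
    have e1 := hpol t 1
    rw [cr_one C ⟨f, hf0, hf1⟩, a3_add] at e1
    have e2 : C.cr (A1 t) (A1 1) = C.sh α * (A1 t / α + algebraMap F K (C.tr t)) := by
      have e3 : A1 t = α * (A1 t / α) := by field_simp
      have e4 : A1 1 = α * 1 := by rw [mul_one]
      conv_lhs => rw [e3, e4]
      rw [C.cr_mul, cr_one C ⟨f, hf0, hf1⟩, htr1]
    rw [e2] at e1
    have e5 : A3 (algebraMap F K (C.tr t)) = algebraMap F K (C.tr t) * (algebraMap F K μ * C.sh α) := by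
      have : algebraMap F K (C.tr t) = (C.tr t) • (1 : K) := by rw [Algebra.smul_def, mul_one]
      conv_lhs => rw [this]
      rw [a3_smul, hA31, Algebra.smul_def]
    rw [e5, Algebra.smul_def] at e1
    have e6 : A3 t = (algebraMap F K μ * C.sh α) * (A1 t / α) := by linear_combination e1
    rw [e6]
    field_simp
  have hsh : ∀ t, A1 (C.sh t) / α = C.sh (A1 t / α) := by
    intro t
    rw [← key, hD, Algebra.smul_def]
    have e3 : A1 t = α * (A1 t / α) := by field_simp
    conv_lhs => rw [e3]
    rw [C.sh_mul]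
    field_simp
  have hN' : ∀ t, C.N (A1 t / α) = C.N t := by
    intro t
    have e1 : C.N (A1 t) = C.N α * C.N (A1 t / α) := by
      rw [← C.N_mul]; congr 1; field_simp
    have e2 := hN t
    have e3 := hN 1
    rw [C.N_one] at e3
    rw [e1] at e2
    linear_combination -e2 + C.N (A1 t / α) * e3
  have := HexEss.charPK C
  have hm := hua (fun t => A1 t / α) (fun s t => by simp only [a1_add, add_div])
    (div_self hα) (by
      intro t ht
      have hNt : C.N t ≠ 0 := C.N_ne_zero ht
      have e1 : t⁻¹ = (C.N t)⁻¹ • C.sh t := by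
        rw [Algebra.smul_def, map_inv₀, C.N_map]
        have := C.sh_ne_zero ht
        field_simp
      have ht' : A1 t / α ≠ 0 := by
        refine div_ne_zero (fun h => ht (a1_inj (h.trans a1_zero.symm))) hα
      rw [e1, a1_smul, Algebra.smul_def, mul_div_assoc, hsh, map_inv₀, ← hN', C.N_map]
      have := C.sh_ne_zero ht'
      generalize A1 t / α = x at *
      field_simp)
  refine ⟨hα, ?_, hm⟩
  rw [← hN, C.N_one]

end Cfsg.Agent.HexRec.TorAlg
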