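import Mathlib
import Cfsg.Agent.S0001
import Cfsg.Agent.Schreier.Tools2
import Cfsg.Agent.S0014

/-!
# Conjugacy of two lifts of an odd group of automorphisms
-/

set_option autoImplicit false

namespace Cfsg.Agent.HexRec.TorConj

open Pointwise in
/-- Two homomorphisms from a group of odd order that agree modulo a `2`-subgroup `N` are conjugate by an element
of `N`. -/
theorem conj_hom {A T : Type*} [Group A] [Finite A] [Group T] [Finite T] (hT : Odd (Nat.card T)) {N : Subgroup A}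
    (hN : IsPGroup 2 N) (ψ1 ψ2 : T →* A) (hn : ∀ t, ∀ n ∈ N, ψ2 t * n * (ψ2 t)⁻¹ ∈ N)
    (h12 : ∀ t, ψ1 t * (ψ2 t)⁻¹ ∈ N) : ∃ n ∈ N, ∀ t, ψ1 t = n * ψ2 t * n⁻¹ := by
  classical
  -- elements of odd order in `N`
  have hodd : ∀ x ∈ N, x ^ Nat.card T = 1 → x = 1 := by
    intro x hx h1
    obtain ⟨k, hk⟩ := hN ⟨x, hx⟩
    have h2 : x ^ 2 ^ k = 1 := congrArg Subtype.val hk
    have h3 : orderOf x ∣ Nat.gcd (Nat.card T) (2 ^ k) :=
      Nat.dvd_gcd (orderOf_dvd_of_pow_eq_one h1) (orderOf_dvd_of_pow_eq_one h2)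
    have h4 : Nat.gcd (Nat.card T) (2 ^ k) = 1 := by
      have := (Nat.coprime_two_right.2 hT).pow_right k
      exact this
    rw [h4, Nat.dvd_one, orderOf_eq_one_iff] at h3
    exact h3
  have hpow : ∀ (ψ : T →* A) t, ψ t ^ Nat.card T = 1 := by
    intro ψ t
    rw [← map_pow, pow_card_eq_one', map_one]
  set H : Subgroup A := ψ2.range with hH
  set K : Subgroup A := ψ1.range with hK
  set Γ : Subgroup A := N ⊔ H with hΓ
  have hNΓ : N ≤ Γ := le_sup_left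
  have hHΓ : H ≤ Γ := le_sup_right
  have hle : Γ ≤ Subgroup.normalizer (N : Set A) := by
    rw [hΓ, sup_le_iff]
    refine ⟨Subgroup.le_normalizer, ?_⟩
    rintro _ ⟨t, rfl⟩
    rw [Subgroup.mem_normalizer_iff]
    intro q
    constructor
    · exact hn t q
    · intro hq
      have := hn t⁻¹ _ hq
      have e : ψ2 t⁻¹ * (ψ2 t * q * (ψ2 t)⁻¹) * (ψ2 t⁻¹)⁻¹ = q := by rw [map_inv]; group
      rwa [e] at this
  have hKΓ : K ≤ Γ := by
    rintro _ ⟨t, rfl⟩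
    have e : ψ1 t = (ψ1 t * (ψ2 t)⁻¹) * ψ2 t := by group
    rw [e]
    exact mul_mem (hNΓ (h12 t)) (hHΓ ⟨t, rfl⟩)
  have hNK : N ⊔ K = Γ := by
    apply le_antisymm (sup_le hNΓ hKΓ)
    apply sup_le le_sup_left
    rintro _ ⟨t, rfl⟩
    have e : ψ2 t = (ψ1 t * (ψ2 t)⁻¹)⁻¹ * ψ1 t := by group
    rw [e]
    exact mul_mem (Subgroup.mem_sup_left (inv_mem (h12 t))) (Subgroup.mem_sup_right ⟨t, rfl⟩)
  let M : Subgroup Γ := N.subgroupOf Γ
  have hM : M.Normal := Subgroup.normal_subgroupOf_iff_le_normalizer hNΓ |>.2 hle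
  have dis : ∀ (ψ : T →* A), Disjoint M (ψ.range.subgroupOf Γ) := by
    intro ψ
    rw [disjoint_iff, Subgroup.eq_bot_iff_forall]
    rintro x ⟨hx1, hx2⟩
    have hx1' : (x : A) ∈ N := hx1
    obtain ⟨t, ht⟩ : (x : A) ∈ ψ.range := hx2
    apply Subtype.ext
    exact hodd _ hx1' (by rw [← ht]; exact hpow ψ t)
  have compH : Subgroup.IsComplement' M (H.subgroupOf Γ) := by
    apply Subgroup.isComplement'_of_disjoint_and_mul_eq_univ (dis ψ2)
    rw [← Subgroup.normal_mul, ← Subgroup.subgroupOf_sup hNΓ hHΓ, Subgroup.subgroupOf_self]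
    rfl
  have compK : Subgroup.IsComplement' M (K.subgroupOf Γ) := by
    apply Subgroup.isComplement'_of_disjoint_and_mul_eq_univ (dis ψ1)
    rw [← Subgroup.normal_mul, ← Subgroup.subgroupOf_sup hNΓ hKΓ, hNK, Subgroup.subgroupOf_self]
    rfl
  have cM : Nat.card M = Nat.card N := Nat.card_congr (Subgroup.subgroupOfEquivOfLe hNΓ).toEquiv
  have cH : Nat.card (H.subgroupOf Γ) = Nat.card H := Nat.card_congr (Subgroup.subgroupOfEquivOfLe hHΓ).toEquiv
  have hi : M.index = Nat.card H := by rw [compH.symm.index_eq_card, cH]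
  have hHodd : Odd (Nat.card H) := by
    have h1 : Nat.card H ∣ Nat.card T := Subgroup.card_range_dvd ψ2
    exact Odd.of_dvd_nat hT h1
  obtain ⟨m, hm⟩ := (IsPGroup.iff_card).1 hN
  have hcop : (Nat.card M).Coprime M.index := by
    rw [hi, cM, hm]; exact (Nat.coprime_two_left.2 hHodd).pow_left m
  have := hN.isNilpotent
  obtain ⟨g, hg⟩ := Cfsg.Agent.S0001.result M hcop
    (Or.inl (by
      have : Group.IsSolvable N := inferInstance
      exact Group.isSolvable_of_isSolvable_injective (f := (Subgroup.subgroupOfEquivOfLe hNΓ).toMonoidHom)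
        (Subgroup.subgroupOfEquivOfLe hNΓ).injective)) _ _ compK compH
  obtain ⟨⟨⟨h0, hh0⟩, ⟨q0, hq0⟩⟩, hgh⟩ := compH.symm.2 g
  have hq0' : (q0 : A) ∈ N := hq0
  have hh0' : (h0 : A) ∈ H := hh0
  have key : ∀ t, (q0 : A) * ψ1 t * (q0 : A)⁻¹ = ψ2 t := by
    intro t
    have h1 : (⟨ψ1 t, hKΓ ⟨t, rfl⟩⟩ : Γ) ∈ K.subgroupOf Γ := ⟨t, rfl⟩
    have h2 := Subgroup.smul_mem_pointwise_smul _ (MulAut.conj g) _ h1
    rw [hg] at h2
    have h3 : (g : A) * ψ1 t * (g : A)⁻¹ ∈ H := h2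
    have h4 : (g : A) = h0 * q0 := by rw [← hgh]; rfl
    rw [h4] at h3
    have h5 := mul_mem (mul_mem (inv_mem hh0') h3) hh0'
    have e : (h0 : A)⁻¹ * (h0 * q0 * ψ1 t * (h0 * q0 : A)⁻¹) * h0 = q0 * ψ1 t * (q0 : A)⁻¹ := by group
    rw [e] at h5
    obtain ⟨t', ht'⟩ := h5
    have h6 : ψ2 (t' * t⁻¹) ∈ N := by
      have e2 : ψ2 (t' * t⁻¹) = q0 * (ψ1 t * (ψ2 t)⁻¹) * (ψ2 t * (q0 : A)⁻¹ * (ψ2 t)⁻¹) := by
        rw [map_mul, map_inv, ht']; group
      rw [e2]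
      exact mul_mem (mul_mem hq0' (h12 t)) (hn t _ (inv_mem hq0'))
    have h7 := hodd _ h6 (hpow ψ2 _)
    rw [map_mul, map_inv, mul_inv_eq_one] at h7
    rw [← ht', h7]
  refine ⟨(q0 : A)⁻¹, inv_mem hq0', fun t => ?_⟩
  rw [← key t]; group

end Cfsg.Agent.HexRec.TorConj
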