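import Cfsg.Agent.HexRec.TorOne
import Cfsg.Agent.HexRec.TorConj

/-!
# Graded automorphisms and the Frattini subgroup of a hexagonal 2-group
-/

set_option autoImplicit false
set_option linter.unusedSectionVars false
set_option linter.unusedVariables false

namespace Cfsg.Agent.HexRec.TorAut

open Cfsg.Agent.HexRec Cfsg.Agent.HexEss Subgroup Matrix TorHalf TorSec TorIn TorY TorR TorOne
open Cfsg.Agent.ClassTwo.Sp4Defs Cfsg.Agent.ClassTwo.Sp4SL2

variable {F K : Type*} [Field F] [Field K] [Algebra F K] {C : Cubic F K}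

/-- the graded action on coordinates -/
def gr (C : Cubic F K) (p : Kˣ × Fˣ) (t : Tup F K) : Tup F K :=
  ⟨p.1 * t.a1, C.N p.1 * p.2 * t.a2, C.sh p.1 * algebraMap F K p.2 * t.a3, C.N p.1 * p.2 ^ 2 * t.a4,
    p.1 * algebraMap F K p.2 * t.a5, p.2 * t.a6⟩

theorem T_sc {x y : K} {c : F} (h : x * y = algebraMap F K c) (a b : K) : C.T (x * a) (y * b) = c * C.T a b := by
  unfold Cubic.T
  have : x * a * (y * b) = c • (a * b) := by rw [Algebra.smul_def, ← h]; ring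
  rw [this, map_smul, smul_eq_mul]

theorem gr_hom (p : Kˣ × Fˣ) (a b : Tup F K) : gr C p (C.mul a b) = C.mul (gr C p a) (gr C p b) := by
  obtain ⟨α, m⟩ := p
  have hN := C.N_map (α : K)
  apply Tup.ext
  · change (α : K) * (a.a1 + b.a1) = α * a.a1 + α * b.a1
    ring
  · change C.N α * m * (a.a2 + b.a2 + a.a6 * C.N b.a1 + C.T b.a1 a.a3 + C.T (C.sh b.a1) a.a5) =
      C.N α * m * a.a2 + C.N α * m * b.a2 + m * a.a6 * C.N (α * b.a1) +
        C.T (α * b.a1) (C.sh α * algebraMap F K m * a.a3) +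
        C.T (C.sh (α * b.a1)) (α * algebraMap F K m * a.a5)
    have e1 : C.T (α * b.a1) (C.sh α * algebraMap F K m * a.a3) = C.N α * m * C.T b.a1 a.a3 :=
      T_sc (by rw [map_mul, hN]; ring) _ _
    have e2 : C.T (C.sh (α * b.a1)) (α * algebraMap F K m * a.a5) = C.N α * m * C.T (C.sh b.a1) a.a5 := by
      rw [C.sh_mul]
      exact T_sc (by rw [map_mul, hN]; ring) _ _
    rw [e1, e2, C.N_mul]; ring
  · change C.sh α * algebraMap F K m * (a.a3 + b.a3 + a.a6 • C.sh b.a1 + C.cr b.a1 a.a5) =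
      C.sh α * algebraMap F K m * a.a3 + C.sh α * algebraMap F K m * b.a3 +
        (m * a.a6) • C.sh (α * b.a1) + C.cr (α * b.a1) (α * algebraMap F K m * a.a5)
    have e1 : C.cr (α * b.a1) (α * algebraMap F K m * a.a5) = C.sh α * (algebraMap F K m * C.cr b.a1 a.a5) := by
      rw [mul_assoc, C.cr_mul, ← Algebra.smul_def, cr_smul_right, Algebra.smul_def]
    rw [e1, C.sh_mul, Algebra.smul_def, Algebra.smul_def, map_mul]; ring
  · change C.N α * m ^ 2 * (a.a4 + b.a4 + a.a6 ^ 2 * C.N b.a1 + C.T b.a1 (C.sh a.a5) + a.a6 * b.a2 +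
      a.a6 * C.T (C.sh b.a1) a.a5 + C.T b.a3 a.a5 + a.a6 * C.T b.a3 b.a1) =
      C.N α * m ^ 2 * a.a4 + C.N α * m ^ 2 * b.a4 + (m * a.a6) ^ 2 * C.N (α * b.a1) +
        C.T (α * b.a1) (C.sh (α * algebraMap F K m * a.a5)) + (m * a.a6) * (C.N α * m * b.a2) +
        (m * a.a6) * C.T (C.sh (α * b.a1)) (α * algebraMap F K m * a.a5) +
        C.T (C.sh α * algebraMap F K m * b.a3) (α * algebraMap F K m * a.a5) +
        (m * a.a6) * C.T (C.sh α * algebraMap F K m * b.a3) (α * b.a1)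
    have e1 : C.T (α * b.a1) (C.sh (α * algebraMap F K m * a.a5)) = C.N α * m ^ 2 * C.T b.a1 (C.sh a.a5) := by
      rw [C.sh_mul, C.sh_mul, C.sh_map]
      exact T_sc (by rw [map_mul, map_pow, hN]; ring) _ _
    have e2 : C.T (C.sh (α * b.a1)) (α * algebraMap F K m * a.a5) = C.N α * m * C.T (C.sh b.a1) a.a5 := by
      rw [C.sh_mul]
      exact T_sc (by rw [map_mul, hN]; ring) _ _
    have e3 : C.T (C.sh α * algebraMap F K m * b.a3) (α * algebraMap F K m * a.a5) =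
        C.N α * m ^ 2 * C.T b.a3 a.a5 := T_sc (by rw [map_mul, map_pow, hN]; ring) _ _
    have e4 : C.T (C.sh α * algebraMap F K m * b.a3) (α * b.a1) = C.N α * m * C.T b.a3 b.a1 :=
      T_sc (by rw [map_mul, hN]; ring) _ _
    rw [e1, e2, e3, e4, C.N_mul]; ring
  · change (α : K) * algebraMap F K m * (a.a5 + b.a5 + a.a6 • b.a1) =
      α * algebraMap F K m * a.a5 + α * algebraMap F K m * b.a5 + (m * a.a6) • (α * b.a1)
    rw [Algebra.smul_def, Algebra.smul_def, map_mul]; ring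
  · change (m : F) * (a.a6 + b.a6) = m * a.a6 + m * b.a6
    ring

theorem gr_mul (p q : Kˣ × Fˣ) (t : Tup F K) : gr C (p * q) t = gr C p (gr C q t) := by
  obtain ⟨α, m⟩ := p
  obtain ⟨β, n⟩ := q
  apply Tup.ext
  · change ((α * β : Kˣ) : K) * t.a1 = α * (β * t.a1)
    push_cast; ring
  · change C.N ((α * β : Kˣ) : K) * ((m * n : Fˣ) : F) * t.a2 = C.N α * m * (C.N β * n * t.a2)
    push_cast; rw [C.N_mul]; ring
  · change C.sh ((α * β : Kˣ) : K) * algebraMap F K ((m * n : Fˣ) : F) * t.a3 =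
      C.sh α * algebraMap F K m * (C.sh β * algebraMap F K n * t.a3)
    rw [Units.val_mul, Units.val_mul, C.sh_mul, map_mul]; ring
  · change C.N ((α * β : Kˣ) : K) * ((m * n : Fˣ) : F) ^ 2 * t.a4 = C.N α * m ^ 2 * (C.N β * n ^ 2 * t.a4)
    push_cast; rw [C.N_mul]; ring
  · change ((α * β : Kˣ) : K) * algebraMap F K ((m * n : Fˣ) : F) * t.a5 =
      α * algebraMap F K m * (β * algebraMap F K n * t.a5)
    rw [Units.val_mul, Units.val_mul, map_mul]; ring
  · change ((m * n : Fˣ) : F) * t.a6 = m * (n * t.a6)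
    push_cast; ring

theorem gr_one (t : Tup F K) : gr C 1 t = t := by
  apply Tup.ext
  · change ((1 : Kˣ) : K) * t.a1 = t.a1
    simp
  · change C.N ((1 : Kˣ) : K) * ((1 : Fˣ) : F) * t.a2 = t.a2
    simp [C.N_one]
  · change C.sh ((1 : Kˣ) : K) * algebraMap F K ((1 : Fˣ) : F) * t.a3 = t.a3
    simp [C.sh_one]
  · change C.N ((1 : Kˣ) : K) * ((1 : Fˣ) : F) ^ 2 * t.a4 = t.a4
    simp [C.N_one]
  · change ((1 : Kˣ) : K) * algebraMap F K ((1 : Fˣ) : F) * t.a5 = t.a5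
    simp
  · change ((1 : Fˣ) : F) * t.a6 = t.a6
    simp

/-- the graded torus in the automorphism group -/
def gt {S : Type*} [Group S] (E : Coord C S) : Kˣ × Fˣ →* MulAut S where
  toFun p :=
    { toFun := fun s => E.e.symm (gr C p (E.e s))
      invFun := fun s => E.e.symm (gr C p⁻¹ (E.e s))
      left_inv := fun s => by
        simp only
        rw [Equiv.apply_symm_apply, ← gr_mul, inv_mul_cancel, gr_one, Equiv.symm_apply_apply]
      right_inv := fun s => by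
        simp only
        rw [Equiv.apply_symm_apply, ← gr_mul, mul_inv_cancel, gr_one, Equiv.symm_apply_apply]
      map_mul' := fun s t => by
        apply E.e.injective
        rw [Equiv.apply_symm_apply, E.map_mul, E.map_mul, Equiv.apply_symm_apply, Equiv.apply_symm_apply, gr_hom] }
  map_one' := by
    ext s
    change E.e.symm (gr C 1 (E.e s)) = s
    rw [gr_one, Equiv.symm_apply_apply]
  map_mul' p q := by
    ext s
    change E.e.symm (gr C (p * q) (E.e s)) = E.e.symm (gr C p (E.e (E.e.symm (gr C q (E.e s)))))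
    rw [Equiv.apply_symm_apply, gr_mul]

theorem e_gt {S : Type*} [Group S] (E : Coord C S) (p : Kˣ × Fˣ) (s : S) : E.e (gt E p s) = gr C p (E.e s) :=
  E.e.apply_symm_apply _

section frat

variable {G : Type*} [Group G] [Finite G] {S : Subgroup G} (E : Coord C S)

theorem M_le {V : Type*} [AddCommGroup V] (X : Pc G V) {W : Subgroup G}
    (hN : X.N ≤ W) (h : ∀ v, ∃ c ∈ X.M, c ∈ W ∧ X.α c = v) : X.M ≤ W := by
  intro g hg
  obtain ⟨c, hcM, hcW, hc⟩ := h (X.α g)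
  have h1 : g * c⁻¹ ∈ X.N := by
    rw [X.ker]
    refine ⟨mul_mem hg (inv_mem hcM), ?_⟩
    rw [X.add _ hg _ (inv_mem hcM), X.α_inv hcM, hc, add_neg_cancel]
  have h2 := mul_mem (hN h1) hcW
  have h3 : g * c⁻¹ * c = g := by group
  rwa [h3] at h2

theorem RR_le_of_comm (hq : ∃ f : F, f ≠ 0 ∧ f ≠ 1) {W : Subgroup G}
    (hW : ∀ g ∈ S, ∀ h ∈ S, cm g h ∈ W) : RR E ≤ W := by
  have h2 := C.two_F
  have hZ : Z E ≤ W := by
    apply M_le (pc4 E) (by rw [show (pc4 E).N = ⊥ from rfl]; exact bot_le)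
    intro v
    have m2 : (E.x2 1 : G) ∈ E2 E := (pc2 E).x_mem 1
    refine ⟨cm (E.x6 v : G) (E.x2 1), cm_mem_Z (E.x6 v).2 m2, hW _ (E.x6 v).2 _ (E.x2 1).2, ?_⟩
    change (cx E _).a4 = v
    rw [a4_cm_F0 (E.x6 v).2 (E.x2 1).2 m2.2.1 m2.2.2.2.1 m2.2.2.2.2, cx_x6, cx_x2]; simp [C.T_zero_left]
  have hE2 : E2 E ≤ W := by
    apply M_le (pc2 E) hZ
    intro v
    obtain ⟨b, hb⟩ := C.exists_T_eq (one_ne_zero (α := K)) v
    have m3 : (E.x3 b : G) ∈ F0 E := (pc3 E).x_mem b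
    refine ⟨cm (E.x1 1 : G) (E.x3 b), cm_mem_E2 (E.x1 1).2 m3, hW _ (E.x1 1).2 _ (E.x3 b).2, ?_⟩
    change (cx E _).a2 = v
    rw [a2_cm_F0 (E.x1 1).2 (E.x3 b).2 m3.2.1 m3.2.2.1 m3.2.2.2, cx_x1, cx_x3]
    exact hb
  have c5 : ∀ (t : K) (s : F), (cx E (cm (E.x1 t : G) (E.x6 s))).a5 = s • t := by
    intro t s
    rw [a5_cm (E.x1 t).2 (E.x6 s).2, cx_x1, cx_x6]; simp
  have c3 : ∀ (t : K) (s : F), (cx E (cm (E.x1 t : G) (E.x6 s))).a3 = s • C.sh t := by
    intro t s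
    rw [a3_cm_Da (E.x1 t).2 (E.x6 s).2 (by rw [cx_x6]), cx_x1, cx_x6, C.cr_zero_right, add_zero]
  have hF0 : F0 E ≤ W := by
    apply M_le (pc3 E) hE2
    intro v
    by_cases hv : v = 0
    · refine ⟨1, one_mem _, one_mem _, ?_⟩
      change (cx E 1).a3 = v
      rw [cx_one, hv]
    obtain ⟨f, hf0, hf1⟩ := hq
    have hN := C.N_ne_zero hv
    have hf2 : f + 1 ≠ 0 := by
      intro h
      apply hf1
      linear_combination h - h2
    set s : F := ((f + 1) * C.N v)⁻¹ with hs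
    set t : K := C.sh v with ht
    have hcR : ∀ (t : K) (s : F), cm (E.x1 t : G) (E.x6 s) ∈ RR E := fun t s => cm_mem_RR (E.x1 t).2 (E.x6 s).2
    have r1 := hcR t s
    have r2 := hcR (f • t) (f⁻¹ * s)
    have e5 : (cx E (cm (E.x1 t : G) (E.x6 s) * cm (E.x1 (f • t) : G) (E.x6 (f⁻¹ * s)))).a5 = 0 := by
      rw [a5_mul r1.1 r2.1, c5, c5, r1.2.2, zero_smul, add_zero, smul_smul]
      have : f⁻¹ * s * f = s := by field_simp
      rw [this, C.add_selfK]
    have e3 : (cx E (cm (E.x1 t : G) (E.x6 s) * cm (E.x1 (f • t) : G) (E.x6 (f⁻¹ * s)))).a3 = v := by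
      rw [a3_mul r1.1 r2.1, c3, c3, r1.2.2, zero_smul, r2.2.1, C.cr_zero_left, add_zero, add_zero, C.sh_smul,
        smul_smul, ← add_smul, ht, C.sh_sh v hv, ← Algebra.smul_def, smul_smul]
      have : (s + f⁻¹ * s * f ^ 2) * C.N v = 1 := by
        rw [hs]; field_simp; ring
      rw [this, one_smul]
    have r12 := mul_mem r1 r2
    refine ⟨_, ⟨r12.1, r12.2.1, e5, r12.2.2⟩, mul_mem (hW _ (E.x1 _).2 _ (E.x6 _).2)
      (hW _ (E.x1 _).2 _ (E.x6 _).2), e3⟩
  apply M_le (pc5 E) hF0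
  intro v
  refine ⟨cm (E.x1 v : G) (E.x6 1), cm_mem_RR (E.x1 v).2 (E.x6 1).2, hW _ (E.x1 v).2 _ (E.x6 1).2, ?_⟩
  change (cx E _).a5 = v
  rw [c5, one_smul]

/-- automorphisms of `S` trivial modulo `RR` -/
def KN : Subgroup (MulAut S) where
  carrier := {φ | ∀ s : S, ((φ s * s⁻¹ : S) : G) ∈ RR E}
  one_mem' := fun s => by
    change ((s * s⁻¹ : S) : G) ∈ RR E
    rw [mul_inv_cancel]; exact one_mem _
  mul_mem' := by
    intro φ ψ hφ hψ s
    have h1 : ∀ x : S, (x : G) ∈ RR E → ((φ x : S) : G) ∈ RR E := by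
      intro x hx
      have h2 := mul_mem (hφ x) hx
      rw [← Subgroup.coe_mul, inv_mul_cancel_right] at h2
      exact h2
    have h2 := mul_mem (h1 _ (hψ s)) (hφ s)
    rw [← Subgroup.coe_mul] at h2
    have h3 : φ (ψ s * s⁻¹) * (φ s * s⁻¹) = (φ * ψ) s * s⁻¹ := by
      rw [map_mul, map_inv, MulAut.mul_apply]; group
    rwa [h3] at h2
  inv_mem' := by
    intro φ hφ s
    have h1 := hφ (φ⁻¹ s)
    rw [MulAut.apply_inv_self] at h1
    have h2 := inv_mem h1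
    have h3 : ((φ⁻¹ s * s⁻¹ : S) : G) = ((s * (φ⁻¹ s)⁻¹ : S) : G)⁻¹ := by
      rw [← Subgroup.coe_inv]
      congr 1
      group
    rw [h3]; exact h2

theorem mem_KN {φ : MulAut S} : φ ∈ KN E ↔ ∀ s : S, ((φ s * s⁻¹ : S) : G) ∈ RR E := Iff.rfl

theorem KN_isPGroup (hS : IsPGroup 2 S) (hq : ∃ f : F, f ≠ 0 ∧ f ≠ 1) : IsPGroup 2 (KN E) := by
  have hfr : RR E ≤ (frattini S).map S.subtype := by
    apply RR_le_of_comm E hq
    intro g hg h hh
    exact ⟨_, Cfsg.Agent.S0014.commutator_mem_frattini hS ⟨g, hg⟩ ⟨h, hh⟩, rfl⟩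
  apply Cfsg.Agent.Schreier.Tools2.isPGroup_of_trivial_mod_frattini hS
  intro φ hφ t
  obtain ⟨x, hx, hxt⟩ := hfr (hφ t)
  have : x = φ t * t⁻¹ := Subtype.ext hxt
  rwa [this] at hx

end frat

end Cfsg.Agent.HexRec.TorAut
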