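import Cfsg.Agent.HexRec.TorAut

/-!
# The common Borel subgroup and its torus
-/

set_option autoImplicit false
set_option linter.unusedSectionVars false
set_option linter.unusedVariables false

namespace Cfsg.Agent.HexRec.TorBor

open Cfsg.Agent.HexRec Cfsg.Agent.HexEss Subgroup Matrix TorHalf TorSec TorIn TorY TorR TorOne TorAut
open Cfsg.Agent.ClassTwo.Sp4Defs Cfsg.Agent.ClassTwo.Sp4SL2

variable {F K : Type*} [Field F] [Field K] [Algebra F K] {C : Cubic F K} {G : Type*} [Group G] [Finite G]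

/-- `x` acts on the sections `1`, `6` by the scalars `p` -/
structure Acts {S : Subgroup G} (E : Coord C S) (x : G) (p : Kˣ × Fˣ) : Prop where
  pS : Pres x S
  pa : Pres x (Da E)
  pb : Pres x (Db E)
  a1 : ∀ g ∈ S, (cx E (x * g * x⁻¹)).a1 = p.1 * (cx E g).a1
  a6 : ∀ g ∈ S, (cx E (x * g * x⁻¹)).a6 = p.2 * (cx E g).a6

variable {S : Subgroup G} {E : Coord C S}

theorem Acts.mul {x y : G} {p q : Kˣ × Fˣ} (hx : Acts E x p) (hy : Acts E y q) : Acts E (x * y) (p * q) where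
  pS := hx.pS.mul hy.pS
  pa := hx.pa.mul hy.pa
  pb := hx.pb.mul hy.pb
  a1 g hg := by
    have e : x * y * g * (x * y)⁻¹ = x * (y * g * y⁻¹) * x⁻¹ := by group
    rw [e, hx.a1 _ (hy.pS g hg), hy.a1 g hg, Prod.fst_mul, Units.val_mul, mul_assoc]
  a6 g hg := by
    have e : x * y * g * (x * y)⁻¹ = x * (y * g * y⁻¹) * x⁻¹ := by group
    rw [e, hx.a6 _ (hy.pS g hg), hy.a6 g hg, Prod.snd_mul, Units.val_mul, mul_assoc]

theorem Acts.one : Acts E 1 1 where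
  pS := Pres.one _
  pa := Pres.one _
  pb := Pres.one _
  a1 g hg := by simp
  a6 g hg := by simp

theorem Acts.unique {x : G} {p q : Kˣ × Fˣ} (hx : Acts E x p) (hy : Acts E x q) : p = q := by
  apply Prod.ext
  · apply Units.ext
    have h1 := hx.a1 _ (E.x1 1).2
    rw [hy.a1 _ (E.x1 1).2, cx_x1, mul_one, mul_one] at h1
    exact h1.symm
  · apply Units.ext
    have h1 := hx.a6 _ (E.x6 1).2
    rw [hy.a6 _ (E.x6 1).2, cx_x6, mul_one, mul_one] at h1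
    exact h1.symm

theorem Acts.inv {x : G} {p : Kˣ × Fˣ} (hx : Acts E x p) : Acts E x⁻¹ p⁻¹ where
  pS := hx.pS.inv
  pa := hx.pa.inv
  pb := hx.pb.inv
  a1 g hg := by
    have h1 := hx.a1 _ (hx.pS.inv g hg)
    have e : x * (x⁻¹ * g * x⁻¹⁻¹) * x⁻¹ = g := by group
    rw [e] at h1
    rw [h1, Prod.fst_inv, ← mul_assoc, ← Units.val_mul, inv_mul_cancel, Units.val_one, one_mul]
  a6 g hg := by
    have h1 := hx.a6 _ (hx.pS.inv g hg)
    have e : x * (x⁻¹ * g * x⁻¹⁻¹) * x⁻¹ = g := by group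
    rw [e] at h1
    rw [h1, Prod.snd_inv, ← mul_assoc, ← Units.val_mul, inv_mul_cancel, Units.val_one, one_mul]

theorem acts_of_mem {x : G} (hx : x ∈ S) : Acts E x 1 where
  pS := pres_of_mem hx
  pa g hg := ⟨mul_mem (mul_mem hx hg.1) (inv_mem hx), by
    have h1 := a1_mul (co := E) (mul_mem hx hg.1) (inv_mem hx)
    have h2 := a1_mul (co := E) hx hg.1
    have h3 := a1_mul (co := E) hx (inv_mem hx)
    rw [mul_inv_cancel, cx_one] at h3
    change (cx E _).a1 = 0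
    rw [h1, h2, hg.2, add_zero, ← h3]⟩
  pb g hg := ⟨mul_mem (mul_mem hx hg.1) (inv_mem hx), by
    have h1 := a6_mul (co := E) (mul_mem hx hg.1) (inv_mem hx)
    have h2 := a6_mul (co := E) hx hg.1
    have h3 := a6_mul (co := E) hx (inv_mem hx)
    rw [mul_inv_cancel, cx_one] at h3
    change (cx E _).a6 = 0
    rw [h1, h2, hg.2, add_zero, ← h3]⟩
  a1 g hg := by
    have h1 := a1_mul (co := E) (mul_mem hx hg) (inv_mem hx)
    have h2 := a1_mul (co := E) hx hg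
    have h3 := a1_mul (co := E) hx (inv_mem hx)
    rw [mul_inv_cancel, cx_one] at h3
    simp only at h3
    rw [h1, h2, Prod.fst_one, Units.val_one]
    linear_combination -h3
  a6 g hg := by
    have h1 := a6_mul (co := E) (mul_mem hx hg) (inv_mem hx)
    have h2 := a6_mul (co := E) hx hg
    have h3 := a6_mul (co := E) hx (inv_mem hx)
    rw [mul_inv_cancel, cx_one] at h3
    simp only at h3
    rw [h1, h2, Prod.snd_one, Units.val_one]
    linear_combination -h3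

variable (P : PN C G)

/-- the Borel subgroup `(L1 ∩ N(S))(L2 ∩ N(S))` -/
def BB : Subgroup G where
  carrier := {g | ∃ b1 ∈ P.L1, Pres b1 P.S ∧ ∃ b2 ∈ P.L2, Pres b2 P.S ∧ g = b1 * b2}
  one_mem' := ⟨1, one_mem _, Pres.one _, 1, one_mem _, Pres.one _, by group⟩
  mul_mem' := by
    rintro _ _ ⟨b1, hb1, hb1S, b2, hb2, hb2S, rfl⟩ ⟨c1, hc1, hc1S, c2, hc2, hc2S, rfl⟩
    have h1 := (P.n1 c1 hc1 hc1S).2.inv _ hb2
    rw [inv_inv] at h1
    refine ⟨b1 * c1, mul_mem hb1 hc1, hb1S.mul hc1S, (c1⁻¹ * b2 * c1) * c2, mul_mem h1 hc2, ?_, by group⟩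
    exact ((hc1S.inv.mul hb2S).mul hc1S).mul hc2S
  inv_mem' := by
    rintro _ ⟨b1, hb1, hb1S, b2, hb2, hb2S, rfl⟩
    have h1 := (P.n1 b1 hb1 hb1S).2 _ (inv_mem hb2)
    exact ⟨b1⁻¹, inv_mem hb1, hb1S.inv, b1 * b2⁻¹ * b1⁻¹, h1, (hb1S.mul hb2S.inv).mul hb1S.inv, by group⟩

variable {P}

theorem mem_BB {g : G} : g ∈ BB P ↔ ∃ b1 ∈ P.L1, Pres b1 P.S ∧ ∃ b2 ∈ P.L2, Pres b2 P.S ∧ g = b1 * b2 := Iff.rfl

theorem BB_S {g : G} (hg : g ∈ BB P) : Pres g P.S := by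
  obtain ⟨b1, hb1, hb1S, b2, hb2, hb2S, rfl⟩ := hg
  exact hb1S.mul hb2S

theorem BB_L1 {g : G} (hg : g ∈ BB P) : Pres g P.L1 := by
  obtain ⟨b1, hb1, hb1S, b2, hb2, hb2S, rfl⟩ := hg
  exact (pres_of_mem hb1).mul (P.n2 b2 hb2 hb2S).2

theorem BB_L2 {g : G} (hg : g ∈ BB P) : Pres g P.L2 := by
  obtain ⟨b1, hb1, hb1S, b2, hb2, hb2S, rfl⟩ := hg
  exact (P.n1 b1 hb1 hb1S).2.mul (pres_of_mem hb2)

theorem S_le_BB : P.S ≤ BB P := fun g hg =>
  ⟨g, P.H1.le hg, pres_of_mem hg, 1, one_mem _, Pres.one _, by group⟩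

theorem L1_BB {b : G} (hb : b ∈ P.L1) (hS : Pres b P.S) : b ∈ BB P :=
  ⟨b, hb, hS, 1, one_mem _, Pres.one _, by group⟩

theorem L2_BB {b : G} (hb : b ∈ P.L2) (hS : Pres b P.S) : b ∈ BB P :=
  ⟨1, one_mem _, Pres.one _, b, hb, hS, by group⟩

variable [Finite F] [Finite K]

theorem acts_one (hR : RInv P) (hq : 4 ≤ Nat.card F) {b : G} (hb : b ∈ P.L1) (hS : Pres b P.S) :
    ∃ (α : Kˣ) (μ : Fˣ), C.Nu α * μ ^ 2 = 1 ∧ Acts P.E b (α, μ) := by
  obtain ⟨α, μ, h, h1, h6⟩ := act_one hR hq ⟨b, hb⟩ hS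
  have hn := nice_one hR hq ⟨b, hb⟩ hS
  refine ⟨α, μ, h, ⟨hS, hn.Da, hn.Db, fun g hg => ?_, fun g hg => ?_⟩⟩
  · have h2 := Pc.map_spec (X := pc1 P.E) hn.S hn.Da hg
    rw [h1] at h2
    exact h2
  · have h2 := Pc.map_spec (X := pc6 P.E) hn.S hn.Db hg
    rw [h6] at h2
    exact h2

theorem acts_two (hR : RInv P) (hq : 4 ≤ Nat.card F) {b : G} (hb : b ∈ P.L2) (hS : Pres b P.S) :
    ∃ l : Fˣ, Acts P.E b (emb F K l⁻¹, l ^ 2) := by
  obtain ⟨l, h1, h6, -⟩ := act_two hR hq ⟨b, hb⟩ hS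
  have hn := nice_two hR ⟨b, hb⟩ hS
  refine ⟨l, ⟨hS, hn.Da, hn.Db, fun g hg => ?_, fun g hg => ?_⟩⟩
  · have h2 := Pc.map_spec (X := pc1 P.E) hn.S hn.Da hg
    rw [h1] at h2
    exact h2
  · have h2 := Pc.map_spec (X := pc6 P.E) hn.S hn.Db hg
    rw [h6] at h2
    rw [Units.val_pow_eq_pow_val]
    exact h2

theorem BB_acts (hR : RInv P) (hq : 4 ≤ Nat.card F) {g : G} (hg : g ∈ BB P) : ∃ p, Acts P.E g p := by
  obtain ⟨b1, hb1, hb1S, b2, hb2, hb2S, rfl⟩ := hg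
  obtain ⟨α, μ, -, h1⟩ := acts_one hR hq hb1 hb1S
  obtain ⟨l, h2⟩ := acts_two hR hq hb2 hb2S
  exact ⟨_, h1.mul h2⟩

theorem exists_acts_one (hR : RInv P) (hq : 4 ≤ Nat.card F) (α : Kˣ) (μ : Fˣ) (h : C.Nu α * μ ^ 2 = 1) :
    ∃ b ∈ P.L1, Pres b P.S ∧ Acts P.E b (α, μ) := by
  have := charPF C
  obtain ⟨b, hbS, hb⟩ := exists_of_alpha (P := P) α
  obtain ⟨α', μ', h', ha⟩ := acts_one hR hq b.2 hbS
  have e1 : α' = α := by
    apply Units.ext
    rw [← hb]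
    have := ha.a1 _ (P.E.x1 1).2
    rw [cx_x1, mul_one] at this
    exact this.symm
  subst e1
  have e2 : (μ' * μ⁻¹) ^ 2 = 1 := by
    have : μ' ^ 2 = μ ^ 2 := mul_left_cancel (h'.trans h.symm)
    rw [mul_pow, this, inv_pow, mul_inv_cancel]
  have e3 : μ' * μ⁻¹ = 1 := sq_eq_one_unit (by rw [← Units.val_pow_eq_pow_val, e2, Units.val_one])
  rw [mul_inv_eq_one] at e3
  subst e3
  exact ⟨b, b.2, hbS, ha⟩

theorem exists_acts_two (hR : RInv P) (hq : 4 ≤ Nat.card F) (l : Fˣ) :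
    ∃ b ∈ P.L2, Pres b P.S ∧ Acts P.E b (emb F K l⁻¹, l ^ 2) := by
  have := charPF C
  obtain ⟨b, hbS, hb⟩ := exists_of_lam (P := P) l
  obtain ⟨l', ha⟩ := acts_two hR hq b.2 hbS
  have e2 : (l' * l⁻¹) ^ 2 = 1 := by
    have h1 := ha.a6 _ (P.E.x6 1).2
    have h2 : (cx P.E ((b : G) * (P.E.x6 1 : G) * (b : G)⁻¹)).a6 = (l : F) ^ 2 := hb
    rw [h2, cx_x6, mul_one] at h1
    have h3 : l ^ 2 = l' ^ 2 := by
      apply Units.ext
      rw [Units.val_pow_eq_pow_val]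
      exact h1
    rw [mul_pow, ← h3, inv_pow, mul_inv_cancel]
  have e3 : l' * l⁻¹ = 1 := sq_eq_one_unit (by rw [← Units.val_pow_eq_pow_val, e2, Units.val_one])
  rw [mul_inv_eq_one] at e3
  subst e3
  exact ⟨b, b.2, hbS, ha⟩

theorem BB_ker (hR : RInv P) (hq : 4 ≤ Nat.card F) {g : G} (hg : g ∈ BB P) (h : Acts P.E g 1) : g ∈ P.S := by
  obtain ⟨b1, hb1, hb1S, b2, hb2, hb2S, rfl⟩ := hg
  obtain ⟨α, μ, hN, h1⟩ := acts_one hR hq hb1 hb1S
  obtain ⟨l, h2⟩ := acts_two hR hq hb2 hb2S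
  have h3 := h.unique (h1.mul h2)
  have e1 : α * emb F K l⁻¹ = 1 := (congrArg Prod.fst h3).symm
  have e2 : μ * l ^ 2 = 1 := (congrArg Prod.snd h3).symm
  have e3 : α = emb F K l := by
    rw [map_inv, mul_inv_eq_one] at e1; exact e1
  have e4 : C.Nu (emb F K l) = l ^ 3 := C.Nu_map l
  have e5 : μ = (l ^ 2)⁻¹ := eq_inv_of_mul_eq_one_left e2
  have e6 : l = 1 := by
    rw [e3, e4, e5] at hN
    have : l ^ 3 * ((l ^ 2)⁻¹) ^ 2 = l⁻¹ := by
      rw [← inv_pow, ← pow_mul]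
      have : l ^ 3 * l⁻¹ ^ (2 * 2) = (l * l⁻¹) ^ 3 * l⁻¹ := by rw [mul_pow, pow_succ l⁻¹ 3, mul_assoc]
      rw [this, mul_inv_cancel, one_pow, one_mul]
    rw [this, inv_eq_one] at hN
    exact hN
  have hb1' : b1 ∈ P.S := by
    apply mem_S_one ⟨b1, hb1⟩ hb1S
    have := h1.a1 _ (P.E.x1 1).2
    rw [cx_x1, mul_one, e3, e6, map_one] at this
    exact this
  have hb2' : b2 ∈ P.S := by
    apply mem_S_two ⟨b2, hb2⟩ hb2S
    have := h2.a6 _ (P.E.x6 1).2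
    rw [cx_x6, mul_one, e6, one_pow] at this
    exact this
  exact mul_mem hb1' hb2'

theorem BB_exists (hR : RInv P) (hq : 4 ≤ Nat.card F) (p : Kˣ × Fˣ) : ∃ g ∈ BB P, Acts P.E g p := by
  have := charPF C
  obtain ⟨a, m⟩ := p
  set l : Fˣ := m ^ 2 * C.Nu a with hl
  set α : Kˣ := a * emb F K l with hα
  -- `μ = m / l²`
  have hN : C.Nu α * (m * (l ^ 2)⁻¹) ^ 2 = 1 := by
    rw [hα, map_mul, C.Nu_map]
    rw [mul_pow m, inv_pow, ← pow_mul l]
    have e1 : C.Nu a * l ^ 3 * (m ^ 2 * (l ^ (2 * 2))⁻¹) = (m ^ 2 * C.Nu a) * (l ^ 3 * (l ^ 4)⁻¹) := by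
      rw [mul_assoc, mul_comm (m ^ 2) (C.Nu a), mul_assoc]
      congr 1
      rw [mul_left_comm]
    rw [e1, ← hl]
    rw [pow_succ l 3, _root_.mul_inv_rev, mul_left_comm (l ^ 3), mul_inv_cancel, mul_one, mul_inv_cancel]
  obtain ⟨b1, hb1, hb1S, h1⟩ := exists_acts_one hR hq α _ hN
  obtain ⟨b2, hb2, hb2S, h2⟩ := exists_acts_two hR hq l
  refine ⟨b1 * b2, ⟨b1, hb1, hb1S, b2, hb2, hb2S, rfl⟩, ?_⟩
  have h3 := h1.mul h2
  have e : ((α, m * (l ^ 2)⁻¹) : Kˣ × Fˣ) * (emb F K l⁻¹, l ^ 2) = (a, m) := by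
    apply Prod.ext
    · change α * emb F K l⁻¹ = a
      rw [hα, map_inv, mul_inv_cancel_right]
    · change m * (l ^ 2)⁻¹ * l ^ 2 = m
      rw [inv_mul_cancel_right]
  rwa [e] at h3

/-- the torus -/
theorem exists_torus (hR : RInv P) (hq : 4 ≤ Nat.card F) :
    ∃ h : Kˣ × Fˣ →* G, ∀ p, h p ∈ BB P ∧ Acts P.E (h p) p := by
  classical
  choose χ0 hχ0 using fun g : BB P => BB_acts hR hq g.2
  let χ : BB P →* Kˣ × Fˣ := MonoidHom.mk' χ0 (fun g h => (hχ0 (g * h)).unique ((hχ0 g).mul (hχ0 h)))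
  have hχ : ∀ g : BB P, Acts P.E (g : G) (χ g) := hχ0
  have hsurj : Function.Surjective χ := by
    intro p
    obtain ⟨g, hg, hgp⟩ := BB_exists hR hq p
    exact ⟨⟨g, hg⟩, (hχ ⟨g, hg⟩).unique hgp⟩
  have hker : ∀ g : BB P, g ∈ χ.ker ↔ (g : G) ∈ P.S := by
    intro g
    rw [MonoidHom.mem_ker]
    constructor
    · intro h
      have := hχ g
      rw [h] at this
      exact BB_ker hR hq g.2 this
    · intro h
      exact (hχ g).unique (acts_of_mem h)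
  have cT : Odd (Nat.card (Kˣ × Fˣ)) := by
    rw [Nat.card_prod]
    obtain ⟨n, hn, hn2⟩ := C.card_K
    obtain ⟨m, hm, hm2⟩ := C.card_F
    exact (odd_card_units K n hn hn2).mul (odd_card_units F m hm hm2)
  have cN : ∃ n, Nat.card χ.ker = 2 ^ n := by
    obtain ⟨n, hn⟩ := P.E.card_eq
    refine ⟨n, ?_⟩
    rw [← hn]
    have h1 : χ.ker = P.S.subgroupOf (BB P) := by
      ext g; exact hker g
    rw [h1]
    exact Nat.card_congr (Subgroup.subgroupOfEquivOfLe (S_le_BB (P := P))).toEquiv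
  obtain ⟨n, hn⟩ := cN
  have hi : χ.ker.index = Nat.card (Kˣ × Fˣ) := by
    rw [Subgroup.index_ker]
    have : χ.range = ⊤ := MonoidHom.range_eq_top.2 hsurj
    rw [this, Subgroup.card_top]
  have hcop : Nat.Coprime (Nat.card χ.ker) χ.ker.index := by
    rw [hn, hi]
    exact (Nat.coprime_two_left.2 cT).pow_left n
  obtain ⟨H0, hH0⟩ := Subgroup.exists_right_complement'_of_coprime hcop
  have hbij : Function.Bijective (χ.comp H0.subtype) := by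
    constructor
    · rw [injective_iff_map_eq_one]
      intro x hx
      have h1 : (x : BB P) ∈ χ.ker := hx
      have h2 := Subgroup.disjoint_def.1 hH0.disjoint h1 x.2
      exact Subtype.ext h2
    · intro p
      obtain ⟨g, hg⟩ := hsurj p
      obtain ⟨⟨⟨k, hk⟩, x⟩, hkx⟩ := hH0.2 g
      refine ⟨x, ?_⟩
      change χ (x : BB P) = p
      rw [← hg, ← hkx]
      change _ = χ (k * x)
      rw [map_mul, show χ k = 1 from hk, one_mul]
  let e : H0 ≃* Kˣ × Fˣ := MulEquiv.ofBijective _ hbij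
  refine ⟨((BB P).subtype.comp H0.subtype).comp e.symm.toMonoidHom, fun p => ?_⟩
  have h1 : χ ((e.symm p : H0) : BB P) = p := e.apply_symm_apply p
  refine ⟨((e.symm p : H0) : BB P).2, ?_⟩
  have := hχ ((e.symm p : H0) : BB P)
  rw [h1] at this
  exact this

end Cfsg.Agent.HexRec.TorBor
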