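import Cfsg.Agent.ClassTwo.Sp4SL2
import Cfsg.Agent.HexRec.TorAlg

/-!
# A parabolic subgroup of rank one, normalised

`Half k L S`: a surjection `p : L → SL(2,k)` whose kernel is the kernel of an additive map `α : S → k`, normalised so
that `p s = u (f (α s))` for `s ∈ S`.
-/

set_option autoImplicit false

namespace Cfsg.Agent.HexRec.TorHalf

open Matrix
open Cfsg.Agent.ClassTwo.Sp4Defs Cfsg.Agent.ClassTwo.Sp4SL2

variable {G : Type*} [Group G]

/-- a normalised rank one parabolic -/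
structure Half (k : Type*) [Field k] (L S : Subgroup G) where
  le : S ≤ L
  p : L →* SpecialLinearGroup (Fin 2) k
  surj : Function.Surjective p
  α : G → k
  α_mul : ∀ g ∈ S, ∀ h ∈ S, α (g * h) = α g + α h
  α_surj : ∀ v, ∃ s ∈ S, α s = v
  ker : ∀ g : L, p g = 1 ↔ (g : G) ∈ S ∧ α g = 0
  f : k ≃+ k
  p_S : ∀ s (hs : s ∈ S), p ⟨s, le hs⟩ = u (f (α s))

theorem exists_half {k : Type*} [Field k] [Finite k] [CharP k 2] {L S : Subgroup G} (le : S ≤ L)
    (p : L →* SpecialLinearGroup (Fin 2) k) (surj : Function.Surjective p) (α : G → k)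
    (α_mul : ∀ g ∈ S, ∀ h ∈ S, α (g * h) = α g + α h) (α_surj : ∀ v, ∃ s ∈ S, α s = v)
    (ker : ∀ g : L, p g = 1 ↔ (g : G) ∈ S ∧ α g = 0) : ∃ H : Half k L S, H.α = α := by
  choose x hx hxα using α_surj
  have α_one : α 1 = 0 := by
    have := α_mul 1 (one_mem S) 1 (one_mem S)
    rw [mul_one] at this
    simpa using this
  have α_inv : ∀ g ∈ S, α g⁻¹ = α g := by
    intro g hg
    have := α_mul g hg g⁻¹ (inv_mem hg)
    rw [mul_inv_cancel, α_one] at this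
    linear_combination -this - α g * (CharTwo.two_eq_zero : (2 : k) = 0)
  have hpx : ∀ s (hs : s ∈ S), p ⟨s, le hs⟩ = p ⟨x (α s), le (hx _)⟩ := by
    intro s hs
    have h1 : p ((⟨s, le hs⟩ : L) * (⟨x (α s), le (hx _)⟩ : L)⁻¹) = 1 := by
      rw [ker]
      refine ⟨mul_mem hs (inv_mem (hx _)), ?_⟩
      have h2 := α_mul s hs _ (inv_mem (hx (α s)))
      rw [α_inv _ (hx _), hxα, CharTwo.add_self_eq_zero] at h2
      exact h2
    rw [map_mul, map_inv, mul_inv_eq_one] at h1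
    exact h1
  let P : Subgroup (SpecialLinearGroup (Fin 2) k) := (S.subgroupOf L).map p
  have hPmem : ∀ y, y ∈ P ↔ ∃ v, p ⟨x v, le (hx v)⟩ = y := by
    intro y
    constructor
    · rintro ⟨s, hs, rfl⟩
      exact ⟨α s, (hpx s hs).symm⟩
    · rintro ⟨v, rfl⟩
      exact ⟨⟨x v, le (hx v)⟩, hx v, rfl⟩
  have hsq : ∀ y ∈ P, y * y = 1 := by
    rintro _ ⟨s, hs, rfl⟩
    rw [← map_mul, ker]
    refine ⟨mul_mem hs hs, ?_⟩
    have := α_mul s hs s hs
    rwa [CharTwo.add_self_eq_zero] at this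
  have hinj : ∀ v v', p ⟨x v, le (hx v)⟩ = p ⟨x v', le (hx v')⟩ → v = v' := by
    intro v v' h
    have h1 : p ((⟨x v, le (hx v)⟩ : L) * (⟨x v', le (hx v')⟩ : L)⁻¹) = 1 := by
      rw [map_mul, map_inv, h, mul_inv_cancel]
    rw [ker] at h1
    have h2 : α (x v * (x v')⁻¹) = 0 := h1.2
    rw [α_mul _ (hx v) _ (inv_mem (hx v')), α_inv _ (hx v'), hxα, hxα] at h2
    linear_combination h2 - v' * (CharTwo.two_eq_zero : (2 : k) = 0)
  have hcard : Nat.card P = Nat.card k := by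
    symm
    apply Nat.card_congr
    exact Equiv.ofBijective (fun v => (⟨p ⟨x v, le (hx v)⟩, (hPmem _).2 ⟨v, rfl⟩⟩ : P))
      ⟨fun v v' h => hinj v v' (congrArg Subtype.val h), fun y => by
        obtain ⟨v, hv⟩ := (hPmem _).1 y.2
        exact ⟨v, Subtype.ext hv⟩⟩
  obtain ⟨c, hc⟩ := conj_U P hsq hcard
  choose f hf using fun v => hc _ ((hPmem _).2 ⟨v, rfl⟩)
  have fadd : ∀ v v', f (v + v') = f v + f v' := by
    intro v v'
    apply u_injective
    rw [← u_mul, ← hf v, ← hf v', ← hf (v + v')]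
    have h1 : p ⟨x (v + v'), le (hx _)⟩ = p ⟨x v, le (hx v)⟩ * p ⟨x v', le (hx v')⟩ := by
      rw [← map_mul]
      have h2 := hpx (x v * x v') (mul_mem (hx v) (hx v'))
      have h3 : α (x v * x v') = v + v' := by rw [α_mul _ (hx v) _ (hx v'), hxα, hxα]
      rw [h3] at h2
      exact h2.symm
    rw [h1]; group
  have finj : Function.Injective f := by
    intro v v' h
    apply hinj
    have h1 : c * p ⟨x v, le (hx v)⟩ * c⁻¹ = c * p ⟨x v', le (hx v')⟩ * c⁻¹ := by rw [hf, hf, h]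
    simpa using h1
  let F : k ≃+ k := AddEquiv.ofBijective (AddMonoidHom.mk' f fadd) (Finite.injective_iff_bijective.1 finj)
  refine ⟨⟨le, (MulAut.conj c).toMonoidHom.comp p, (MulAut.conj c).surjective.comp surj, α, α_mul,
    fun v => ⟨x v, hx v, hxα v⟩, ?_, F, ?_⟩, rfl⟩
  · intro g
    rw [← ker]
    change c * p g * c⁻¹ = 1 ↔ _
    rw [mul_inv_eq_one]
    exact mul_eq_left
  · intro s hs
    change c * p ⟨s, le hs⟩ * c⁻¹ = u (f (α s))
    rw [hpx s hs, hf]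

namespace Half

variable {k : Type*} [Field k] {L S : Subgroup G} (H : Half k L S)

theorem α_one : H.α 1 = 0 := by
  have := H.α_mul 1 (one_mem S) 1 (one_mem S)
  rw [mul_one] at this
  simpa using this

/-- elements over the upper unitriangular matrices -/
theorem mem_S {g : L} {t : k} (h : H.p g = u t) : (g : G) ∈ S ∧ H.f (H.α g) = t := by
  obtain ⟨s, hs, hst⟩ := H.α_surj (H.f.symm t)
  have h1 : H.p ⟨s, H.le hs⟩ = u t := by rw [H.p_S s hs, hst, AddEquiv.apply_symm_apply]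
  have h2 : H.p (g * (⟨s, H.le hs⟩ : L)⁻¹) = 1 := by rw [map_mul, map_inv, h, h1, mul_inv_cancel]
  have h3 : (g : G) ∈ S := by
    have h4 := mul_mem ((H.ker _).1 h2).1 hs
    have h5 : ((g * (⟨s, H.le hs⟩ : L)⁻¹ : L) : G) * s = g := by
      change (g : G) * s⁻¹ * s = g
      group
    rwa [h5] at h4
  refine ⟨h3, ?_⟩
  have h4 := H.p_S g h3
  apply u_injective
  rw [← h4]
  exact h

theorem exists_over (y : SpecialLinearGroup (Fin 2) k) : ∃ b : L, H.p b = y := H.surj y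

/-- Borel elements -/
theorem bor_conj {b : L} {s : k} {a : kˣ} (hb : H.p b = u s * d a) {g : G} (hg : g ∈ S) :
    (b : G) * g * (b : G)⁻¹ ∈ S ∧ H.f (H.α ((b : G) * g * (b : G)⁻¹)) = (a : k) ^ 2 * H.f (H.α g) := by
  have h1 : H.p (b * ⟨g, H.le hg⟩ * b⁻¹) = u ((a : k) ^ 2 * H.f (H.α g)) := by
    rw [map_mul, map_mul, map_inv, hb, H.p_S g hg]
    have h2 : u s * d a * u (H.f (H.α g)) * (u s * d a)⁻¹ =
        u s * (d a * u (H.f (H.α g)) * (d a)⁻¹) * (u s)⁻¹ := by group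
    rw [h2, d_conj_u, u_mul, u_inv, u_mul]
    congr 1
    ring
  exact H.mem_S h1

theorem lower {b : L} (hb : ∀ g ∈ S, (b : G) * g * (b : G)⁻¹ ∈ S) : ∃ (s : k) (a : kˣ), H.p b = u s * d a := by
  apply eq_u_mul_d
  obtain ⟨s, hs, hs1⟩ := H.α_surj (H.f.symm 1)
  have h1 : H.p ⟨s, H.le hs⟩ = u 1 := by rw [H.p_S s hs, hs1, AddEquiv.apply_symm_apply]
  have h2 := H.p_S _ (hb s hs)
  have h3 : H.p (b * ⟨s, H.le hs⟩ * b⁻¹) = u (H.f (H.α ((b : G) * s * (b : G)⁻¹))) := h2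
  rw [map_mul, map_mul, map_inv, h1] at h3
  exact lower_eq_zero_of_conj one_ne_zero h3

/-- generation by `S` and its conjugate -/
theorem gen2 {w : L} (hw : H.p w = Cfsg.Agent.ClassTwo.Sp4Defs.w k) {W : Subgroup G} (hS : S ≤ W)
    (hwS : ∀ s ∈ S, (w : G) * s * (w : G)⁻¹ ∈ W) : L ≤ W := by
  let T : Subgroup (SpecialLinearGroup (Fin 2) k) := (W.subgroupOf L).map H.p
  have hT : T = ⊤ := by
    apply eq_top_of_uv
    · intro t
      obtain ⟨g, hg⟩ := H.surj (u t)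
      exact ⟨g, hS (H.mem_S hg).1, hg⟩
    · intro t
      obtain ⟨g, hg⟩ := H.surj (u (-t))
      refine ⟨w * g * w⁻¹, hwS _ (H.mem_S hg).1, ?_⟩
      rw [map_mul, map_mul, map_inv, hw, hg, w_conj_u, neg_neg]
  intro x hx
  have h1 : H.p ⟨x, hx⟩ ∈ T := by rw [hT]; trivial
  obtain ⟨y, hy, hyx⟩ := h1
  have h2 : H.p (y⁻¹ * ⟨x, hx⟩) = 1 := by rw [map_mul, map_inv, hyx, inv_mul_cancel]
  have h3 := hS ((H.ker _).1 h2).1
  have hy' : (y : G) ∈ W := hy
  have h4 := mul_mem hy' h3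
  have h5 : (y : G) * ((y⁻¹ * ⟨x, hx⟩ : L) : G) = x := by
    change (y : G) * ((y : G)⁻¹ * x) = x
    group
  rwa [h5] at h4

include H in
/-- generation by the conjugates of `S` -/
theorem gen {W : Subgroup G} (hS : S ≤ W) (hL : ∀ g ∈ L, ∀ w ∈ W, g * w * g⁻¹ ∈ W) : L ≤ W := by
  obtain ⟨w, hw⟩ := H.surj (Cfsg.Agent.ClassTwo.Sp4Defs.w k)
  exact H.gen2 hw hS (fun s hs => hL w w.2 s (hS hs))

/-- renormalisation: `p s = u (α s)` and a complement maps to the torus -/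
theorem renorm [Finite k] [CharP k 2] (hf : ∀ x t, H.f (x * t) * H.f 1 = H.f x * H.f t) {T : Subgroup G}
    (hTL : T ≤ L) (hTc : ∀ x ∈ T, ∀ y ∈ T, x * y = y * x) (hTS : ∀ x ∈ T, x ∈ S → x = 1)
    (hTn : ∀ x ∈ T, ∀ g ∈ S, x * g * x⁻¹ ∈ S) :
    ∃ p' : L →* SpecialLinearGroup (Fin 2) k, Function.Surjective p' ∧
      (∀ g : L, p' g = 1 ↔ (g : G) ∈ S ∧ H.α g = 0) ∧ (∀ s (hs : s ∈ S), p' ⟨s, H.le hs⟩ = u (H.α s)) ∧
      ∀ x (hx : x ∈ T), ∃ l : kˣ, p' ⟨x, hTL hx⟩ = d l := by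
  have hc0 : H.f 1 ≠ 0 := by
    intro h
    exact one_ne_zero (H.f.injective (h.trans (map_zero _).symm))
  let θ0 : k ≃+ k := H.f.trans (AddEquiv.ofBijective (AddMonoidHom.mk' (fun x => x * (H.f 1)⁻¹) (fun a b => add_mul _ _ _))
    ⟨fun a b h => mul_right_cancel₀ (inv_ne_zero hc0) h, fun b => ⟨b * H.f 1, by
      change b * H.f 1 * (H.f 1)⁻¹ = b
      field_simp⟩⟩)
  have hθ0 : ∀ t, θ0 t = H.f t * (H.f 1)⁻¹ := fun t => rfl
  let θ : k ≃+* k := { θ0 with
    map_mul' := by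
      intro x y
      change θ0 (x * y) = θ0 x * θ0 y
      rw [hθ0, hθ0, hθ0]
      have := hf x y
      field_simp
      exact this }
  have hθ : ∀ t, θ t = H.f t * (H.f 1)⁻¹ := fun t => rfl
  have hfθ : ∀ t, θ.symm (H.f t) = t * θ.symm (H.f 1) := by
    intro t
    apply θ.injective
    rw [map_mul, RingEquiv.apply_symm_apply, RingEquiv.apply_symm_apply, hθ]
    field_simp
  have hc1 : θ.symm (H.f 1) ≠ 0 := by
    intro h
    apply hc0
    have := congrArg θ h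
    rwa [RingEquiv.apply_symm_apply, map_zero] at this
  obtain ⟨l0, hl0⟩ := exists_sq_eq _ (inv_ne_zero hc1)
  let m : SpecialLinearGroup (Fin 2) k →* SpecialLinearGroup (Fin 2) k :=
    SpecialLinearGroup.map (θ.symm : k →+* k)
  have hm_u : ∀ t, m (u t) = u (θ.symm t) := by
    intro t
    apply Subtype.ext
    change (u t).1.map θ.symm = (u (θ.symm t)).1
    ext i j
    fin_cases i <;> fin_cases j <;> simp [u]
  have hm_inj : Function.Injective m := by
    intro x y h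
    apply Subtype.ext
    have h1 := congrArg Subtype.val h
    change x.1.map θ.symm = y.1.map θ.symm at h1
    exact Matrix.map_injective θ.symm.injective h1
  have hm_surj : Function.Surjective m := Finite.surjective_of_injective hm_inj
  let p2 : L →* SpecialLinearGroup (Fin 2) k := (MulAut.conj (d l0)).toMonoidHom.comp (m.comp H.p)
  have hp2 : ∀ g, p2 g = d l0 * m (H.p g) * (d l0)⁻¹ := fun g => rfl
  have hp2_surj : Function.Surjective p2 := (MulAut.conj (d l0)).surjective.comp (hm_surj.comp H.surj)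
  have hp2_ker : ∀ g : L, p2 g = 1 ↔ (g : G) ∈ S ∧ H.α g = 0 := by
    intro g
    rw [← H.ker, hp2, mul_inv_eq_one]
    rw [mul_eq_left]
    exact ⟨fun h => hm_inj (h.trans (map_one m).symm), fun h => by rw [h, map_one]⟩
  have hp2_S : ∀ s (hs : s ∈ S), p2 ⟨s, H.le hs⟩ = u (H.α s) := by
    intro s hs
    rw [hp2, H.p_S s hs, hm_u, hfθ, d_conj_u, hl0]
    congr 1
    field_simp
  let P : Subgroup (SpecialLinearGroup (Fin 2) k) := (T.subgroupOf L).map p2
  have hB : ∀ x ∈ P, x.1 1 0 = 0 := by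
    rintro _ ⟨b, hb, rfl⟩
    obtain ⟨s, hs, hs1⟩ := H.α_surj 1
    have h1 : p2 ⟨s, H.le hs⟩ = u 1 := by rw [hp2_S s hs, hs1]
    have h2 := hp2_S _ (hTn _ hb s hs)
    have h3 : p2 (b * ⟨s, H.le hs⟩ * b⁻¹) = u (H.α ((b : G) * s * (b : G)⁻¹)) := h2
    rw [map_mul, map_mul, map_inv, h1] at h3
    exact lower_eq_zero_of_conj one_ne_zero h3
  obtain ⟨s0, hs0⟩ := conj_T P (by
      rintro _ ⟨a, ha, rfl⟩ _ ⟨b, hb, rfl⟩
      rw [← map_mul, ← map_mul]
      congr 1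
      exact Subtype.ext (hTc _ ha _ hb)) hB (by
      rintro t ⟨b, hb, hbt⟩
      obtain ⟨s, hs, hst⟩ := H.α_surj t
      have h1 : p2 ⟨s, H.le hs⟩ = u t := by rw [hp2_S s hs, hst]
      have h2 : p2 (b * (⟨s, H.le hs⟩ : L)⁻¹) = 1 := by rw [map_mul, map_inv, hbt, h1, mul_inv_cancel]
      have h3 := ((hp2_ker _).1 h2).1
      have h4 := mul_mem h3 hs
      have h5 : ((b * (⟨s, H.le hs⟩ : L)⁻¹ : L) : G) * s = b := by
        change (b : G) * s⁻¹ * s = b
        group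
      rw [h5] at h4
      have h6 : b = 1 := Subtype.ext (hTS _ hb h4)
      rw [h6, map_one] at hbt
      exact u_eq_one.1 hbt.symm)
  refine ⟨(MulAut.conj (u s0)).toMonoidHom.comp p2, (MulAut.conj (u s0)).surjective.comp hp2_surj, ?_, ?_, ?_⟩
  · intro g
    rw [← hp2_ker]
    change u s0 * p2 g * (u s0)⁻¹ = 1 ↔ _
    rw [mul_inv_eq_one]
    exact mul_eq_left
  · intro s hs
    change u s0 * p2 ⟨s, H.le hs⟩ * (u s0)⁻¹ = _
    rw [hp2_S s hs, u_mul, u_inv, u_mul]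
    congr 1
    ring
  · intro x hx
    exact hs0 _ ⟨⟨x, hTL hx⟩, hx, rfl⟩

end Half

end Cfsg.Agent.HexRec.TorHalf
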