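import Cfsg.Agent.HexRec.TorSec

/-!
# Input of the torus construction

`PN C G`: the pair of parabolic subgroups with normalised halves.  Results on the Borel subgroup of the second
parabolic (`b ∈ L2` normalising `S`): it acts on the sections `6`, `2`, `4` by `λ²`, `λ⁻¹`, `λ`.
-/

set_option autoImplicit false
set_option linter.unusedSectionVars false
set_option linter.unusedVariables false

namespace Cfsg.Agent.HexRec.TorIn

open Cfsg.Agent.HexRec Cfsg.Agent.HexEss Subgroup Matrix TorHalf TorSec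
open Cfsg.Agent.ClassTwo.Sp4Defs Cfsg.Agent.ClassTwo.Sp4SL2

section general

variable {G : Type*} [Group G] [Finite G]

/-- the elements normalising `N` and centralising `M` modulo `N` -/
def cmSub (N M : Subgroup G) : Subgroup G where
  carrier := {g | Pres g N ∧ ∀ x ∈ M, g * x * g⁻¹ * x⁻¹ ∈ N}
  one_mem' := ⟨Pres.one N, fun x hx => by simp⟩
  mul_mem' := by
    rintro a b ⟨ha, ha'⟩ ⟨hb, hb'⟩
    refine ⟨ha.mul hb, fun x hx => ?_⟩
    have : a * b * x * (a * b)⁻¹ * x⁻¹ = (a * (b * x * b⁻¹ * x⁻¹) * a⁻¹) * (a * x * a⁻¹ * x⁻¹) := by group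
    rw [this]
    exact mul_mem (ha _ (hb' x hx)) (ha' x hx)
  inv_mem' := by
    rintro a ⟨ha, ha'⟩
    refine ⟨ha.inv, fun x hx => ?_⟩
    have : a⁻¹ * x * a⁻¹⁻¹ * x⁻¹ = a⁻¹ * (a * x * a⁻¹ * x⁻¹)⁻¹ * a⁻¹⁻¹ := by group
    rw [this]
    exact ha.inv _ (inv_mem (ha' x hx))

theorem mem_cmSub {N M : Subgroup G} {g : G} :
    g ∈ cmSub N M ↔ Pres g N ∧ ∀ x ∈ M, g * x * g⁻¹ * x⁻¹ ∈ N := Iff.rfl

variable {k : Type*} [Field k] {L S : Subgroup G}

/-- a section centralised by `S` and invariant under the Weyl element is centralised -/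
theorem Half_comm (H : Half k L S) {w : L} (hw : H.p w = Cfsg.Agent.ClassTwo.Sp4Defs.w k) {M N : Subgroup G}
    (hM : Pres (w : G) M) (hN : Pres (w : G) N) (hS : ∀ s ∈ S, Pres s N)
    (hSM : ∀ s ∈ S, ∀ x ∈ M, s * x * s⁻¹ * x⁻¹ ∈ N) : ∀ g ∈ L, ∀ x ∈ M, g * x * g⁻¹ * x⁻¹ ∈ N := by
  have h1 : L ≤ cmSub N M := by
    apply H.gen2 hw
    · intro s hs
      exact ⟨hS s hs, hSM s hs⟩
    · intro s hs
      refine ⟨(hN.mul (hS s hs)).mul hN.inv, fun x hx => ?_⟩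
      have e : (w : G) * s * (w : G)⁻¹ * x * ((w : G) * s * (w : G)⁻¹)⁻¹ * x⁻¹ =
        (w : G) * (s * ((w : G)⁻¹ * x * (w : G)⁻¹⁻¹) * s⁻¹ * ((w : G)⁻¹ * x * (w : G)⁻¹⁻¹)⁻¹) * (w : G)⁻¹ := by
        group
      rw [e]
      exact hN _ (hSM s hs _ (hM.inv x hx))
  intro g hg
  exact (h1 hg).2

/-- the linearity principle -/
theorem Half_lin [Finite k] [CharP k 2] (H : Half k L S) (A : G → k → k)
    (hA : ∀ b : L, ∀ s (a : kˣ), H.p b = u s * d a → ∀ t, H.f (A b t) = (a : k) ^ 2 * H.f t)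
    (hm : ∀ b : L, Pres (b : G) S → A b 1 ≠ 0 ∧ ∀ s t, A b (s * t) / A b 1 = A b s / A b 1 * (A b t / A b 1))
    (b : L) (hb : Pres (b : G) S) (t : k) : A b t = A b 1 * t := by
  obtain ⟨s, a, hsa⟩ := H.lower hb
  by_cases ha : (a : k) ^ 2 = 1
  · have h1 : ∀ t, A b t = t := by
      intro t
      apply H.f.injective
      rw [hA b s a hsa, ha, one_mul]
    rw [h1, h1, one_mul]
  · have h2 : (2 : k) = 0 := CharTwo.two_eq_zero
    have h1 : (1 : k) + (a : k) ^ 2 ≠ 0 := by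
      intro h; apply ha; linear_combination h - h2
    obtain ⟨c, hc⟩ := exists_sq_eq _ h1
    obtain ⟨b', hb'⟩ := H.surj (d c)
    have hb'2 : H.p b' = u 0 * d c := by rw [hb', u_zero, one_mul]
    have hbn : Pres (b' : G) S := fun g hg => (H.bor_conj hb'2 hg).1
    have h3 : ∀ t, A b' t = t + A b t := by
      intro t
      apply H.f.injective
      rw [hA b' 0 c hb'2, hc, map_add, hA b s a hsa]
      ring
    have hm1 := hm b hb
    have hm2 := hm b' hbn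
    have h4 := TorAlg.eq_id_of_add h2 (σ := fun t => A b' t / A b' 1) (τ := fun t => A b t / A b 1)
      hm2.2 (div_self hm2.1) hm1.2 (div_self hm1.1) (α := A b 1) (β := A b' 1) hm1.1 (by
        intro t
        have := h3 t
        have e1 := hm1.1
        have e2 := hm2.1
        field_simp
        exact this) t
    have e1 := hm1.1
    field_simp at h4
    rw [h4]

end general

variable {F K : Type*} [Field F] [Field K] [Algebra F K]

/-- the pair of parabolic subgroups with normalised halves -/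
structure PN (C : Cubic F K) (G : Type*) [Group G] [Finite G] where
  S : Subgroup G
  E : Coord C S
  L1 : Subgroup G
  L2 : Subgroup G
  H1 : Half K L1 S
  H2 : Half F L2 S
  α1 : ∀ g, H1.α g = (cx E g).a1
  α2 : ∀ g, H2.α g = (cx E g).a6
  n1 : ∀ b ∈ L1, Pres b S → Pres b (Db E) ∧ Pres b L2
  n2 : ∀ b ∈ L2, Pres b S → Pres b (Da E) ∧ Pres b L1

namespace PN

variable {C : Cubic F K} {G : Type*} [Group G] [Finite G] (P : PN C G)

theorem ker1 (g : P.L1) : P.H1.p g = 1 ↔ (g : G) ∈ Da P.E := by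
  rw [P.H1.ker, P.α1]; rfl

theorem ker2 (g : P.L2) : P.H2.p g = 1 ↔ (g : G) ∈ Db P.E := by
  rw [P.H2.ker, P.α2]; rfl

theorem L1_Da {b : G} (hb : b ∈ P.L1) : Pres b (Da P.E) := by
  intro g hg
  have h1 : P.H1.p ⟨g, P.H1.le hg.1⟩ = 1 := (P.ker1 _).2 hg
  have h2 : P.H1.p ((⟨b, hb⟩ : P.L1) * ⟨g, P.H1.le hg.1⟩ * (⟨b, hb⟩ : P.L1)⁻¹) = 1 := by
    rw [map_mul, map_mul, map_inv, h1, mul_one, mul_inv_cancel]
  exact (P.ker1 _).1 h2

theorem L2_Db {b : G} (hb : b ∈ P.L2) : Pres b (Db P.E) := by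
  intro g hg
  have h1 : P.H2.p ⟨g, P.H2.le hg.1⟩ = 1 := (P.ker2 _).2 hg
  have h2 : P.H2.p ((⟨b, hb⟩ : P.L2) * ⟨g, P.H2.le hg.1⟩ * (⟨b, hb⟩ : P.L2)⁻¹) = 1 := by
    rw [map_mul, map_mul, map_inv, h1, mul_one, mul_inv_cancel]
  exact (P.ker2 _).1 h2

theorem L1_Z {b : G} (hb : b ∈ P.L1) : Pres b (Z P.E) := pres_Z (P.L1_Da hb)
theorem L2_E2 {b : G} (hb : b ∈ P.L2) : Pres b (E2 P.E) := pres_E2 (P.L2_Db hb)

/-- the first parabolic centralises `Z` -/
theorem L1_centZ {b : G} (hb : b ∈ P.L1) {z : G} (hz : z ∈ Z P.E) : b * z * b⁻¹ = z := by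
  obtain ⟨w, hw⟩ := P.H1.surj (Cfsg.Agent.ClassTwo.Sp4Defs.w K)
  have h1 := Half_comm P.H1 hw (M := Z P.E) (N := ⊥) (P.L1_Z w.2) (pres_bot _) (fun s hs => pres_bot _)
    (fun s hs x hx => by
      rw [Subgroup.mem_bot]
      exact cm_Z (co := P.E) hs hx) b hb z hz
  rw [Subgroup.mem_bot, mul_inv_eq_one] at h1
  exact h1

theorem act6 {b : P.L2} {s : F} {a : Fˣ} (hb : P.H2.p b = u s * d a) (t : F) :
    P.H2.f ((pc6 P.E).map b t) = (a : F) ^ 2 * P.H2.f t := by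
  have h1 := (P.H2.bor_conj hb (P.E.x6 t).2).2
  rw [P.α2, P.α2, cx_x6] at h1
  exact h1

theorem act1 {b : P.L1} {s : K} {a : Kˣ} (hb : P.H1.p b = u s * d a) (t : K) :
    P.H1.f ((pc1 P.E).map b t) = (a : K) ^ 2 * P.H1.f t := by
  have h1 := (P.H1.bor_conj hb (P.E.x1 t).2).2
  rw [P.α1, P.α1, cx_x1] at h1
  exact h1

variable {P}

theorem c6 (b : P.L2) (hb : Pres (b : G) P.S) : (pc6 P.E).map (b : G) 1 ≠ 0 := by
  intro h
  have h1 : (pc6 P.E).map (b : G) 1 = (pc6 P.E).map b 0 := by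
    rw [h, Pc.map_zero hb (P.L2_Db b.2)]
  exact one_ne_zero ((Pc.map_bij (X := pc6 P.E) hb (P.L2_Db b.2)).1 h1)

theorem c2 (b : P.L2) (hb : Pres (b : G) P.S) : (pc2 P.E).map (b : G) 1 ≠ 0 := by
  have hZ := pres_Z (P.n2 b b.2 hb).1
  intro h
  have h1 : (pc2 P.E).map (b : G) 1 = (pc2 P.E).map b 0 := by
    rw [h, Pc.map_zero (P.L2_E2 b.2) hZ]
  exact one_ne_zero ((Pc.map_bij (X := pc2 P.E) (P.L2_E2 b.2) hZ).1 h1)

theorem r2' (b : P.L2) (hb : Pres (b : G) P.S) (s p : F) :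
    (pc4 P.E).map (b : G) (s * p) = (pc6 P.E).map (b : G) s * (pc2 P.E).map (b : G) p :=
  r2 hb (P.L2_Db b.2) (pres_Z (P.n2 b b.2 hb).1) s p

variable [Finite F]

theorem lin6 (b : P.L2) (hb : Pres (b : G) P.S) (t : F) :
    (pc6 P.E).map (b : G) t = (pc6 P.E).map (b : G) 1 * t := by
  have := charPF C
  refine Half_lin P.H2 (fun b t => (pc6 P.E).map b t) (fun b s a hb t => P.act6 hb t) (fun b hb => ?_) b hb t
  exact ⟨c6 b hb, fun s t => TorAlg.mult_of_bilin (r2' b hb) (c2 b hb) (c6 b hb) s t⟩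

theorem lin4 (b : P.L2) (hb : Pres (b : G) P.S) (t : F) :
    (pc4 P.E).map (b : G) t = (pc6 P.E).map (b : G) 1 * (pc2 P.E).map (b : G) 1 * t := by
  have h1 := r2' b hb t 1
  rw [mul_one] at h1
  rw [h1, lin6 b hb]; ring

theorem lin2 (b : P.L2) (hb : Pres (b : G) P.S) (t : F) :
    (pc2 P.E).map (b : G) t = (pc2 P.E).map (b : G) 1 * t := by
  have h1 := r2' b hb 1 t
  rw [one_mul, lin4 b hb] at h1
  apply mul_left_cancel₀ (c6 b hb)
  rw [← h1]; ring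

/-- the elements of `L2` over the diagonal matrix `a ≠ 1` act nontrivially on the section `6` -/
theorem c6_ne_one {b : P.L2} {s : F} {a : Fˣ} (hb : P.H2.p b = u s * d a) (ha : (a : F) ^ 2 ≠ 1) :
    (pc6 P.E).map (b : G) 1 ≠ 1 := by
  intro h
  have h1 := P.act6 hb 1
  rw [h] at h1
  apply ha
  have h2 : P.H2.f 1 ≠ 0 := by
    intro h; exact one_ne_zero (P.H2.f.injective (h.trans (map_zero _).symm))
  have : P.H2.f 1 * ((a : F) ^ 2 - 1) = 0 := by linear_combination -h1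
  rcases mul_eq_zero.1 this with h | h
  · exact absurd h h2
  · linear_combination h

theorem S_E2 {s : G} (hs : s ∈ P.S) {y : G} (hy : y ∈ E2 P.E) : s * y * s⁻¹ * y⁻¹ ∈ Z P.E :=
  cm_mem_Z (co := P.E) hs hy

theorem S_Z {s : G} (hs : s ∈ P.S) {y : G} (hy : y ∈ Z P.E) : s * y * s⁻¹ = y := by
  have := cm_Z (co := P.E) hs hy
  unfold cm at this
  rwa [mul_inv_eq_one] at this

theorem S_presZ {s : G} (hs : s ∈ P.S) : Pres s (Z P.E) := fun y hy => by rw [S_Z hs hy]; exact hy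

theorem Db_E2 {s : G} (hs : s ∈ Db P.E) {y : G} (hy : y ∈ E2 P.E) : s * y * s⁻¹ = y := by
  have := cm_Db_E2 (co := P.E) hs hy
  unfold cm at this
  rwa [mul_inv_eq_one] at this

theorem exists_ne_one [CharP F 2] (hq : 4 ≤ Nat.card F) : ∃ a : Fˣ, (a : F) ^ 2 ≠ 1 := by
  obtain ⟨a, ha⟩ := exists_unit_ne_one hq
  exact ⟨a, fun h => sq_ne_one ha (by rw [h, sub_self])⟩

/-- the Weyl element moves the center -/
theorem weyl_disj (hq : 4 ≤ Nat.card F) {w : P.L2} (hw : P.H2.p w = Cfsg.Agent.ClassTwo.Sp4Defs.w F) {z : G}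
    (hz : z ∈ Z P.E) (hwz : (w : G) * z * (w : G)⁻¹ ∈ Z P.E) : z = 1 := by
  have := charPF C
  by_contra hz1
  have hww : (w : G) * w ∈ Db P.E := by
    have h1 : P.H2.p (w * w) = 1 := by rw [map_mul, hw, w_mul_w]
    exact (P.ker2 _).1 h1
  -- `L2` centralises `z`
  have hcz : ∀ g ∈ P.L2, g * z * g⁻¹ = z := by
    have h1 : P.L2 ≤ Subgroup.centralizer {z} := by
      apply P.H2.gen2 hw
      · intro s hs
        rw [Subgroup.mem_centralizer_singleton_iff]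
        have := S_Z (P := P) hs hz
        rwa [mul_inv_eq_iff_eq_mul] at this
      · intro s hs
        rw [Subgroup.mem_centralizer_singleton_iff]
        have h2 : (w : G)⁻¹ * z * w = w * z * (w : G)⁻¹ := by
          have h3 := Db_E2 (P := P) hww (Z_le_E2 hz)
          calc (w : G)⁻¹ * z * w = (w : G)⁻¹ * ((w : G) * w * z * ((w : G) * w)⁻¹) * w := by rw [h3]
            _ = _ := by group
        have h4 := S_Z (P := P) hs (h2 ▸ hwz)
        have h5 : s * ((w : G)⁻¹ * z * w) = ((w : G)⁻¹ * z * w) * s := by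
          rwa [mul_inv_eq_iff_eq_mul] at h4
        calc (w : G) * s * (w : G)⁻¹ * z = (w : G) * (s * ((w : G)⁻¹ * z * w)) * (w : G)⁻¹ := by group
          _ = (w : G) * (((w : G)⁻¹ * z * w) * s) * (w : G)⁻¹ := by rw [h5]
          _ = z * ((w : G) * s * (w : G)⁻¹) := by group
    intro g hg
    have h3 := h1 hg
    rw [Subgroup.mem_centralizer_singleton_iff] at h3
    rw [h3]; group
  have hz4 : (cx P.E z).a4 ≠ 0 := by
    intro h
    exact hz1 (eq_one_of_cx (co := P.E) hz.1 hz.2.1 hz.2.2.1 hz.2.2.2.1 h hz.2.2.2.2.1 hz.2.2.2.2.2)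
  -- the Borel acts trivially on `Z`
  have hb4 : ∀ b : P.L2, Pres (b : G) P.S → (pc6 P.E).map (b : G) 1 * (pc2 P.E).map (b : G) 1 = 1 := by
    intro b hb
    have h1 := Pc.map_spec (X := pc4 P.E) (pres_Z (P.n2 b b.2 hb).1) (pres_bot _) hz
    change (cx P.E _).a4 = (pc4 P.E).map b (cx P.E z).a4 at h1
    rw [hcz b b.2, lin4 b hb] at h1
    apply mul_right_cancel₀ hz4
    rw [← h1, one_mul]
  have hbZ : ∀ b : P.L2, Pres (b : G) P.S → ∀ v ∈ Z P.E, (b : G) * v * (b : G)⁻¹ = v := by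
    intro b hb v hv
    have hZ := pres_Z (P.n2 b b.2 hb).1
    have h1 := Pc.map_spec (X := pc4 P.E) hZ (pres_bot _) hv
    change (cx P.E _).a4 = (pc4 P.E).map b (cx P.E v).a4 at h1
    rw [lin4 b hb, hb4 b hb, one_mul] at h1
    have h2 := hZ _ hv
    apply cx_inj (co := P.E) h2.1 hv.1
    apply Tup.ext
    · rw [h2.2.1, hv.2.1]
    · rw [h2.2.2.1, hv.2.2.1]
    · rw [h2.2.2.2.1, hv.2.2.2.1]
    · exact h1
    · rw [h2.2.2.2.2.1, hv.2.2.2.2.1]
    · rw [h2.2.2.2.2.2, hv.2.2.2.2.2]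
  obtain ⟨a, ha⟩ := exists_ne_one hq
  obtain ⟨b, hb⟩ := P.H2.surj (d a)
  have hb0 : P.H2.p b = u 0 * d a := by rw [hb, u_zero, one_mul]
  have hbS : Pres (b : G) P.S := fun g hg => (P.H2.bor_conj hb0 hg).1
  by_cases hcase : ∀ v ∈ Z P.E, (w : G) * v * (w : G)⁻¹ ∈ Z P.E
  · -- `L2` normalises `Z`
    have h1 := Half_comm P.H2 hw (M := E2 P.E) (N := Z P.E) (P.L2_E2 w.2) hcase
      (fun s hs => S_presZ hs) (fun s hs x hx => S_E2 hs hx)
    have h2 := Pc.map_of_comm (X := pc2 P.E) (b := (b : G)) (h1 b b.2) 1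
    have h3 := hb4 b hbS
    rw [h2, mul_one] at h3
    exact c6_ne_one hb0 ha h3
  · push Not at hcase
    obtain ⟨v, hv, hwv⟩ := hcase
    -- the conjugate of the torus
    set b' : P.L2 := w * b * w⁻¹ with hb'
    have hb'p : P.H2.p b' = u 0 * d a⁻¹ := by
      rw [hb', map_mul, map_mul, map_inv, hw, hb, w_conj_d, d_inv, u_zero, one_mul]
    have hb'S : Pres (b' : G) P.S := fun g hg => (P.H2.bor_conj hb'p hg).1
    have hy : (w : G) * v * (w : G)⁻¹ ∈ E2 P.E := P.L2_E2 w.2 _ (Z_le_E2 hv)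
    have h1 : (b' : G) * ((w : G) * v * (w : G)⁻¹) * (b' : G)⁻¹ = (w : G) * v * (w : G)⁻¹ := by
      have h2 := hbZ b hbS v hv
      have h3 : (b' : G) = w * b * (w : G)⁻¹ := rfl
      rw [h3]
      calc (w : G) * b * (w : G)⁻¹ * ((w : G) * v * (w : G)⁻¹) * ((w : G) * b * (w : G)⁻¹)⁻¹
          = (w : G) * ((b : G) * v * (b : G)⁻¹) * (w : G)⁻¹ := by group
        _ = _ := by rw [h2]
    have h2 := Pc.map_spec (X := pc2 P.E) (P.L2_E2 b'.2) (pres_Z (P.n2 b' b'.2 hb'S).1) hy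
    change (cx P.E _).a2 = (pc2 P.E).map b' (cx P.E _).a2 at h2
    rw [h1, lin2 b' hb'S] at h2
    have h3 : (cx P.E ((w : G) * v * (w : G)⁻¹)).a2 ≠ 0 := by
      intro h
      exact hwv ⟨hy.1, hy.2.1, h, hy.2.2.1, hy.2.2.2.1, hy.2.2.2.2⟩
    have h4 : (pc2 P.E).map (b' : G) 1 = 1 := by
      apply mul_right_cancel₀ h3
      rw [← h2, one_mul]
    have h5 := hb4 b' hb'S
    rw [h4, mul_one] at h5
    refine c6_ne_one hb'p ?_ h5
    intro h6
    apply ha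
    have h7 : ((a⁻¹ : Fˣ) : F) * (a : F) = 1 := by rw [← Units.val_mul, inv_mul_cancel, Units.val_one]
    linear_combination (-(a : F) ^ 2) * h6 + (((a⁻¹ : Fˣ) : F) * (a : F) + 1) * h7

end PN

end Cfsg.Agent.HexRec.TorIn
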