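import Cfsg.Agent.HexRec.TorBor

/-!
# (R1) The graded torus

Main theorem `exists_par`: a pair of parabolic subgroups `L1`, `L2` over a hexagonal 2-group `S` (`4 ≤ |F|`) can be
given coordinates and a torus making it a `Par C G`.
-/

set_option autoImplicit false
set_option linter.unusedSectionVars false
set_option linter.unusedVariables false

namespace Cfsg.Agent.HexRec.TorMain

open Cfsg.Agent.HexRec Cfsg.Agent.HexEss Subgroup Matrix TorHalf TorSec TorIn TorY TorR TorOne TorAut TorBor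
open Cfsg.Agent.ClassTwo.Sp4Defs Cfsg.Agent.ClassTwo.Sp4SL2

variable {F K : Type*} [Field F] [Field K] [Algebra F K] {C : Cubic F K} {G : Type*} [Group G] [Finite G]

section coords

variable {S : Subgroup G} (E : Coord C S)

/-- the homomorphism to `Aut S` -/
def conjAut (h : Kˣ × Fˣ →* G) (hS : ∀ p, Pres (h p) S) : Kˣ × Fˣ →* MulAut S where
  toFun p :=
    { toFun := fun s => ⟨h p * s * (h p)⁻¹, hS p s s.2⟩
      invFun := fun s => ⟨h p⁻¹ * s * (h p⁻¹)⁻¹, hS p⁻¹ s s.2⟩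
      left_inv := fun s => by
        apply Subtype.ext
        change h p⁻¹ * (h p * s * (h p)⁻¹) * (h p⁻¹)⁻¹ = s
        rw [map_inv]; group
      right_inv := fun s => by
        apply Subtype.ext
        change h p * (h p⁻¹ * s * (h p⁻¹)⁻¹) * (h p)⁻¹ = s
        rw [map_inv]; group
      map_mul' := fun s t => by
        apply Subtype.ext
        change h p * ((s : G) * t) * (h p)⁻¹ = (h p * s * (h p)⁻¹) * (h p * t * (h p)⁻¹)
        group }
  map_one' := by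
    ext s
    change h 1 * (s : G) * (h 1)⁻¹ = s
    rw [map_one]; group
  map_mul' p q := by
    ext s
    change h (p * q) * (s : G) * (h (p * q))⁻¹ = h p * (h q * s * (h q)⁻¹) * (h p)⁻¹
    rw [map_mul]; group

theorem conjAut_coe (h : Kˣ × Fˣ →* G) (hS : ∀ p, Pres (h p) S) (p : Kˣ × Fˣ) (s : S) :
    (conjAut h hS p s : G) = h p * s * (h p)⁻¹ := rfl

variable {E}

theorem a1_inv {g : G} (hg : g ∈ S) : (cx E g⁻¹).a1 = -(cx E g).a1 := (pc1 E).α_inv hg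
theorem a6_inv {g : G} (hg : g ∈ S) : (cx E g⁻¹).a6 = -(cx E g).a6 := (pc6 E).α_inv hg

theorem mul_inv_mem_RR {g h : G} (hg : g ∈ S) (hh : h ∈ S) (h1 : (cx E g).a1 = (cx E h).a1)
    (h6 : (cx E g).a6 = (cx E h).a6) : g * h⁻¹ ∈ RR E := by
  refine ⟨mul_mem hg (inv_mem hh), ?_, ?_⟩
  · rw [a1_mul hg (inv_mem hh), a1_inv hh, h1, add_neg_cancel]
  · rw [a6_mul hg (inv_mem hh), a6_inv hh, h6, add_neg_cancel]

theorem eq_of_mul_inv_mem_RR {g h : G} (hg : g ∈ S) (hh : h ∈ S) (hgh : g * h⁻¹ ∈ RR E) :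
    (cx E g).a1 = (cx E h).a1 ∧ (cx E g).a6 = (cx E h).a6 := by
  have h1 := hgh.2.1
  have h6 := hgh.2.2
  rw [a1_mul hg (inv_mem hh), a1_inv hh, add_neg_eq_zero] at h1
  rw [a6_mul hg (inv_mem hh), a6_inv hh, add_neg_eq_zero] at h6
  exact ⟨h1, h6⟩

theorem cx_coe (s : S) : cx E (s : G) = E.e s := cx_eq s.2

/-- coordinates transported by an automorphism -/
def tr (φ : MulAut S) (E : Coord C S) : Coord C S where
  e := φ.symm.toEquiv.trans E.e
  map_mul g h := by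
    change E.e (φ.symm (g * h)) = C.mul (E.e (φ.symm g)) (E.e (φ.symm h))
    rw [map_mul, E.map_mul]

theorem e_tr (φ : MulAut S) (s : S) : (tr φ E).e s = E.e (φ⁻¹ s) := rfl

theorem cx_tr {φ : MulAut S} (hφ : φ ∈ KN E) (g : G) :
    (cx (tr φ E) g).a1 = (cx E g).a1 ∧ (cx (tr φ E) g).a6 = (cx E g).a6 := by
  by_cases hg : g ∈ S
  · have h1 := (mem_KN E).1 (inv_mem hφ) ⟨g, hg⟩
    have h2 := eq_of_mul_inv_mem_RR (E := E) (φ⁻¹ ⟨g, hg⟩).2 hg h1
    rw [cx_eq (co := tr φ E) hg, e_tr, ← cx_coe]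
    exact h2
  · have e1 : cx (tr φ E) g = ⟨0, 0, 0, 0, 0, 0⟩ := by rw [cx, dif_neg hg]
    have e2 : cx E g = ⟨0, 0, 0, 0, 0, 0⟩ := by rw [cx, dif_neg hg]
    rw [e1, e2]; exact ⟨rfl, rfl⟩

theorem Da_tr {φ : MulAut S} (hφ : φ ∈ KN E) : Da (tr φ E) = Da E := by
  ext g
  rw [mem_Da, mem_Da, (cx_tr hφ g).1]

theorem Db_tr {φ : MulAut S} (hφ : φ ∈ KN E) : Db (tr φ E) = Db E := by
  ext g
  rw [mem_Db, mem_Db, (cx_tr hφ g).2]

theorem E2_tr {φ : MulAut S} (hφ : φ ∈ KN E) : E2 (tr φ E) = E2 E := by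
  ext g
  rw [mem_E2_iff_cent, mem_E2_iff_cent, Db_tr hφ]

theorem RR_tr {φ : MulAut S} (hφ : φ ∈ KN E) : RR (tr φ E) = RR E := by
  rw [RR_eq, RR_eq, Da_tr hφ, Db_tr hφ]

/-- graded coordinates: the torus acts by the graded formulas in suitable coordinates -/
theorem exists_graded [Finite F] [Finite K] (hq : 4 ≤ Nat.card F) (h : Kˣ × Fˣ →* G)
    (hh : ∀ p, Acts E (h p) p) : ∃ φ ∈ KN E, ∀ (p : Kˣ × Fˣ) (s : S) (s' : S), (s' : G) = h p * s * (h p)⁻¹ →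
      (tr φ E).e s' = gr C p ((tr φ E).e s) := by
  have hS : ∀ p, Pres (h p) S := fun p => (hh p).pS
  have cT : Odd (Nat.card (Kˣ × Fˣ)) := by
    rw [Nat.card_prod]
    obtain ⟨n, hn, hn2⟩ := C.card_K
    obtain ⟨m, hm, hm2⟩ := C.card_F
    exact (odd_card_units K n hn hn2).mul (odd_card_units F m hm hm2)
  have := charPF C
  obtain ⟨f, hf⟩ := exists_unit_ne_one hq
  have hS2 : IsPGroup 2 S := by
    obtain ⟨n, hn⟩ := E.card_eq
    exact IsPGroup.of_card hn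
  have hgtRR : ∀ p (x : S), (x : G) ∈ RR E → ((gt E p x : S) : G) ∈ RR E := by
    intro p x hx
    refine ⟨(gt E p x).2, ?_, ?_⟩
    · rw [cx_coe, e_gt]
      change (p.1 : K) * (E.e x).a1 = 0
      rw [← cx_coe, hx.2.1, mul_zero]
    · rw [cx_coe, e_gt]
      change (p.2 : F) * (E.e x).a6 = 0
      rw [← cx_coe, hx.2.2, mul_zero]
  obtain ⟨φ, hφ, hc⟩ := TorConj.conj_hom cT (KN_isPGroup E hS2 ⟨f, f.ne_zero, hf⟩) (conjAut h hS) (gt E) (by
      intro p n hn s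
      have h1 := hgtRR p _ (hn ((gt E p)⁻¹ s))
      have h2 : gt E p (n ((gt E p)⁻¹ s) * ((gt E p)⁻¹ s)⁻¹) = (gt E p * n * (gt E p)⁻¹) s * s⁻¹ := by
        rw [map_mul, map_inv, MulAut.apply_inv_self]
        rfl
      rwa [h2] at h1) (by
      intro p s
      set s' := (gt E p)⁻¹ s with hs'
      have hs : s = gt E p s' := by rw [hs', MulAut.apply_inv_self]
      have h1 : (conjAut h hS p * (gt E p)⁻¹) s * s⁻¹ = conjAut h hS p s' * (gt E p s')⁻¹ := by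
        rw [MulAut.mul_apply, ← hs', ← hs]
      rw [h1]
      have h2 : ((conjAut h hS p s' * (gt E p s')⁻¹ : S) : G) = (h p * s' * (h p)⁻¹) * ((gt E p s' : S) : G)⁻¹ := rfl
      rw [h2]
      apply mul_inv_mem_RR (hS p s' s'.2) (gt E p s').2
      · rw [(hh p).a1 _ s'.2, cx_coe (gt E p s'), e_gt, cx_coe]; rfl
      · rw [(hh p).a6 _ s'.2, cx_coe (gt E p s'), e_gt, cx_coe]; rfl)
  refine ⟨φ, hφ, fun p s s' hs => ?_⟩
  have h1 : s' = conjAut h hS p s := Subtype.ext hs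
  rw [h1, hc p, e_tr, e_tr]
  have h2 : φ⁻¹ ((φ * gt E p * φ⁻¹) s) = gt E p (φ⁻¹ s) := by
    rw [MulAut.mul_apply, MulAut.mul_apply, MulAut.inv_apply_self]
  rw [h2, e_gt]

end coords

variable {P : PN C G} [Finite F] [Finite K]

theorem mem_L1 (hR : RInv P) (hq : 4 ≤ Nat.card F) {g : G} (hg : g ∈ BB P) {α : Kˣ} {μ : Fˣ}
    (h : C.Nu α * μ ^ 2 = 1) (ha : Acts P.E g (α, μ)) : g ∈ P.L1 := by
  obtain ⟨b, hb, hbS, hba⟩ := exists_acts_one hR hq α μ h
  have h1 := ha.mul hba.inv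
  rw [mul_inv_cancel] at h1
  have h2 := BB_ker hR hq (mul_mem hg (inv_mem (L1_BB hb hbS))) h1
  have h3 := mul_mem (P.H1.le h2) hb
  rwa [inv_mul_cancel_right] at h3

theorem mem_L2 (hR : RInv P) (hq : 4 ≤ Nat.card F) {g : G} (hg : g ∈ BB P) {l : Fˣ}
    (ha : Acts P.E g (emb F K l⁻¹, l ^ 2)) : g ∈ P.L2 := by
  obtain ⟨b, hb, hbS, hba⟩ := exists_acts_two hR hq l
  have h1 := ha.mul hba.inv
  rw [mul_inv_cancel] at h1
  have h2 := BB_ker hR hq (mul_mem hg (inv_mem (L2_BB hb hbS))) h1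
  have h3 := mul_mem (P.H2.le h2) hb
  rwa [inv_mul_cancel_right] at h3

/-- change of coordinates -/
def chg (P : PN C G) {φ : MulAut P.S} (hφ : φ ∈ KN P.E) : PN C G where
  S := P.S
  E := tr φ P.E
  L1 := P.L1
  L2 := P.L2
  H1 := P.H1
  H2 := P.H2
  α1 g := by rw [P.α1, (cx_tr hφ g).1]
  α2 g := by rw [P.α2, (cx_tr hφ g).2]
  n1 b hb hS := by rw [Db_tr hφ]; exact P.n1 b hb hS
  n2 b hb hS := by rw [Da_tr hφ]; exact P.n2 b hb hS

theorem Acts_tr {φ : MulAut P.S} (hφ : φ ∈ KN P.E) {x : G} {p : Kˣ × Fˣ} (h : Acts P.E x p) :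
    Acts (tr φ P.E) x p where
  pS := h.pS
  pa := by rw [Da_tr hφ]; exact h.pa
  pb := by rw [Db_tr hφ]; exact h.pb
  a1 g hg := by rw [(cx_tr hφ _).1, (cx_tr hφ _).1, h.a1 g hg]
  a6 g hg := by rw [(cx_tr hφ _).2, (cx_tr hφ _).2, h.a6 g hg]

theorem RInv_chg (hR : RInv P) (hq : 4 ≤ Nat.card F) (h : Kˣ × Fˣ →* G)
    (hh : ∀ p, h p ∈ BB P ∧ Acts P.E (h p) p) {φ : MulAut P.S} (hφ : φ ∈ KN P.E)
    (hgr : ∀ (p : Kˣ × Fˣ) (s : P.S) (s' : P.S), (s' : G) = h p * s * (h p)⁻¹ →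
      (tr φ P.E).e s' = gr C p ((tr φ P.E).e s)) : RInv (chg P hφ) := by
  have := charPF C
  have key : F0 (tr φ P.E) ≤ F0 P.E := by
    intro x hx
    have hxR : x ∈ RR P.E := by rw [← RR_tr hφ]; exact F0_le_RR hx
    refine ⟨hxR.1, hxR.2.1, ?_, hxR.2.2⟩
    obtain ⟨l, hl⟩ := exists_unit_ne_one hq
    set p : Kˣ × Fˣ := (emb F K l⁻¹, l ^ 2) with hp
    have hpL2 := mem_L2 hR hq (hh p).1 (hh p).2
    have hpS := (hh p).2.pS
    obtain ⟨l', h1, h6, h5⟩ := act_two hR hq ⟨h p, hpL2⟩ hpS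
    have hn := nice_two hR ⟨h p, hpL2⟩ hpS
    -- `l' ≠ 1`
    have hl' : (l' : F) ≠ 1 := by
      intro h7
      have h8 := h6 1
      rw [h7, mul_one, one_pow] at h8
      have h9 := (hh p).2.a6 _ (P.E.x6 1).2
      have h10 : (cx P.E (h p * (P.E.x6 1 : G) * (h p)⁻¹)).a6 = 1 := h8
      rw [h10, cx_x6, mul_one, hp] at h9
      have h11 : (1 : F) = (l : F) ^ 2 := by
        rw [← Units.val_pow_eq_pow_val]; exact h9
      exact sq_ne_one hl (by rw [← h11, sub_self])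
    -- the commutator with `h p` lies in `E2`
    have hxS := hx.1
    have hs' := hpS x hxS
    have hg := hgr p ⟨x, hxS⟩ ⟨h p * x * (h p)⁻¹, hs'⟩ rfl
    rw [← cx_coe, ← cx_coe] at hg
    change cx (tr φ P.E) (h p * x * (h p)⁻¹) = gr C p (cx (tr φ P.E) x) at hg
    set y : G := h p * x * (h p)⁻¹ * x⁻¹ with hy
    have hyS : y ∈ P.S := mul_mem hs' (inv_mem hxS)
    have hyx : y * x = h p * x * (h p)⁻¹ := by rw [hy]; group
    have m1 := a1_mul (co := tr φ P.E) hyS hxS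
    have m6 := a6_mul (co := tr φ P.E) hyS hxS
    have m5 := a5_mul (co := tr φ P.E) hyS hxS
    have m3 := a3_mul (co := tr φ P.E) hyS hxS
    rw [hyx, hg, hx.2.1] at m1 m5 m3
    rw [hyx, hg, hx.2.2.2] at m6
    rw [hx.2.2.1, smul_zero] at m5
    have n1 : (cx (tr φ P.E) y).a1 = 0 := by
      have : (gr C p (cx (tr φ P.E) x)).a1 = 0 := by
        change (p.1 : K) * (cx (tr φ P.E) x).a1 = 0
        rw [hx.2.1, mul_zero]
      rw [this, add_zero] at m1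
      exact m1.symm
    have n6 : (cx (tr φ P.E) y).a6 = 0 := by
      have : (gr C p (cx (tr φ P.E) x)).a6 = 0 := by
        change (p.2 : F) * (cx (tr φ P.E) x).a6 = 0
        rw [hx.2.2.2, mul_zero]
      rw [this, add_zero] at m6
      exact m6.symm
    have n5 : (cx (tr φ P.E) y).a5 = 0 := by
      have : (gr C p (cx (tr φ P.E) x)).a5 = 0 := by
        change (p.1 : K) * algebraMap F K p.2 * (cx (tr φ P.E) x).a5 = 0
        rw [hx.2.2.1, mul_zero]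
      rw [this, add_zero, add_zero] at m5
      exact m5.symm
    have n3 : (cx (tr φ P.E) y).a3 = 0 := by
      have : (gr C p (cx (tr φ P.E) x)).a3 = (cx (tr φ P.E) x).a3 := by
        change C.sh (p.1 : K) * algebraMap F K p.2 * (cx (tr φ P.E) x).a3 = _
        have e1 : C.sh (p.1 : K) * algebraMap F K p.2 = 1 := by
          have e2 : (p.1 : K) = algebraMap F K ((l⁻¹ : Fˣ) : F) := rfl
          have e3 : (p.2 : F) = (l : F) ^ 2 := by
            rw [← Units.val_pow_eq_pow_val]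
          rw [e2, e3, C.sh_map, map_pow, ← mul_pow, ← map_mul, ← Units.val_mul, inv_mul_cancel, Units.val_one,
            map_one, one_pow]
        rw [e1, one_mul]
      rw [this, n6, zero_smul, add_zero, C.cr_zero_left, add_zero] at m3
      exact right_eq_add.1 m3
    have hyE : y ∈ E2 P.E := by
      rw [← E2_tr hφ]
      exact ⟨hyS, n1, n3, n5, n6⟩
    have e2 := Pc.map_spec (X := pc5 P.E) hn.RR hn.F0 hxR
    change (cx P.E _).a5 = (pc5 P.E).map (h p) (cx P.E x).a5 at e2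
    rw [h5] at e2
    change (cx P.E (h p * x * (h p)⁻¹)).a5 = _ at e2
    rw [← hyx, a5_mod hyE hxR] at e2
    by_contra hne
    apply hl'
    apply (algebraMap F K).injective
    rw [map_one]
    apply mul_right_cancel₀ hne
    rw [← e2, one_mul]
  intro g hg x hx
  have h1 := hR g hg x (key hx)
  rw [← E2_tr hφ] at h1
  exact h1

/-- the construction of `Par` from normalised data -/
theorem exists_par_of_PN (P : PN C G) (hR : RInv P) (hq : 4 ≤ Nat.card F) :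
    ∃ Q : Par C G, Q.S = P.S ∧ Q.L1 = P.L1 ∧ Q.L2 = P.L2 ∧ Da Q.E = Da P.E ∧ Db Q.E = Db P.E ∧
      ∀ g ∈ Q.L2, ∀ x ∈ F0 Q.E, g * x * g⁻¹ * x⁻¹ ∈ E2 Q.E := by
  have hcF := charPF C
  have hcK := charPK C
  obtain ⟨h, hh⟩ := exists_torus hR hq
  obtain ⟨φ, hφ, hgr⟩ := exists_graded hq h (fun p => (hh p).2)
  have hR' := RInv_chg hR hq h hh hφ hgr
  set E' : Coord C P.S := tr φ P.E with hE'
  -- conjugation formulas
  have hconj : ∀ (p : Kˣ × Fˣ) (s s' : P.S), E'.e s' = gr C p (E'.e s) →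
      h p * (s : G) * (h p)⁻¹ = (s' : G) := by
    intro p s s' hs
    have h1 := hgr p s ⟨h p * s * (h p)⁻¹, (hh p).2.pS s s.2⟩ rfl
    rw [← hs] at h1
    exact congrArg Subtype.val (E'.e.injective h1)
  have h_inj : Function.Injective h := by
    rw [injective_iff_map_eq_one]
    intro p hp
    have h1 := (hh p).2
    rw [hp] at h1
    exact h1.unique Acts.one
  have hTS : ∀ p, h p ∈ P.S → h p = 1 := by
    intro p hp
    have h1 := (hh p).2.unique (acts_of_mem hp)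
    rw [h1, map_one]
  let T : Torus C G :=
    { S := P.S
      E := E'
      h := h
      h_inj := h_inj
      conj1 := fun a m t => hconj (a, m) _ _ (by rw [E'.e_x1, E'.e_x1]; simp [gr])
      conj2 := fun a m t => hconj (a, m) _ _ (by rw [E'.e_x2, E'.e_x2]; simp [gr])
      conj3 := fun a m t => hconj (a, m) _ _ (by rw [E'.e_x3, E'.e_x3]; simp [gr])
      conj4 := fun a m t => hconj (a, m) _ _ (by rw [E'.e_x4, E'.e_x4]; simp [gr])
      conj5 := fun a m t => hconj (a, m) _ _ (by rw [E'.e_x5, E'.e_x5]; simp [gr])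
      conj6 := fun a m t => hconj (a, m) _ _ (by rw [E'.e_x6, E'.e_x6]; simp [gr]) }
  obtain ⟨p1, p1s, p1k, p1S, p1T⟩ := P.H1.renorm (f_mul_one hR hq) (T := h.range ⊓ P.L1) inf_le_right
    (by
      rintro _ ⟨⟨p, rfl⟩, -⟩ _ ⟨⟨q, rfl⟩, -⟩
      rw [← map_mul, ← map_mul, mul_comm])
    (by
      rintro _ ⟨⟨p, rfl⟩, -⟩ hp
      exact hTS p hp)
    (by
      rintro _ ⟨⟨p, rfl⟩, -⟩
      exact (hh p).2.pS)
  obtain ⟨p2, p2s, p2k, p2S, p2T⟩ := P.H2.renorm (f_mul_two hq) (T := h.range ⊓ P.L2) inf_le_right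
    (by
      rintro _ ⟨⟨p, rfl⟩, -⟩ _ ⟨⟨q, rfl⟩, -⟩
      rw [← map_mul, ← map_mul, mul_comm])
    (by
      rintro _ ⟨⟨p, rfl⟩, -⟩ hp
      exact hTS p hp)
    (by
      rintro _ ⟨⟨p, rfl⟩, -⟩
      exact (hh p).2.pS)
  have ha_mem : ∀ a : Kˣ, h (a ^ 2, (C.Nu a)⁻¹) ∈ P.L1 := by
    intro a
    apply mem_L1 hR hq (hh _).1 _ (hh _).2
    rw [map_pow, inv_pow, mul_inv_cancel]
  have hb_mem : ∀ m : Fˣ, h (emb F K m⁻¹, m ^ 2) ∈ P.L2 := fun m => mem_L2 hR hq (hh _).1 (hh _).2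
  have hα1 : ∀ g, P.H1.α g = (cx E' g).a1 := (chg P hφ).α1
  have hα2 : ∀ g, P.H2.α g = (cx E' g).a6 := (chg P hφ).α2
  have hx1 : ∀ (t : K) (g : P.L1), (g : G) = E'.x1 t → p1 g = u t := by
    intro t g hg
    have h1 := p1S (E'.x1 t) (E'.x1 t).2
    rw [hα1, cx_x1] at h1
    rw [← h1]
    congr 1
    exact Subtype.ext hg
  have hx6 : ∀ (t : F) (g : P.L2), (g : G) = E'.x6 t → p2 g = u t := by
    intro t g hg
    have h1 := p2S (E'.x6 t) (E'.x6 t).2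
    rw [hα2, cx_x6] at h1
    rw [← h1]
    congr 1
    exact Subtype.ext hg
  refine ⟨{ T with
    L1 := P.L1
    L2 := P.L2
    S_le1 := P.H1.le
    S_le2 := P.H2.le
    h_L1 := fun p => BB_L1 (hh p).1
    h_L2 := fun p => BB_L2 (hh p).1
    p1 := p1
    p2 := p2
    p1_surj := p1s
    p2_surj := p2s
    p1_ker := fun g => by
      rw [p1k]
      constructor
      · rintro ⟨h1, h2⟩
        rw [hα1, cx_eq h1] at h2
        exact ⟨⟨g, h1⟩, rfl, h2⟩
      · rintro ⟨s, h1, h2⟩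
        rw [← h1, hα1, cx_coe]
        exact ⟨s.2, h2⟩
    p2_ker := fun g => by
      rw [p2k]
      constructor
      · rintro ⟨h1, h2⟩
        rw [hα2, cx_eq h1] at h2
        exact ⟨⟨g, h1⟩, rfl, h2⟩
      · rintro ⟨s, h1, h2⟩
        rw [← h1, hα2, cx_coe]
        exact ⟨s.2, h2⟩
    p1_x1 := hx1
    p2_x6 := hx6
    ha_mem := ha_mem
    hb_mem := hb_mem
    p1_h := fun a g hg => by
      obtain ⟨l, hl⟩ := p1T (g : G) ⟨⟨_, hg.symm⟩, g.2⟩
      have hl' : p1 g = d l := hl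
      have h1 := T.conj1 (a ^ 2) ((C.Nu a)⁻¹) 1
      have h2 : (g : G) * (E'.x1 1 : G) * (g : G)⁻¹ = (E'.x1 (((a ^ 2 : Kˣ) : K) * 1) : G) := by
        rw [hg]; exact h1
      have h3 := hx1 _ (g * ⟨E'.x1 1, P.H1.le (E'.x1 1).2⟩ * g⁻¹) h2
      rw [map_mul, map_mul, map_inv, hl', hx1 1 _ rfl, d_conj_u] at h3
      have h4 := u_injective h3
      rw [mul_one, mul_one] at h4
      have h5 : l = a := by
        have h6 : (l * a⁻¹) ^ 2 = 1 := by
          have h7 : l ^ 2 = a ^ 2 := by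
            apply Units.ext
            rw [Units.val_pow_eq_pow_val]
            exact h4
          rw [mul_pow, h7, inv_pow, mul_inv_cancel]
        have h7 : l * a⁻¹ = 1 := sq_eq_one_unit (by rw [← Units.val_pow_eq_pow_val, h6, Units.val_one])
        rwa [mul_inv_eq_one] at h7
      rw [hl', h5]
    p2_h := fun m g hg => by
      obtain ⟨l, hl⟩ := p2T (g : G) ⟨⟨_, hg.symm⟩, g.2⟩
      have hl' : p2 g = d l := hl
      have h1 := T.conj6 (emb F K m⁻¹) (m ^ 2) 1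
      have h2 : (g : G) * (E'.x6 1 : G) * (g : G)⁻¹ = (E'.x6 (((m ^ 2 : Fˣ) : F) * 1) : G) := by
        rw [hg]; exact h1
      have h3 := hx6 _ (g * ⟨E'.x6 1, P.H2.le (E'.x6 1).2⟩ * g⁻¹) h2
      rw [map_mul, map_mul, map_inv, hl', hx6 1 _ rfl, d_conj_u] at h3
      have h4 := u_injective h3
      rw [mul_one, mul_one] at h4
      have h5 : l = m := by
        have h6 : (l * m⁻¹) ^ 2 = 1 := by
          have h7 : l ^ 2 = m ^ 2 := by
            apply Units.ext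
            rw [Units.val_pow_eq_pow_val]
            exact h4
          rw [mul_pow, h7, inv_pow, mul_inv_cancel]
        have h7 : l * m⁻¹ = 1 := sq_eq_one_unit (by rw [← Units.val_pow_eq_pow_val, h6, Units.val_one])
        rwa [mul_inv_eq_one] at h7
      rw [hl', h5]
    L1_x4 := fun g hg t => (chg P hφ).L1_centZ hg (x4_mem E' t) }, rfl, rfl, rfl, Da_tr hφ, Db_tr hφ, hR'⟩

/-! ### The input -/

/-- the pair of parabolic subgroups, input form -/
structure ParIn (C : Cubic F K) (G : Type*) [Group G] [Finite G] where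
  S : Subgroup G
  E : Coord C S
  L1 : Subgroup G
  L2 : Subgroup G
  S_le1 : S ≤ L1
  S_le2 : S ≤ L2
  p1 : L1 →* SpecialLinearGroup (Fin 2) K
  p2 : L2 →* SpecialLinearGroup (Fin 2) F
  p1_surj : Function.Surjective p1
  p2_surj : Function.Surjective p2
  p1_ker : ∀ g : L1, p1 g = 1 ↔ (g : G) ∈ Da E
  p2_ker : ∀ g : L2, p2 g = 1 ↔ (g : G) ∈ Db E
  n1 : ∀ b ∈ L1, (∀ s ∈ S, b * s * b⁻¹ ∈ S) →
    (∀ g ∈ Db E, b * g * b⁻¹ ∈ Db E) ∧ ∀ g ∈ L2, b * g * b⁻¹ ∈ L2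
  n2 : ∀ b ∈ L2, (∀ s ∈ S, b * s * b⁻¹ ∈ S) →
    (∀ g ∈ Da E, b * g * b⁻¹ ∈ Da E) ∧ ∀ g ∈ L1, b * g * b⁻¹ ∈ L1

namespace ParIn

theorem half1 (P : ParIn C G) : ∃ H : Half K P.L1 P.S, H.α = fun g => (cx P.E g).a1 := by
  have := charPK C
  apply exists_half P.S_le1 P.p1 P.p1_surj (fun g => (cx P.E g).a1) (fun g hg h hh => a1_mul hg hh)
    (fun v => ⟨P.E.x1 v, (P.E.x1 v).2, by rw [cx_x1]⟩)
  intro g
  rw [P.p1_ker, mem_Da]

theorem half2 (P : ParIn C G) : ∃ H : Half F P.L2 P.S, H.α = fun g => (cx P.E g).a6 := by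
  have := charPF C
  apply exists_half P.S_le2 P.p2 P.p2_surj (fun g => (cx P.E g).a6) (fun g hg h hh => a6_mul hg hh)
    (fun v => ⟨P.E.x6 v, (P.E.x6 v).2, by rw [cx_x6]⟩)
  intro g
  rw [P.p2_ker, mem_Db]

/-- normalisation -/
noncomputable def pn (P : ParIn C G) : PN C G where
  S := P.S
  E := P.E
  L1 := P.L1
  L2 := P.L2
  H1 := P.half1.choose
  H2 := P.half2.choose
  α1 g := by rw [P.half1.choose_spec]
  α2 g := by rw [P.half2.choose_spec]
  n1 := P.n1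
  n2 := P.n2

/-- change of coordinates -/
def chE (P : ParIn C G) (E' : Coord C P.S) (ha : Da E' = Da P.E) (hb : Db E' = Db P.E) : ParIn C G where
  S := P.S
  E := E'
  L1 := P.L1
  L2 := P.L2
  S_le1 := P.S_le1
  S_le2 := P.S_le2
  p1 := P.p1
  p2 := P.p2
  p1_surj := P.p1_surj
  p2_surj := P.p2_surj
  p1_ker g := by rw [P.p1_ker, ha]
  p2_ker g := by rw [P.p2_ker, hb]
  n1 := by rw [hb]; exact P.n1
  n2 := by rw [ha]; exact P.n2

/-- **(R1)** The graded torus. -/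
theorem exists_par (P : ParIn C G) (hq : 4 ≤ Nat.card F)
    (hd : (∀ t, (∀ r, C.cr t r = 0) → t = 0) ∨
      ((∀ t r, C.cr t r = 0) ∧ Function.Surjective (algebraMap F K))) :
    ∃ Q : Par C G, Q.S = P.S ∧ Q.L1 = P.L1 ∧ Q.L2 = P.L2 ∧ Da Q.E = Da P.E ∧ Db Q.E = Db P.E ∧
      ∀ g ∈ Q.L2, ∀ x ∈ F0 Q.E, g * x * g⁻¹ * x⁻¹ ∈ E2 Q.E := by
  obtain ⟨E', ha, hb, hR⟩ : ∃ E' : Coord C P.S, Da E' = Da P.E ∧ Db E' = Db P.E ∧
      ∀ g ∈ P.L2, ∀ x ∈ F0 E', g * x * g⁻¹ * x⁻¹ ∈ E2 E' := by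
    rcases hd with hd | ⟨hcr, hs⟩
    · exact ⟨P.E, rfl, rfl, RInv_three P.pn hd⟩
    · exact RInv_one P.pn hcr hs hq
  obtain ⟨Q, h1, h2, h3, h4, h5, h6⟩ := exists_par_of_PN (P.chE E' ha hb).pn hR hq
  exact ⟨Q, h1, h2, h3, h4.trans ha, h5.trans hb, h6⟩

end ParIn

end Cfsg.Agent.HexRec.TorMain
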