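import Cfsg.Agent.HexGlob.LevSpec
import Cfsg.Agent.HexRec.TorMain
import Cfsg.Agent.HexRec.ToU
import Cfsg.Agent.HexRec.Out

/-!
# From the output of the global analysis to `Par`
-/

set_option autoImplicit false
set_option linter.unusedSectionVars false

namespace Cfsg.Agent.HexRec.TorLev

open Cfsg.Agent.HexRec Cfsg.Agent.HexEss Subgroup Matrix TorSec TorIn TorOne TorMain

universe u v

variable {F K : Type v} [Field F] [Field K] [Algebra F K] {C : Cubic F K}

/-- the case division on the degree -/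
theorem deg_cases (hD : HexGlob.Dat C) : (∀ t, (∀ r, C.cr t r = 0) → t = 0) ∨
    ((∀ t r, C.cr t r = 0) ∧ Function.Surjective (algebraMap F K)) := by
  rcases hD.deg with hs | h3
  · right
    refine ⟨fun t r => ?_, hs⟩
    obtain ⟨a, rfl⟩ := hs t
    obtain ⟨b, rfl⟩ := hs r
    unfold Cubic.cr
    rw [← map_add, C.sh_map, C.sh_map, C.sh_map, map_add]
    linear_combination (algebraMap F K a ^ 2 + algebraMap F K b ^ 2 + algebraMap F K a * algebraMap F K b) * C.two_K
  · left
    intro t ht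
    by_contra hne
    have h1 : Module.finrank F K = 1 :=
      (finrank_eq_one_iff_of_nonzero' t hne).2 (fun w => by
        obtain ⟨f, hf⟩ := exists_smul_of_cr_eq_zero hD.reg hne (ht w)
        exact ⟨f, hf.symm⟩)
    omega

variable {G : Type u} [Group G] [Finite G] {S : Sylow 2 G} {co : Coord C (S : Subgroup G)}

theorem mem_normalizer_of_pres {b : G} {M : Subgroup G} (h : ∀ s ∈ M, b * s * b⁻¹ ∈ M) :
    b ∈ normalizer (M : Set G) := by
  rw [mem_normalizer_iff]
  intro s
  refine ⟨h s, fun hs => ?_⟩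
  have h1 := Pres.inv (b := b) (M := M) h _ hs
  have e : b⁻¹ * (b * s * b⁻¹) * b⁻¹⁻¹ = s := by group
  rwa [e] at h1

/-- the input of the torus construction -/
noncomputable def parIn (L : HexGlob.Lev S co) : ParIn C G where
  S := S
  E := co
  L1 := HexGlob.L1 S co
  L2 := HexGlob.L2 S co
  S_le1 := HexGlob.le_conjClosure _ _
  S_le2 := HexGlob.le_conjClosure _ _
  p1 := L.p1
  p2 := L.p2
  p1_surj := L.p1_surj
  p2_surj := L.p2_surj
  p1_ker := L.p1_ker
  p2_ker := L.p2_ker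
  n1 := fun b _ hS => by
    have h1 := L.ns.nDb (mem_normalizer_of_pres hS)
    exact ⟨fun g hg => conj_mem_of_le (N := normalizer ((Db co : Subgroup G) : Set G)) le_rfl h1 hg,
      fun g hg => conj_mem_of_le L.nS2 h1 hg⟩
  n2 := fun b _ hS => by
    have h1 := L.ns.nDa (mem_normalizer_of_pres hS)
    exact ⟨fun g hg => conj_mem_of_le (N := normalizer ((Da co : Subgroup G) : Set G)) le_rfl h1 hg,
      fun g hg => conj_mem_of_le L.nS1 h1 hg⟩

/-- **the torus theorem** for the output of the global analysis -/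
theorem exists_par (hD : HexGlob.Dat C) [Finite K] (L : HexGlob.Lev S co) :
    ∃ Q : Par C G, Q.S = (S : Subgroup G) ∧ Q.L1 = HexGlob.L1 S co ∧ Q.L2 = HexGlob.L2 S co ∧
      (Q.E.x3 1 : G) ∈ F0 co ∧ (Q.E.x3 1 : G) ∉ E2 co := by
  have hq := hD.q4
  have hfin : Finite F := Nat.finite_of_card_ne_zero (by omega)
  obtain ⟨Q, h1, h2, h3, h4, h5, h6⟩ := (parIn L).exists_par hq (deg_cases hD)
  refine ⟨Q, h1, h2, h3, ?_⟩
  have h5' : Db Q.E = Db co := h5
  have hE : E2 Q.E = E2 co := by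
    ext g
    rw [mem_E2_iff_cent, mem_E2_iff_cent, h5']
  have h3' : Q.L2 = HexGlob.L2 S co := h3
  constructor
  · have hR : RInv (parIn L).pn := fun g hg x hx => L.out2.triv g hg x hx
    refine (mem_F0_iff_L2 hR hq _).2 ⟨?_, fun x hx => ?_⟩
    · change (Q.E.x3 1 : G) ∈ Db co
      rw [← h5']
      exact F0_le_Db ((pc3 Q.E).x_mem 1)
    · change x * (Q.E.x3 1 : G) * x⁻¹ * (Q.E.x3 1 : G)⁻¹ ∈ E2 co
      rw [← hE]
      apply h6 x _ _ ((pc3 Q.E).x_mem 1)
      rw [h3']; exact hx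
  · rw [← hE]
    intro h
    have h7 := h.2.2.1
    rw [cx_x3] at h7
    exact one_ne_zero h7

/-- **the recognition** for the output of the global analysis: a generating frame -/
theorem exists_frame (hD : HexGlob.Dat C) [Finite K] (L : HexGlob.Lev S co) :
    ∃ Φ : Frame C G, Subgroup.closure ((Φ.S : Set G) ∪ {Φ.na, Φ.nb}) = ⊤ ∧ Φ.S = (S : Subgroup G) := by
  have hq := hD.q4
  have hfin : Finite F := Nat.finite_of_card_ne_zero (by omega)
  obtain ⟨Q, h1, h2, h3, h4, h5⟩ := exists_par hD L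
  have hF : ∃ m : Fˣ, m ≠ 1 := by
    obtain ⟨m, hm⟩ := Cfsg.Agent.ClassTwo.Sp4SL2.exists_unit_ne_one hq
    exact ⟨m, fun h => hm (by rw [h, Units.val_one])⟩
  obtain ⟨Φ, hΦ, hS⟩ := Q.exists_frame hF
    (fun x hxx hx => by rw [h3]; exact ToU.mem_L2_of_lev L h4 h5 hxx hx) (by rw [h2, h3]; exact L.gen)
  exact ⟨Φ, hΦ, hS.trans h1⟩

end Cfsg.Agent.HexRec.TorLev
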