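import Cfsg.Agent.HexRec.TorR

/-!
# The actions of the two Borel subgroups

Assume that `L2` centralises `F0/E2`.  `b ∈ L2 ∩ N(S)` acts on the sections `1`, `6` by `λ⁻¹`, `λ²`, and
`b ∈ L1 ∩ N(S)` acts by `α`, `μ` with `N(α) μ² = 1`.
-/

set_option autoImplicit false
set_option linter.unusedSectionVars false
set_option linter.unusedVariables false

namespace Cfsg.Agent.HexRec.TorOne

open Cfsg.Agent.HexRec Cfsg.Agent.HexEss Subgroup Matrix TorHalf TorSec TorIn TorY TorR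
open Cfsg.Agent.ClassTwo.Sp4Defs Cfsg.Agent.ClassTwo.Sp4SL2

variable {F K : Type*} [Field F] [Field K] [Algebra F K] {C : Cubic F K} {G : Type*} [Group G] [Finite G]
  {P : PN C G} [Finite F]

/-- `L2` centralises `F0 / E2` -/
def RInv (P : PN C G) : Prop := ∀ g ∈ P.L2, ∀ x ∈ F0 P.E, g * x * g⁻¹ * x⁻¹ ∈ E2 P.E

theorem pres_F0_two (hR : RInv P) {b : G} (hb : b ∈ P.L2) : Pres b (F0 P.E) := by
  intro x hx
  have h1 := mul_mem (E2_le_F0 (hR b hb x hx)) hx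
  have h2 : b * x * b⁻¹ * x⁻¹ * x = b * x * b⁻¹ := by group
  rwa [h2] at h1

theorem nice_two (hR : RInv P) (b : P.L2) (hb : Pres (b : G) P.S) : Nice P.E (b : G) where
  S := hb
  Da := (P.n2 b b.2 hb).1
  Db := P.L2_Db b.2
  F0 := pres_F0_two hR b.2
  E2 := P.L2_E2 b.2
  Z := pres_Z (P.n2 b b.2 hb).1

/-- the action of the second Borel subgroup -/
theorem act_two (hR : RInv P) (hq : 4 ≤ Nat.card F) (b : P.L2) (hb : Pres (b : G) P.S) :
    ∃ l : Fˣ, (∀ t, (pc1 P.E).map (b : G) t = algebraMap F K ((l⁻¹ : Fˣ) : F) * t) ∧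
      (∀ t, (pc6 P.E).map (b : G) t = (l : F) ^ 2 * t) ∧
      ∀ t, (pc5 P.E).map (b : G) t = algebraMap F K (l : F) * t := by
  obtain ⟨l, h6, h2, h4⟩ := exists_lam hq b hb
  have hn := nice_two hR b hb
  have h3 : ∀ t, (pc3 P.E).map (b : G) t = t := fun t => Pc.map_of_comm (X := pc3 P.E) (hR b b.2) t
  have h1 : ∀ t, (pc1 P.E).map (b : G) t = algebraMap F K ((l⁻¹ : Fˣ) : F) * t := by
    intro t
    apply T_ext (C := C)
    intro c
    have h5 := r3 hn t c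
    rw [h2, h3] at h5
    rw [← Algebra.smul_def, C.T_smul_left]
    exact h5.symm
  refine ⟨l, h1, h6, fun t => ?_⟩
  have h5 := r1 hn 1 t
  rw [one_smul, h6, h1, mul_one, Algebra.smul_def, ← mul_assoc, ← map_mul] at h5
  rw [h5]
  congr 2
  have : (l : F) * ((l⁻¹ : Fˣ) : F) = 1 := by rw [← Units.val_mul, mul_inv_cancel, Units.val_one]
  linear_combination (l : F) * this

/-- characterisation of `F0` -/
theorem mem_F0_iff_L2 (hR : RInv P) (hq : 4 ≤ Nat.card F) (g : G) :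
    g ∈ F0 P.E ↔ g ∈ Db P.E ∧ ∀ x ∈ P.L2, x * g * x⁻¹ * g⁻¹ ∈ E2 P.E := by
  have := charPF C
  constructor
  · intro h
    exact ⟨F0_le_Db h, fun x hx => hR x hx g h⟩
  · rintro ⟨hg, h⟩
    have h1 : (cx P.E g).a1 = 0 := by
      have h2 := (h _ (P.H2.le (P.E.x6 1).2)).2.2.2.1
      have h3 := a5_cm (co := P.E) (P.E.x6 1).2 hg.1
      unfold cm at h3
      rw [h2, cx_x6, one_smul, smul_zero, add_zero] at h3
      exact h3.symm
    have hgR : g ∈ RR P.E := ⟨hg.1, h1, hg.2⟩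
    refine ⟨hg.1, h1, ?_, hg.2⟩
    obtain ⟨l, hl⟩ := exists_unit_ne_one hq
    obtain ⟨b, hbS, hb6⟩ := exists_of_lam (P := P) l
    obtain ⟨l', -, h6, h5⟩ := act_two hR hq b hbS
    have hn := nice_two hR b hbS
    have e1 : (b : G) * g * (b : G)⁻¹ = ((b : G) * g * (b : G)⁻¹ * g⁻¹) * g := by group
    have e2 := Pc.map_spec (X := pc5 P.E) hn.RR hn.F0 hgR
    change (cx P.E _).a5 = (pc5 P.E).map b (cx P.E g).a5 at e2
    rw [h5, e1, a5_mod (h b b.2) hgR] at e2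
    by_contra hne
    have e3 : algebraMap F K (l' : F) = 1 := by
      apply mul_right_cancel₀ hne
      rw [← e2, one_mul]
    have e4 : (l' : F) = 1 := by
      apply (algebraMap F K).injective
      rw [e3, map_one]
    have e5 := h6 1
    rw [hb6, e4, mul_one, one_pow] at e5
    exact sq_ne_one hl (by rw [e5, sub_self])

theorem nice_one (hR : RInv P) (hq : 4 ≤ Nat.card F) (b : P.L1) (hb : Pres (b : G) P.S) : Nice P.E (b : G) where
  S := hb
  Da := P.L1_Da b.2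
  Db := (P.n1 b b.2 hb).1
  F0 := by
    have hDb := (P.n1 b b.2 hb).1
    have hL2 := (P.n1 b b.2 hb).2
    intro g hg
    rw [mem_F0_iff_L2 hR hq] at hg ⊢
    refine ⟨hDb g hg.1, fun x hx => ?_⟩
    have h1 := pres_E2 hDb _ (hg.2 _ (hL2.inv x hx))
    have e : (b : G) * ((b : G)⁻¹ * x * (b : G)⁻¹⁻¹ * g * ((b : G)⁻¹ * x * (b : G)⁻¹⁻¹)⁻¹ * g⁻¹) * (b : G)⁻¹ =
      x * ((b : G) * g * (b : G)⁻¹) * x⁻¹ * ((b : G) * g * (b : G)⁻¹)⁻¹ := by group
    rwa [e] at h1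
  E2 := pres_E2 (P.n1 b b.2 hb).1
  Z := P.L1_Z b.2

variable [Finite K]

/-- the consequences of `A4 = 1` -/
theorem one_aux (hR : RInv P) (hq : 4 ≤ Nat.card F) (b : P.L1) (hb : Pres (b : G) P.S) :
    ∃ μ : F, μ ≠ 0 ∧ (∀ t, (pc6 P.E).map (b : G) t = μ * t) ∧ (pc1 P.E).map (b : G) 1 ≠ 0 ∧
      μ ^ 2 * C.N ((pc1 P.E).map (b : G) 1) = 1 ∧
      ∀ s t, (pc1 P.E).map (b : G) (s * t) / (pc1 P.E).map (b : G) 1 =
        (pc1 P.E).map (b : G) s / (pc1 P.E).map (b : G) 1 *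
          ((pc1 P.E).map (b : G) t / (pc1 P.E).map (b : G) 1) := by
  have := charPF C
  have hn := nice_one hR hq b hb
  have h4 : ∀ t, (pc4 P.E).map (b : G) t = t := by
    intro t
    apply Pc.map_of_comm (X := pc4 P.E)
    intro z hz
    rw [P.L1_centZ b.2 hz, mul_inv_cancel]
    exact one_mem _
  have hr2 : ∀ s p, s * p = (pc6 P.E).map (b : G) s * (pc2 P.E).map (b : G) p := by
    intro s p
    rw [← r2 hn.S hn.Db hn.Z, h4]
  set μ := (pc6 P.E).map (b : G) 1 with hμ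
  have e1 := hr2 1 1
  rw [mul_one] at e1
  have hμ0 : μ ≠ 0 := left_ne_zero_of_mul (e1 ▸ one_ne_zero)
  have h6 : ∀ t, (pc6 P.E).map (b : G) t = μ * t := by
    intro t
    have e2 := hr2 t 1
    rw [mul_one] at e2
    have e3 : (pc2 P.E).map (b : G) 1 ≠ 0 := right_ne_zero_of_mul (e1 ▸ one_ne_zero)
    apply mul_right_cancel₀ e3
    rw [← e2, mul_assoc, mul_comm t, ← mul_assoc, ← e1, one_mul]
  have hr1 : ∀ (s : F) t, (pc5 P.E).map (b : G) (s • t) = (μ * s) • (pc1 P.E).map (b : G) t := by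
    intro s t
    rw [r1 hn, h6]
  have h5 : ∀ t, (pc5 P.E).map (b : G) t = μ • (pc1 P.E).map (b : G) t := by
    intro t
    have := hr1 1 t
    rwa [one_smul, mul_one] at this
  have hsm : ∀ (s : F) t, (pc1 P.E).map (b : G) (s • t) = s • (pc1 P.E).map (b : G) t := by
    intro s t
    have e2 := hr1 s t
    rw [h5, mul_smul] at e2
    exact smul_right_injective K hμ0 e2
  have hT : ∀ r s, C.T r s = μ * C.T ((pc1 P.E).map (b : G) r) ((pc3 P.E).map (b : G) s) := by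
    intro r s
    rw [← C.T_smul_left, ← h5, ← r4 hn, h4]
  obtain ⟨f, hf⟩ := exists_unit_ne_one hq
  refine ⟨μ, hμ0, h6, ?_⟩
  exact TorAlg.sim C ⟨f, f.ne_zero, hf⟩ (A1 := (pc1 P.E).map (b : G)) (A3 := (pc3 P.E).map (b : G))
    (g := fun r => (cx P.E ((b : G) * (P.E.x5 r : G) * (b : G)⁻¹)).a3)
    (e := fun s => (cx P.E ((b : G) * (P.E.x6 s : G) * (b : G)⁻¹)).a5) hμ0
    (Pc.map_add (X := pc1 P.E) hn.S hn.Da) hsm (Pc.map_bij (X := pc1 P.E) hn.S hn.Da).1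
    (Pc.map_add (X := pc3 P.E) hn.F0 hn.E2) hT (fun s t => by
      have := rst hn s t
      rw [h6] at this
      exact this)

theorem lin1 (hR : RInv P) (hq : 4 ≤ Nat.card F) (b : P.L1) (hb : Pres (b : G) P.S) (t : K) :
    (pc1 P.E).map (b : G) t = (pc1 P.E).map (b : G) 1 * t := by
  have := charPK C
  refine Half_lin P.H1 (fun b t => (pc1 P.E).map b t) (fun b s a hb t => P.act1 hb t) (fun b hb => ?_) b hb t
  obtain ⟨μ, -, -, h1, -, h2⟩ := one_aux hR hq b hb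
  exact ⟨h1, h2⟩

/-- the action of the first Borel subgroup -/
theorem act_one (hR : RInv P) (hq : 4 ≤ Nat.card F) (b : P.L1) (hb : Pres (b : G) P.S) :
    ∃ (α : Kˣ) (μ : Fˣ), C.Nu α * μ ^ 2 = 1 ∧ (∀ t, (pc1 P.E).map (b : G) t = α * t) ∧
      ∀ t, (pc6 P.E).map (b : G) t = μ * t := by
  obtain ⟨μ, hμ, h6, h1, h2, -⟩ := one_aux hR hq b hb
  refine ⟨Units.mk0 _ h1, Units.mk0 _ hμ, ?_, fun t => ?_, fun t => ?_⟩
  · ext
    simp only [Units.val_mul, Cubic.coe_Nu, Units.val_pow_eq_pow_val, Units.val_mk0, Units.val_one]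
    linear_combination h2
  · rw [lin1 hR hq b hb, Units.val_mk0]
  · rw [h6, Units.val_mk0]

/-- all `α` occur -/
theorem exists_of_alpha (α : Kˣ) : ∃ b : P.L1, Pres (b : G) P.S ∧ (pc1 P.E).map (b : G) 1 = α := by
  have := charPK C
  have hf1 : P.H1.f 1 ≠ 0 := by
    intro h; exact one_ne_zero (P.H1.f.injective (h.trans (map_zero _).symm))
  have hfl : P.H1.f (α : K) ≠ 0 := by
    intro h
    exact α.ne_zero (P.H1.f.injective (h.trans (map_zero _).symm))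
  obtain ⟨a, ha⟩ := exists_sq_eq _ (div_ne_zero hfl hf1)
  obtain ⟨b, hb⟩ := P.H1.surj (d a)
  have hb0 : P.H1.p b = u 0 * d a := by rw [hb, u_zero, one_mul]
  refine ⟨b, fun g hg => (P.H1.bor_conj hb0 hg).1, ?_⟩
  apply P.H1.f.injective
  rw [P.act1 hb0, ha]
  field_simp

theorem sq_eq_one_unit {k : Type*} [Field k] [CharP k 2] {a : kˣ} (h : (a : k) ^ 2 = 1) : a = 1 := by
  by_contra hne
  have h1 : (a : k) ≠ 1 := fun h => hne (Units.ext h)
  exact sq_ne_one h1 (by rw [h, sub_self])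

/-- elements acting trivially lie in `S` -/
theorem mem_S_one (b : P.L1) (hb : Pres (b : G) P.S) (h : (pc1 P.E).map (b : G) 1 = 1) : (b : G) ∈ P.S := by
  have := charPK C
  obtain ⟨s, a, hsa⟩ := P.H1.lower hb
  have h1 := P.act1 hsa 1
  rw [h] at h1
  have hf1 : P.H1.f 1 ≠ 0 := by
    intro h; exact one_ne_zero (P.H1.f.injective (h.trans (map_zero _).symm))
  have h2 : (a : K) ^ 2 = 1 := by
    apply mul_right_cancel₀ hf1
    rw [← h1, one_mul]
  rw [sq_eq_one_unit h2, d_one, mul_one] at hsa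
  exact (P.H1.mem_S hsa).1

theorem mem_S_two (b : P.L2) (hb : Pres (b : G) P.S) (h : (pc6 P.E).map (b : G) 1 = 1) : (b : G) ∈ P.S := by
  have := charPF C
  obtain ⟨s, a, hsa⟩ := P.H2.lower hb
  have h1 := P.act6 hsa 1
  rw [h] at h1
  have hf1 : P.H2.f 1 ≠ 0 := by
    intro h; exact one_ne_zero (P.H2.f.injective (h.trans (map_zero _).symm))
  have h2 : (a : F) ^ 2 = 1 := by
    apply mul_right_cancel₀ hf1
    rw [← h1, one_mul]
  rw [sq_eq_one_unit h2, d_one, mul_one] at hsa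
  exact (P.H2.mem_S hsa).1

/-- semilinearity data for the renormalisation -/
theorem f_mul_one (hR : RInv P) (hq : 4 ≤ Nat.card F) (x t : K) :
    P.H1.f (x * t) * P.H1.f 1 = P.H1.f x * P.H1.f t := by
  by_cases hx : x = 0
  · rw [hx, zero_mul, map_zero]; ring
  obtain ⟨b, hbS, hb⟩ := exists_of_alpha (P := P) (Units.mk0 x hx)
  rw [Units.val_mk0] at hb
  obtain ⟨s, a, hsa⟩ := P.H1.lower hbS
  have h1 := P.act1 hsa t
  have h2 := P.act1 hsa 1
  rw [lin1 hR hq b hbS, hb] at h1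
  rw [hb] at h2
  rw [h1, h2]; ring

theorem f_mul_two (hq : 4 ≤ Nat.card F) (x t : F) :
    P.H2.f (x * t) * P.H2.f 1 = P.H2.f x * P.H2.f t := by
  have := charPF C
  by_cases hx : x = 0
  · rw [hx, zero_mul, map_zero]; ring
  obtain ⟨l, hl⟩ := exists_sq_eq x hx
  obtain ⟨b, hbS, hb⟩ := exists_of_lam (P := P) l
  rw [hl] at hb
  obtain ⟨s, a, hsa⟩ := P.H2.lower hbS
  have h1 := P.act6 hsa t
  have h2 := P.act6 hsa 1
  rw [PN.lin6 b hbS, hb] at h1
  rw [hb] at h2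
  rw [h1, h2]; ring

end Cfsg.Agent.HexRec.TorOne
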