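import Cfsg.Agent.HexRec.TorY

/-!
# The subgroup `R = F0`

For suitable coordinates the second parabolic centralises `F0 / E2`.
-/

set_option autoImplicit false
set_option linter.unusedSectionVars false
set_option linter.unusedVariables false

namespace Cfsg.Agent.HexRec.TorR

open Cfsg.Agent.HexRec Cfsg.Agent.HexEss Subgroup Matrix TorHalf TorSec TorIn TorY
open Cfsg.Agent.ClassTwo.Sp4Defs Cfsg.Agent.ClassTwo.Sp4SL2

/-- two additive maps whose sum only vanishes on the axes -/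
theorem axis {k : Type*} [Field k] [CharP k 2] [Finite k] {φ ψ : k → k} (hφ : ∀ s t, φ (s + t) = φ s + φ t)
    (hψ : ∀ s t, ψ (s + t) = ψ s + ψ t) (h : ∀ r s, φ r + ψ s = 0 → r = 0 ∨ s = 0) :
    (∀ r, φ r = 0) ∨ ∀ s, ψ s = 0 := by
  have hz : ∀ f : k → k, (∀ s t, f (s + t) = f s + f t) → f 0 = 0 := by
    intro f hf
    have := hf 0 0
    rw [add_zero] at this
    linear_combination -this
  have hinj : ∀ f : k → k, (∀ s t, f (s + t) = f s + f t) → (∀ r, f r = 0 → r = 0) → Function.Injective f := by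
    intro f hf h0 a b hab
    have h1 := hf a b
    rw [hab, CharTwo.add_self_eq_zero] at h1
    have h2 := h0 _ h1
    exact CharTwo.add_eq_zero.1 h2
  by_cases h1 : ∀ r, φ r = 0 → r = 0
  · right
    intro s
    obtain ⟨r, hr⟩ := Finite.surjective_of_injective (hinj φ hφ h1) (ψ s)
    have h2 : φ r + ψ s = 0 := by rw [hr, CharTwo.add_self_eq_zero]
    rcases h r s h2 with h3 | h3
    · rw [← hr, h3, hz φ hφ]
    · rw [h3, hz ψ hψ]
  · left
    push Not at h1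
    obtain ⟨r1, hr1, hr0⟩ := h1
    have h2 : ∀ s, ψ s = 0 → s = 0 := by
      intro s hs
      rcases h r1 s (by rw [hr1, hs, add_zero]) with h3 | h3
      · exact absurd h3 hr0
      · exact h3
    intro r
    obtain ⟨s, hs⟩ := Finite.surjective_of_injective (hinj ψ hψ h2) (φ r)
    have h3 : φ r + ψ s = 0 := by rw [hs, CharTwo.add_self_eq_zero]
    rcases h r s h3 with h4 | h4
    · rw [h4, hz φ hφ]
    · rw [← hs, h4, hz ψ hψ]

variable {F K : Type*} [Field F] [Field K] [Algebra F K]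

/-! ### Degree one -/

section one

variable (C : Cubic F K) (hs : Function.Surjective (algebraMap F K))

theorem tr_alg (x : F) : C.tr (algebraMap F K x) = x := by
  rw [Algebra.algebraMap_eq_smul_one, map_smul, C.tr_one, smul_eq_mul, mul_one]

include hs

theorem alg_tr (k : K) : algebraMap F K (C.tr k) = k := by
  obtain ⟨x, rfl⟩ := hs k
  rw [tr_alg]

theorem tr_mul (a b : K) : C.tr (a * b) = C.tr a * C.tr b := by
  obtain ⟨x, rfl⟩ := hs a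
  obtain ⟨y, rfl⟩ := hs b
  rw [← map_mul, tr_alg, tr_alg, tr_alg]

theorem T_eq (a b : K) : C.T a b = C.tr a * C.tr b := tr_mul C hs a b

theorem sh_eq (a : K) : C.sh a = a ^ 2 := by
  obtain ⟨x, rfl⟩ := hs a
  rw [C.sh_map]

theorem tr_sh (a : K) : C.tr (C.sh a) = C.tr a ^ 2 := by
  rw [sh_eq C hs, pow_two, tr_mul C hs, pow_two]

theorem N_eq (a : K) : C.N a = C.tr a ^ 3 := by
  apply (algebraMap F K).injective
  rw [C.N_map, sh_eq C hs, map_pow, alg_tr C hs]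
  ring

theorem tr_inj {a b : K} (h : C.tr a = C.tr b) : a = b := by
  rw [← alg_tr C hs a, h, alg_tr C hs b]

/-- the graph automorphism for `q = 4`, on coordinates -/
def tw (a : Tup F K) : Tup F K :=
  ⟨a.a1 ^ 2, a.a2, a.a5, a.a4 + a.a2 ^ 2 + C.T a.a3 a.a5, a.a3, a.a6⟩

theorem tw_tw (h4 : ∀ x : F, x ^ 4 = x) (a : Tup F K) : tw C (tw C a) = a := by
  have h4K : ∀ x : K, x ^ 4 = x := by
    intro x
    obtain ⟨y, rfl⟩ := hs x
    rw [← map_pow, h4]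
  apply Tup.ext
  · change (a.a1 ^ 2) ^ 2 = a.a1
    rw [← pow_mul]; exact h4K _
  · rfl
  · rfl
  · change a.a4 + a.a2 ^ 2 + C.T a.a3 a.a5 + a.a2 ^ 2 + C.T a.a5 a.a3 = a.a4
    rw [C.T_comm a.a5]
    linear_combination (a.a2 ^ 2 + C.T a.a3 a.a5) * C.two_F
  · rfl
  · rfl

theorem tw_mul (hcr : ∀ t r, C.cr t r = 0) (h4 : ∀ x : F, x ^ 4 = x) (a b : Tup F K) :
    tw C (C.mul a b) = C.mul (tw C a) (tw C b) := by
  have h4K : ∀ x : K, x ^ 4 = x := by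
    intro x
    obtain ⟨y, rfl⟩ := hs x
    rw [← map_pow, h4]
  have h2 := C.two_F
  have h2K := C.two_K
  apply Tup.ext
  · change (a.a1 + b.a1) ^ 2 = a.a1 ^ 2 + b.a1 ^ 2
    linear_combination a.a1 * b.a1 * h2K
  · change a.a2 + b.a2 + a.a6 * C.N b.a1 + C.T b.a1 a.a3 + C.T (C.sh b.a1) a.a5 =
      a.a2 + b.a2 + a.a6 * C.N (b.a1 ^ 2) + C.T (b.a1 ^ 2) a.a5 + C.T (C.sh (b.a1 ^ 2)) a.a3
    simp only [T_eq C hs, N_eq C hs, tr_sh C hs, pow_two b.a1, tr_mul C hs]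
    have := h4 (C.tr b.a1)
    linear_combination (-a.a6 * (C.tr b.a1) ^ 2 - C.tr a.a3) * this
  · change a.a5 + b.a5 + a.a6 • b.a1 = a.a5 + b.a5 + a.a6 • C.sh (b.a1 ^ 2) + C.cr (b.a1 ^ 2) a.a3
    rw [hcr, sh_eq C hs, ← pow_mul, add_zero]
    have := h4K b.a1
    rw [show 2 * 2 = 4 from rfl, this]
  · change a.a4 + b.a4 + a.a6 ^ 2 * C.N b.a1 + C.T b.a1 (C.sh a.a5) + a.a6 * b.a2 +
      a.a6 * C.T (C.sh b.a1) a.a5 + C.T b.a3 a.a5 + a.a6 * C.T b.a3 b.a1 +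
      (a.a2 + b.a2 + a.a6 * C.N b.a1 + C.T b.a1 a.a3 + C.T (C.sh b.a1) a.a5) ^ 2 +
      C.T (a.a3 + b.a3 + a.a6 • C.sh b.a1 + C.cr b.a1 a.a5) (a.a5 + b.a5 + a.a6 • b.a1) =
      (a.a4 + a.a2 ^ 2 + C.T a.a3 a.a5) + (b.a4 + b.a2 ^ 2 + C.T b.a3 b.a5) + a.a6 ^ 2 * C.N (b.a1 ^ 2) +
      C.T (b.a1 ^ 2) (C.sh a.a3) + a.a6 * b.a2 + a.a6 * C.T (C.sh (b.a1 ^ 2)) a.a3 + C.T b.a5 a.a3 +
      a.a6 * C.T b.a5 (b.a1 ^ 2)
    rw [hcr, add_zero]
    simp only [T_eq C hs, N_eq C hs, tr_sh C hs, pow_two b.a1, tr_mul C hs, map_add, map_smul, smul_eq_mul]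
    have := h4 (C.tr b.a1)
    generalize C.tr b.a1 = y at *
    generalize C.tr a.a3 = a3 at *
    generalize C.tr a.a5 = a5 at *
    generalize C.tr b.a3 = b3 at *
    generalize C.tr b.a5 = b5 at *
    have hc := charPF C
    have e6 : y ^ 6 = y ^ 3 := by linear_combination y ^ 2 * this
    grind
  · change a.a3 + b.a3 + a.a6 • C.sh b.a1 + C.cr b.a1 a.a5 = a.a3 + b.a3 + a.a6 • b.a1 ^ 2
    rw [hcr, sh_eq C hs, add_zero]
  · rfl

/-- twisted coordinates -/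
def twist (hcr : ∀ t r, C.cr t r = 0) (h4 : ∀ x : F, x ^ 4 = x) {S : Type*} [Group S] (E : Coord C S) :
    Coord C S where
  e := E.e.trans ⟨tw C, tw C, tw_tw C hs h4, tw_tw C hs h4⟩
  map_mul g h := by
    change tw C (E.e (g * h)) = C.mul (tw C (E.e g)) (tw C (E.e h))
    rw [E.map_mul, tw_mul C hs hcr h4]

end one

section group

variable {C : Cubic F K} {G : Type*} [Group G] [Finite G]

theorem Pres_cent' {b : G} {M N R : Subgroup G} (hM : Pres b M) (hN : Pres b N)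
    (h : ∀ g, g ∈ R ↔ g ∈ M ∧ ∀ x ∈ M, cm g x ∈ N) : Pres b R := by
  intro g hg
  rw [h] at hg ⊢
  refine ⟨hM g hg.1, fun x hx => ?_⟩
  have h1 := hN _ (hg.2 _ (hM.inv x hx))
  have h2 : cm (b * g * b⁻¹) x = b * cm g (b⁻¹ * x * b⁻¹⁻¹) * b⁻¹ := by unfold cm; group
  rw [h2]; exact h1

/-- in degree three `F0` is determined by `Db`, `E2` -/
theorem mem_F0_iff {S : Subgroup G} {E : Coord C S} (hd : ∀ t, (∀ r, C.cr t r = 0) → t = 0) (g : G) :
    g ∈ F0 E ↔ g ∈ Db E ∧ ∀ x ∈ Db E, cm g x ∈ E2 E := by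
  constructor
  · intro h
    refine ⟨F0_le_Db h, fun x hx => ?_⟩
    rw [cm_swap]
    exact inv_mem (cm_mem_E2 hx.1 h)
  · rintro ⟨hg, h⟩
    have h1 : (cx E g).a1 = 0 := by
      apply hd
      intro r
      have h2 := (h (E.x5 r) ⟨(E.x5 r).2, by rw [cx_x5]⟩).2.2.1
      rw [a3_cm_Db hg.1 (E.x5 r).2 hg.2 (by rw [cx_x5]), cx_x5, C.cr_zero_left, add_zero] at h2
      exact h2
    have h5 : (cx E g).a5 = 0 := by
      apply hd
      intro r
      have h2 := (h (E.x1 r) ⟨(E.x1 r).2, by rw [cx_x1]⟩).2.2.1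
      rw [a3_cm_Db hg.1 (E.x1 r).2 hg.2 (by rw [cx_x1]), cx_x1, C.cr_zero_right, zero_add, C.cr_comm] at h2
      exact h2
    exact ⟨hg.1, h1, h5, hg.2⟩

variable (P : PN C G) [Finite F]

theorem RInv_three (hd : ∀ t, (∀ r, C.cr t r = 0) → t = 0) :
    ∀ g ∈ P.L2, ∀ x ∈ F0 P.E, g * x * g⁻¹ * x⁻¹ ∈ E2 P.E := by
  obtain ⟨w, hw⟩ := P.H2.surj (Cfsg.Agent.ClassTwo.Sp4Defs.w F)
  exact Half_comm P.H2 hw (M := F0 P.E) (N := E2 P.E)
    (Pres_cent' (P.L2_Db w.2) (P.L2_E2 w.2) (mem_F0_iff hd)) (P.L2_E2 w.2)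
    (fun s hs => P.L2_E2 (P.H2.le hs)) (fun s hs x hx => cm_mem_E2 (co := P.E) hs hx)

/-- `RR ∩ w RR w⁻¹` -/
noncomputable def MM (w : G) : Subgroup G := RR P.E ⊓ (RR P.E).comap (MulAut.conj w⁻¹).toMonoidHom

theorem mem_MM {w g : G} : g ∈ MM P w ↔ g ∈ RR P.E ∧ w⁻¹ * g * w ∈ RR P.E := by
  unfold MM
  rw [Subgroup.mem_inf, Subgroup.mem_comap]
  have : (MulAut.conj w⁻¹).toMonoidHom g = w⁻¹ * g * w := by simp
  rw [this]

variable {P}

/-- in degree one `S` centralises `RR / E2` -/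
theorem S_RR (hcr : ∀ t r, C.cr t r = 0) {s x : G} (hs : s ∈ P.S) (hx : x ∈ RR P.E) :
    s * x * s⁻¹ * x⁻¹ ∈ E2 P.E := by
  have h1 : cm s x ∈ F0 P.E := cm_mem_F0 (co := P.E) hs hx
  refine ⟨h1.1, h1.2.1, ?_, h1.2.2.1, h1.2.2.2⟩
  have h2 := a3_cm_R (co := P.E) hs hx.1 hx.2.1 hx.2.2
  rw [hcr] at h2
  exact h2

theorem L2_MM (hcr : ∀ t r, C.cr t r = 0) {w : P.L2} (hw : P.H2.p w = Cfsg.Agent.ClassTwo.Sp4Defs.w F) :
    ∀ g ∈ P.L2, ∀ x ∈ MM P (w : G), g * x * g⁻¹ * x⁻¹ ∈ E2 P.E := by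
  have h1 : P.L2 ≤ cmSub (E2 P.E) (MM P (w : G)) := by
    apply P.H2.gen2 hw
    · intro s hs
      exact ⟨P.L2_E2 (P.H2.le hs), fun x hx => S_RR hcr hs ((mem_MM P).1 hx).1⟩
    · intro s hs
      refine ⟨P.L2_E2 (mul_mem (mul_mem w.2 (P.H2.le hs)) (inv_mem w.2)), fun x hx => ?_⟩
      have e : (w : G) * s * (w : G)⁻¹ * x * ((w : G) * s * (w : G)⁻¹)⁻¹ * x⁻¹ =
        (w : G) * (s * ((w : G)⁻¹ * x * (w : G)) * s⁻¹ * ((w : G)⁻¹ * x * (w : G))⁻¹) * (w : G)⁻¹ := by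
        group
      rw [e]
      exact P.L2_E2 w.2 _ (S_RR hcr hs ((mem_MM P).1 hx).2)
  intro g hg
  exact (h1 hg).2

/-- elements over `RR` modulo `E2` -/
theorem a5_mod {S : Subgroup G} {E : Coord C S} {y g : G} (hy : y ∈ E2 E) (hg : g ∈ RR E) :
    (cx E (y * g)).a5 = (cx E g).a5 := by
  rw [a5_mul hy.1 hg.1, hy.2.2.2.1, hg.2.1, smul_zero, add_zero, zero_add]

theorem a3_mod {S : Subgroup G} {E : Coord C S} {y g : G} (hy : y ∈ E2 E) (hg : g ∈ RR E) :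
    (cx E (y * g)).a3 = (cx E g).a3 := by
  rw [a3_mul hy.1 hg.1, hy.2.2.1, hg.2.1, C.sh_zero, smul_zero, C.cr_zero_left, add_zero, add_zero, zero_add]

/-- elements of `MM` lie on the axes -/
theorem MM_axis (hcr : ∀ t r, C.cr t r = 0) (hs : Function.Surjective (algebraMap F K)) (hq : 4 ≤ Nat.card F)
    {w : P.L2} (hw : P.H2.p w = Cfsg.Agent.ClassTwo.Sp4Defs.w F) {g : G} (hg : g ∈ MM P (w : G)) :
    (cx P.E g).a5 = 0 ∨ (cx P.E g).a3 = 0 := by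
  have := charPF C
  by_contra hcon
  push Not at hcon
  obtain ⟨hr, hs0⟩ := hcon
  have hgR := ((mem_MM P).1 hg).1
  set r := (cx P.E g).a5 with hrdef
  set s := (cx P.E g).a3 with hsdef
  obtain ⟨a, ha⟩ := PN.exists_ne_one hq
  obtain ⟨b, hb⟩ := P.H2.surj (d a)
  have hb0 : P.H2.p b = u 0 * d a := by rw [hb, u_zero, one_mul]
  have hbS : Pres (b : G) P.S := fun g hg => (P.H2.bor_conj hb0 hg).1
  have hne := PN.c6_ne_one hb0 ha
  have hbDa := (P.n2 b b.2 hbS).1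
  have hbDb := P.L2_Db b.2
  have hbE2 := P.L2_E2 b.2
  have hbRR := pres_RR hbDa hbDb
  -- `t = s / r`, `u = r² / s`
  obtain ⟨f, hf⟩ := hs (r ^ 2 / s)
  set t : K := s / r with ht
  have hf0 : f ≠ 0 := by
    rintro rfl
    rw [map_zero] at hf
    have := div_ne_zero (pow_ne_zero 2 hr) hs0
    exact this hf.symm
  have e5 : f • t = r := by rw [Algebra.smul_def, hf, ht]; field_simp
  have e3 : f • C.sh t = s := by rw [Algebra.smul_def, hf, ht, sh_eq C hs]; field_simp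
  set c := cm (P.E.x1 t : G) (P.E.x6 f) with hc
  have hcR : c ∈ RR P.E := cm_mem_RR (P.E.x1 t).2 (P.E.x6 f).2
  have m6 : (P.E.x6 f : G) ∈ Da P.E := ⟨(P.E.x6 f).2, by rw [cx_x6]⟩
  have hc5 : (cx P.E c).a5 = r := by
    rw [hc, a5_cm_Da (P.E.x1 t).2 (P.E.x6 f).2 m6.2, cx_x1, cx_x6]; exact e5
  have hc3 : (cx P.E c).a3 = s := by
    rw [hc, a3_cm_Da (P.E.x1 t).2 (P.E.x6 f).2 m6.2, cx_x1, cx_x6, hcr, add_zero]; exact e3
  set y := c * g⁻¹ with hy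
  have hcy : c = y * g := by rw [hy]; group
  have hyR : y ∈ RR P.E := mul_mem hcR (inv_mem hgR)
  have hy5 : (cx P.E y).a5 = 0 := by
    have := a5_mul (co := P.E) hyR.1 hgR.1
    rw [← hcy, hc5, hgR.2.1, smul_zero, add_zero] at this
    exact add_eq_right.1 this.symm
  have hy3 : (cx P.E y).a3 = 0 := by
    have := a3_mul (co := P.E) hyR.1 hgR.1
    rw [← hcy, hc3, hgR.2.1, C.sh_zero, smul_zero, C.cr_zero_left, add_zero, add_zero] at this
    exact add_eq_right.1 this.symm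
  have hyE : y ∈ E2 P.E := ⟨hyR.1, hyR.2.1, hy3, hy5, hyR.2.2⟩
  -- conjugate by `b`
  have hbg := L2_MM hcr hw b b.2 g hg
  have hbc : (b : G) * c * (b : G)⁻¹ = ((b : G) * y * (b : G)⁻¹ * ((b : G) * g * (b : G)⁻¹ * g⁻¹)) * g := by
    rw [hcy]; group
  have hE := mul_mem (hbE2 _ hyE) hbg
  have k5 : (cx P.E ((b : G) * c * (b : G)⁻¹)).a5 = r := by rw [hbc, a5_mod hE hgR]
  have k3 : (cx P.E ((b : G) * c * (b : G)⁻¹)).a3 = s := by rw [hbc, a3_mod hE hgR]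
  have l1 := hbS _ (P.E.x1 t).2
  have l6 := hbDa _ m6
  rw [hc, cm_conj, a5_cm_Da l1 l6.1 l6.2] at k5
  rw [hc, cm_conj, a3_cm_Da l1 l6.1 l6.2, hcr, add_zero] at k3
  have h6 : (cx P.E ((b : G) * (P.E.x6 f : G) * (b : G)⁻¹)).a6 = (pc6 P.E).map (b : G) 1 * f := by
    rw [← PN.lin6 b hbS]; rfl
  rw [h6] at k5 k3
  set μ := (pc6 P.E).map (b : G) 1 with hμ
  generalize (cx P.E ((b : G) * (P.E.x1 t : G) * (b : G)⁻¹)).a1 = A at *
  -- `μ f A = r`, `μ f A² = s`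
  rw [sh_eq C hs] at k3
  rw [Algebra.smul_def] at k5 k3
  have h7 : A = t := by
    rw [ht, ← k3, ← k5]
    have h8 : algebraMap F K (μ * f) * A ≠ 0 := by rw [k5]; exact hr
    have h9 : algebraMap F K (μ * f) ≠ 0 := fun h => h8 (by rw [h, zero_mul])
    have h10 : A ≠ 0 := fun h => h8 (by rw [h, mul_zero])
    field_simp
  rw [h7, map_mul] at k5
  rw [Algebra.smul_def] at e5
  have h8 : algebraMap F K f * t ≠ 0 := by rw [e5]; exact hr
  have h9 : algebraMap F K μ = 1 := by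
    apply mul_right_cancel₀ h8
    rw [one_mul, ← mul_assoc, k5, e5]
  apply hne
  apply (algebraMap F K).injective
  rw [h9, map_one]

/-- the exceptional case forces `q = 4` -/
theorem pow_four (hcr : ∀ t r, C.cr t r = 0) (hs : Function.Surjective (algebraMap F K)) (hq : 4 ≤ Nat.card F)
    {w : P.L2} (hw : P.H2.p w = Cfsg.Agent.ClassTwo.Sp4Defs.w F)
    (hR5 : ∀ g ∈ RR P.E, (cx P.E g).a3 = 0 → g ∈ MM P (w : G)) (x : F) : x ^ 4 = x := by
  have := charPF C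
  have h2 := C.two_F
  by_cases hx : x = 0
  · rw [hx]; ring
  set l : Fˣ := Units.mk0 x hx with hl
  obtain ⟨b, hbS, hb6⟩ := exists_of_lam (P := P) l
  obtain ⟨l', h6, hA2, hA4⟩ := exists_lam hq b hbS
  have hll : l' = l := by
    have h3 := h6 1
    rw [hb6, mul_one] at h3
    have h4 : ((l : F) + l') * (l + l') = 0 := by
      linear_combination h3 + (l : F) * l' * h2 + (l' : F) ^ 2 * h2
    apply Units.ext
    have h5 : (l : F) + l' = 0 := mul_self_eq_zero.1 h4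
    linear_combination h5 - (l : F) * h2
  rw [hll] at h6 hA2 hA4
  clear hll
  have hbDa := (P.n2 b b.2 hbS).1
  have hbDb := P.L2_Db b.2
  have hbE2 := P.L2_E2 b.2
  have hbZ := pres_Z hbDa
  have hbRR := pres_RR hbDa hbDb
  let A : F → F := fun τ => C.tr (cx P.E ((b : G) * (P.E.x1 (algebraMap F K τ) : G) * (b : G)⁻¹)).a1
  let σ : F → F := fun τ => C.tr (cx P.E ((b : G) * (P.E.x1 (algebraMap F K τ) : G) * (b : G)⁻¹)).a3
  let ν : F → F := fun p => (cx P.E ((b : G) * (P.E.x2 p : G) * (b : G)⁻¹)).a4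
  have key : ∀ τ ρ : F, A τ ^ 2 * ρ = ((l⁻¹ : Fˣ) : F) * (τ ^ 2 * ρ) ∧
      A τ * ρ ^ 2 + σ τ * ρ = ν (τ ^ 2 * ρ) + (l : F) * (τ * ρ ^ 2) := by
    intro τ ρ
    set g : G := (P.E.x1 (algebraMap F K τ) : G) with hg
    set h : G := (P.E.x5 (algebraMap F K ρ) : G) with hh
    have gS : g ∈ P.S := (P.E.x1 _).2
    have hR : h ∈ RR P.E := (pc5 P.E).x_mem _
    have hM : h ∈ MM P (w : G) := hR5 h hR (by rw [hh, cx_x5])
    have g6 : (cx P.E g).a6 = 0 := by rw [hg, cx_x1]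
    have g'S := hbS _ gS
    have g'6 : (cx P.E ((b : G) * g * (b : G)⁻¹)).a6 = 0 := (hbDb _ ⟨gS, g6⟩).2
    have h'R := hbRR _ hR
    have hE := L2_MM hcr hw b b.2 h hM
    have e1 : (b : G) * h * (b : G)⁻¹ = ((b : G) * h * (b : G)⁻¹ * h⁻¹) * h := by group
    have h'5 : (cx P.E ((b : G) * h * (b : G)⁻¹)).a5 = algebraMap F K ρ := by
      rw [e1, a5_mod hE hR, hh, cx_x5]
    have h'3 : (cx P.E ((b : G) * h * (b : G)⁻¹)).a3 = 0 := by
      rw [e1, a3_mod hE hR, hh, cx_x5]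
    -- the commutator
    set k := cm g h with hk
    have kF : k ∈ F0 P.E := cm_mem_F0 (co := P.E) gS hR
    have k3 : (cx P.E k).a3 = 0 := by rw [hk, a3_cm_R gS hR.1 hR.2.1 hR.2.2, hcr]
    have kE : k ∈ E2 P.E := ⟨kF.1, kF.2.1, k3, kF.2.2.1, kF.2.2.2⟩
    have k2 : (cx P.E k).a2 = τ ^ 2 * ρ := by
      rw [hk, a2_cm_R gS hR.1 hR.2.1 hR.2.2, hg, hh, cx_x1, cx_x5]
      simp only [T_eq C hs, tr_sh C hs, tr_alg, map_zero, mul_zero, zero_add]
    have k4 : (cx P.E k).a4 = τ * ρ ^ 2 := by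
      rw [hk, a4_cm_R gS hR.1 hR.2.1 hR.2.2, hg, hh, cx_x1, cx_x5]
      simp only [T_eq C hs, tr_sh C hs, tr_alg, map_zero, mul_zero, zero_mul, zero_add, add_zero]
    have kk : k = (P.E.x2 (τ ^ 2 * ρ) : G) * (P.E.x4 (τ * ρ ^ 2) : G) := by
      have m2 : (P.E.x2 (τ ^ 2 * ρ) : G) ∈ P.S := (P.E.x2 _).2
      have m4 : (P.E.x4 (τ * ρ ^ 2) : G) ∈ P.S := (P.E.x4 _).2
      apply cx_inj (co := P.E) kE.1 (mul_mem m2 m4)
      apply Tup.ext
      · rw [a1_mul m2 m4, cx_x2, cx_x4, kE.2.1, add_zero]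
      · rw [a2_mul m2 m4, cx_x2, cx_x4, k2]; simp [C.T_zero_left, C.T_zero_right, C.N_zero]
      · rw [a3_mul m2 m4, cx_x2, cx_x4, k3]; simp [C.sh_zero, hcr]
      · rw [a4_mul m2 m4, cx_x2, cx_x4, k4]; simp [C.T_zero_left]
      · rw [a5_mul m2 m4, cx_x2, cx_x4, kE.2.2.2.1]; simp
      · rw [a6_mul m2 m4, cx_x2, cx_x4, kE.2.2.2.2, add_zero]
    have c2 : (cx P.E ((b : G) * k * (b : G)⁻¹)).a2 = ((l⁻¹ : Fˣ) : F) * (τ ^ 2 * ρ) := by
      have := Pc.map_spec (X := pc2 P.E) hbE2 hbZ kE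
      change (cx P.E _).a2 = (pc2 P.E).map b (cx P.E k).a2 at this
      rw [this, k2, hA2]
    have c4 : (cx P.E ((b : G) * k * (b : G)⁻¹)).a4 = ν (τ ^ 2 * ρ) + (l : F) * (τ * ρ ^ 2) := by
      have e2 : (b : G) * k * (b : G)⁻¹ = ((b : G) * (P.E.x2 (τ ^ 2 * ρ) : G) * (b : G)⁻¹) *
          ((b : G) * (P.E.x4 (τ * ρ ^ 2) : G) * (b : G)⁻¹) := by rw [kk]; group
      have m2 : (b : G) * (P.E.x2 (τ ^ 2 * ρ) : G) * (b : G)⁻¹ ∈ E2 P.E := hbE2 _ ((pc2 P.E).x_mem (τ ^ 2 * ρ))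
      have m4 := hbZ _ (x4_mem P.E (τ * ρ ^ 2))
      have h4 : (cx P.E ((b : G) * (P.E.x4 (τ * ρ ^ 2) : G) * (b : G)⁻¹)).a4 = (l : F) * (τ * ρ ^ 2) := by
        rw [← hA4]; rfl
      rw [e2, a4_mul m2.1 m4.1, m4.2.1, m4.2.2.1, m4.2.2.2.1, h4]
      simp only [C.N_zero, C.sh_zero, C.T_zero_left, mul_zero, add_zero]
      rfl
    constructor
    · rw [← c2, hk, cm_conj, a2_cm_R g'S h'R.1 h'R.2.1 h'R.2.2, h'3, h'5]
      simp only [T_eq C hs, tr_sh C hs, tr_alg, map_zero, mul_zero, zero_add]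
      rfl
    · rw [← c4, hk, cm_conj, a4_cm_R g'S h'R.1 h'R.2.1 h'R.2.2, h'3, h'5, g'6]
      simp only [T_eq C hs, tr_sh C hs, tr_alg, map_zero, zero_mul, zero_add]
      rfl
  have hA : ∀ τ, A τ = A 1 * τ := by
    intro τ
    have h3 := (key τ 1).1
    have h4 := (key 1 1).1
    have h5 : (A τ + A 1 * τ) * (A τ + A 1 * τ) = 0 := by
      linear_combination h3 - τ ^ 2 * h4 + (A 1 ^ 2 * τ ^ 2 + A τ * A 1 * τ) * h2
    have h6 := mul_self_eq_zero.1 h5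
    linear_combination h6 - A 1 * τ * h2
  obtain ⟨ρ0, hρ0⟩ := exists_unit_ne_one hq
  have main : (A 1 + l) * (l + (l : F) ^ 4) = 0 := by
    have e1 : ∀ ρ, ν ρ = A 1 * ρ ^ 2 + σ 1 * ρ + l * ρ ^ 2 := by
      intro ρ
      have h3 := (key 1 ρ).2
      rw [one_pow, one_mul, one_mul] at h3
      linear_combination -h3 - (l : F) * ρ ^ 2 * h2
    have e2 : ∀ ρ, (A 1 + l) * (l + (l : F) ^ 4) * ρ ^ 2 = (σ l + σ 1 * (l : F) ^ 2) * ρ := by
      intro ρ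
      have h3 := (key l ρ).2
      rw [e1, hA l] at h3
      linear_combination h3 + (A 1 * (l : F) ^ 4 * ρ ^ 2 + (l : F) ^ 2 * ρ ^ 2 + (l : F) ^ 5 * ρ ^ 2 - σ l * ρ) * h2
    have e3 := e2 1
    have e4 := e2 ρ0
    have e5 : ((ρ0 : F) * (ρ0 - 1)) * ((A 1 + l) * (l + (l : F) ^ 4)) = 0 := by
      linear_combination e4 - (ρ0 : F) * e3
    rcases mul_eq_zero.1 e5 with h | h
    · rcases mul_eq_zero.1 h with h | h
      · exact absurd h ρ0.ne_zero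
      · exact absurd (sub_eq_zero.1 h) hρ0
    · exact h
  have hxl : x = (l : F) := rfl
  rw [hxl]
  rcases mul_eq_zero.1 main with h | h
  · have h3 := (key 1 1).1
    have h4 : A 1 = l := by linear_combination h - (l : F) * h2
    rw [h4, one_pow, mul_one, mul_one, mul_one] at h3
    have h5 : (l : F) * ((l⁻¹ : Fˣ) : F) = 1 := by rw [← Units.val_mul, mul_inv_cancel, Units.val_one]
    linear_combination (l : F) ^ 2 * h3 + (l : F) * h5
  · linear_combination h - (l : F) * h2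

theorem x5_add {S : Subgroup G} (E : Coord C S) (s t : K) : (E.x5 (s + t) : G) = (E.x5 s : G) * E.x5 t := by
  rw [← Subgroup.coe_mul]
  congr 1
  apply E.ext <;>
  simp [E.mul_a1, E.mul_a2, E.mul_a3, E.mul_a4, E.mul_a5, E.mul_a6, E.e_x5, C.T_zero_left,
    C.cr_zero_left, C.sh_zero, C.N_zero]

theorem x3_add {S : Subgroup G} (E : Coord C S) (s t : K) : (E.x3 (s + t) : G) = (E.x3 s : G) * E.x3 t := by
  rw [← Subgroup.coe_mul]
  congr 1
  apply E.ext <;>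
  simp [E.mul_a1, E.mul_a2, E.mul_a3, E.mul_a4, E.mul_a5, E.mul_a6, E.e_x3, C.T_zero_left, C.T_zero_right,
    C.cr_zero_left, C.sh_zero, C.N_zero]

/-- degree one: suitable coordinates -/
theorem RInv_one (P : PN C G) [Finite K] (hcr : ∀ t r, C.cr t r = 0) (hs : Function.Surjective (algebraMap F K))
    (hq : 4 ≤ Nat.card F) : ∃ E' : Coord C P.S, Da E' = Da P.E ∧ Db E' = Db P.E ∧
      ∀ g ∈ P.L2, ∀ x ∈ F0 E', g * x * g⁻¹ * x⁻¹ ∈ E2 E' := by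
  have := charPF C
  have := charPK C
  obtain ⟨w, hw⟩ := P.H2.surj (Cfsg.Agent.ClassTwo.Sp4Defs.w F)
  have hwinv : (w : G)⁻¹ ∈ P.L2 := inv_mem w.2
  let Φ : G → K := fun g => (cx P.E ((w : G)⁻¹ * g * w)).a1
  have hwDb : ∀ g ∈ Db P.E, (w : G)⁻¹ * g * w ∈ Db P.E := by
    intro g hg
    have := P.L2_Db hwinv g hg
    rwa [inv_inv] at this
  have hwE2 : ∀ g ∈ E2 P.E, (w : G)⁻¹ * g * w ∈ E2 P.E := by
    intro g hg
    have := P.L2_E2 hwinv g hg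
    rwa [inv_inv] at this
  have hΦ : ∀ g ∈ Db P.E, ∀ h ∈ Db P.E, Φ (g * h) = Φ g + Φ h := by
    intro g hg h hh
    have e : (w : G)⁻¹ * (g * h) * w = ((w : G)⁻¹ * g * w) * ((w : G)⁻¹ * h * w) := by group
    change (cx P.E _).a1 = _
    rw [e, a1_mul (hwDb g hg).1 (hwDb h hh).1]
  have hΦE : ∀ g ∈ E2 P.E, Φ g = 0 := fun g hg => (hwE2 g hg).2.1
  have m5 : ∀ r, (P.E.x5 r : G) ∈ RR P.E := fun r => (pc5 P.E).x_mem r
  have m3 : ∀ r, (P.E.x3 r : G) ∈ F0 P.E := fun r => (pc3 P.E).x_mem r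
  -- value of `Φ` on `RR`
  have hval : ∀ g ∈ RR P.E, Φ g = Φ (P.E.x5 (cx P.E g).a5 : G) + Φ (P.E.x3 (cx P.E g).a3 : G) := by
    intro g hg
    set y : G := (P.E.x3 (cx P.E g).a3 : G)⁻¹ * ((P.E.x5 (cx P.E g).a5 : G)⁻¹ * g) with hy
    have e1 : g = (P.E.x5 (cx P.E g).a5 : G) * ((P.E.x3 (cx P.E g).a3 : G) * y) := by rw [hy]; group
    have m3' := F0_le_RR (m3 (cx P.E g).a3)
    have hyR : y ∈ RR P.E := mul_mem (inv_mem m3') (mul_mem (inv_mem (m5 _)) hg)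
    have hz : (P.E.x3 (cx P.E g).a3 : G) * y ∈ RR P.E := mul_mem m3' hyR
    have e5 : (cx P.E ((P.E.x3 (cx P.E g).a3 : G) * y)).a5 = (cx P.E y).a5 := by
      rw [a5_mul m3'.1 hyR.1, cx_x3, hyR.2.1, smul_zero, add_zero, zero_add]
    have e3 : (cx P.E ((P.E.x3 (cx P.E g).a3 : G) * y)).a3 = (cx P.E g).a3 + (cx P.E y).a3 := by
      rw [a3_mul m3'.1 hyR.1, cx_x3, hyR.2.1, C.sh_zero, smul_zero, C.cr_zero_left, add_zero, add_zero]
    have f5 := a5_mul (co := P.E) (m5 (cx P.E g).a5).1 hz.1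
    have f3 := a3_mul (co := P.E) (m5 (cx P.E g).a5).1 hz.1
    rw [← e1, e5, cx_x5, hz.2.1, smul_zero, add_zero] at f5
    rw [← e1, e3, cx_x5, hz.2.1, C.sh_zero, smul_zero, C.cr_zero_left, add_zero, add_zero, zero_add] at f3
    have hyE : y ∈ E2 P.E := ⟨hyR.1, hyR.2.1, left_eq_add.1 f3, left_eq_add.1 f5, hyR.2.2⟩
    have e2 : Φ g = Φ ((P.E.x5 (cx P.E g).a5 : G) * ((P.E.x3 (cx P.E g).a3 : G) * y)) := by rw [← e1]
    rw [e2, hΦ _ (RR_le_Db (m5 _)) _ (RR_le_Db hz), hΦ _ (F0_le_Db (m3 _)) _ (RR_le_Db hyR), hΦE y hyE, add_zero]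
  have hMM : ∀ g ∈ RR P.E, (g ∈ MM P (w : G) ↔ Φ g = 0) := by
    intro g hg
    rw [mem_MM]
    constructor
    · rintro ⟨_, h⟩; exact h.2.1
    · intro h
      have h1 := hwDb g (RR_le_Db hg)
      exact ⟨hg, h1.1, h, h1.2⟩
  have hax := axis (k := K) (φ := fun r => Φ (P.E.x5 r : G)) (ψ := fun s => Φ (P.E.x3 s : G))
    (fun s t => by rw [x5_add, hΦ _ (RR_le_Db (m5 _)) _ (RR_le_Db (m5 _))])
    (fun s t => by rw [x3_add, hΦ _ (F0_le_Db (m3 _)) _ (F0_le_Db (m3 _))]) (by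
      intro r s h
      have hg : (P.E.x5 r : G) * (P.E.x3 s : G) ∈ RR P.E := mul_mem (m5 r) (F0_le_RR (m3 s))
      have a5 : (cx P.E ((P.E.x5 r : G) * (P.E.x3 s : G))).a5 = r := by
        rw [a5_mul (m5 r).1 (m3 s).1, cx_x5, cx_x3]; simp
      have a3 : (cx P.E ((P.E.x5 r : G) * (P.E.x3 s : G))).a3 = s := by
        rw [a3_mul (m5 r).1 (m3 s).1, cx_x5, cx_x3]; simp [C.sh_zero, C.cr_zero_left]
      have h1 := (hMM _ hg).2 (by rw [hval _ hg, a5, a3]; exact h)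
      have h2 := MM_axis hcr hs hq hw h1
      rwa [a5, a3] at h2)
  rcases hax with hax | hax
  · -- the exceptional case
    have hR5 : ∀ g ∈ RR P.E, (cx P.E g).a3 = 0 → g ∈ MM P (w : G) := by
      intro g hg h3
      rw [hMM g hg, hval g hg, h3]
      have e0 : Φ (P.E.x3 0 : G) = 0 := by
        have h1 := x3_add P.E (0 : K) 0
        rw [add_zero] at h1
        have h2 : (P.E.x3 0 : G) = 1 := by simpa using h1
        rw [h2]
        exact hΦE 1 (one_mem _)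
      rw [e0, add_zero]
      exact hax _
    have h4 := pow_four hcr hs hq hw hR5
    refine ⟨twist C hs hcr h4 P.E, ?_, ?_, ?_⟩
    all_goals
      have hcx : ∀ g ∈ P.S, cx (twist C hs hcr h4 P.E) g = tw C (cx P.E g) := by
        intro g hg
        rw [cx_eq hg, cx_eq hg]; rfl
    · ext g
      rw [mem_Da, mem_Da]
      constructor
      · rintro ⟨hg, h⟩
        rw [hcx g hg] at h
        exact ⟨hg, pow_eq_zero_iff two_ne_zero |>.1 h⟩
      · rintro ⟨hg, h⟩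
        refine ⟨hg, ?_⟩
        rw [hcx g hg]
        change (cx P.E g).a1 ^ 2 = 0
        rw [h]; ring
    · ext g
      rw [mem_Db, mem_Db]
      constructor
      · rintro ⟨hg, h⟩
        rw [hcx g hg] at h
        exact ⟨hg, h⟩
      · rintro ⟨hg, h⟩
        refine ⟨hg, ?_⟩
        rw [hcx g hg]
        exact h
    · intro g hg x hx
      have hxS := hx.1
      rw [mem_F0, hcx x hxS] at hx
      have hxR : x ∈ RR P.E := ⟨hxS, pow_eq_zero_iff two_ne_zero |>.1 hx.2.1, hx.2.2.2⟩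
      have h1 := L2_MM hcr hw g hg x (hR5 x hxR hx.2.2.1)
      rw [mem_E2, hcx _ h1.1]
      refine ⟨h1.1, ?_, h1.2.2.2.1, h1.2.2.1, h1.2.2.2.2⟩
      change (cx P.E (g * x * g⁻¹ * x⁻¹)).a1 ^ 2 = 0
      rw [h1.2.1]; ring
  · refine ⟨P.E, rfl, rfl, fun g hg x hx => L2_MM hcr hw g hg x ?_⟩
    rw [hMM x (F0_le_RR hx), hval x (F0_le_RR hx), hx.2.2.1]
    have e0 : Φ (P.E.x5 0 : G) = 0 := by
      have h1 := x5_add P.E (0 : K) 0
      rw [add_zero] at h1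
      have h2 : (P.E.x5 0 : G) = 1 := by simpa using h1
      rw [h2]
      exact hΦE 1 (one_mem _)
    rw [e0, zero_add]
    exact hax _

end group

end Cfsg.Agent.HexRec.TorR
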