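import Cfsg.Agent.HexRec.TorHalf

/-!
# Action of a normaliser on the sections of a hexagonal 2-group

`Pc G V`: a section `M/N` with additive coordinate `α : M → V`; `Pc.map b` = the action of `b` on the section.
Relations `r1`, …, `r5`, `rst` between the actions on the six sections.
-/

set_option autoImplicit false
set_option linter.unusedSectionVars false
set_option linter.unusedVariables false

namespace Cfsg.Agent.HexRec.TorSec

open Cfsg.Agent.HexRec Cfsg.Agent.HexEss Subgroup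

section Pres

variable {G : Type*} [Group G]

/-- `b` maps `M` to itself -/
def Pres (b : G) (M : Subgroup G) : Prop := ∀ g ∈ M, b * g * b⁻¹ ∈ M

theorem Pres.one (M : Subgroup G) : Pres 1 M := fun g hg => by simpa using hg

theorem Pres.mul {b c : G} {M : Subgroup G} (hb : Pres b M) (hc : Pres c M) : Pres (b * c) M := by
  intro g hg
  have : b * c * g * (b * c)⁻¹ = b * (c * g * c⁻¹) * b⁻¹ := by group
  rw [this]; exact hb _ (hc _ hg)

theorem Pres.inf {b : G} {M N : Subgroup G} (hM : Pres b M) (hN : Pres b N) : Pres b (M ⊓ N) :=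
  fun g hg => ⟨hM g hg.1, hN g hg.2⟩

theorem Pres.inv [Finite G] {b : G} {M : Subgroup G} (hb : Pres b M) : Pres b⁻¹ M := by
  intro g hg
  have h1 : Function.Injective (fun x : M => (⟨b * x * b⁻¹, hb x x.2⟩ : M)) := by
    intro x y h
    have := congrArg Subtype.val h
    simpa using this
  obtain ⟨x, hx⟩ := Finite.surjective_of_injective h1 ⟨g, hg⟩
  have h2 : b * (x : G) * b⁻¹ = g := congrArg Subtype.val hx
  have h3 : b⁻¹ * g * b⁻¹⁻¹ = x := by rw [← h2]; group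
  rw [h3]; exact x.2

theorem pres_of_mem {b : G} {M : Subgroup G} (hb : b ∈ M) : Pres b M :=
  fun g hg => mul_mem (mul_mem hb hg) (inv_mem hb)

theorem pres_bot (b : G) : Pres b (⊥ : Subgroup G) := by
  intro g hg
  rw [Subgroup.mem_bot] at hg ⊢
  rw [hg]; group

/-- the center of a preserved subgroup -/
theorem Pres.cent [Finite G] {b : G} {M N : Subgroup G} (hM : Pres b M)
    (h : ∀ g, g ∈ N ↔ g ∈ M ∧ ∀ x ∈ M, cm g x = 1) : Pres b N := by
  intro g hg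
  rw [h] at hg ⊢
  refine ⟨hM g hg.1, fun x hx => ?_⟩
  have h1 := hg.2 _ (hM.inv x hx)
  have h2 : cm (b * g * b⁻¹) x = b * cm g (b⁻¹ * x * b⁻¹⁻¹) * b⁻¹ := by unfold cm; group
  rw [h2, h1]; group

theorem cm_conj (b g h : G) : b * cm g h * b⁻¹ = cm (b * g * b⁻¹) (b * h * b⁻¹) := by unfold cm; group

end Pres

/-- a section with additive coordinates -/
structure Pc (G V : Type*) [Group G] [AddCommGroup V] where
  M : Subgroup G
  N : Subgroup G
  α : G → V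
  add : ∀ g ∈ M, ∀ h ∈ M, α (g * h) = α g + α h
  ker : ∀ g, g ∈ N ↔ g ∈ M ∧ α g = 0
  x : V → G
  x_mem : ∀ v, x v ∈ M
  α_x : ∀ v, α (x v) = v

namespace Pc

variable {G V : Type*} [Group G] [AddCommGroup V] (X : Pc G V)

/-- the action on the section -/
def map (b : G) (v : V) : V := X.α (b * X.x v * b⁻¹)

theorem α_one : X.α 1 = 0 := by
  have := X.add 1 (one_mem _) 1 (one_mem _)
  rw [mul_one] at this
  simpa using this

theorem α_inv {g : G} (hg : g ∈ X.M) : X.α g⁻¹ = -X.α g := by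
  have := X.add g hg g⁻¹ (inv_mem hg)
  rw [mul_inv_cancel, X.α_one] at this
  exact (neg_eq_of_add_eq_zero_right this.symm).symm

variable {X} {b : G}

theorem map_spec (hM : Pres b X.M) (hN : Pres b X.N) {g : G} (hg : g ∈ X.M) :
    X.α (b * g * b⁻¹) = X.map b (X.α g) := by
  have h1 : (X.x (X.α g))⁻¹ * g ∈ X.N := by
    rw [X.ker]
    refine ⟨mul_mem (inv_mem (X.x_mem _)) hg, ?_⟩
    rw [X.add _ (inv_mem (X.x_mem _)) _ hg, X.α_inv (X.x_mem _), X.α_x, neg_add_cancel]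
  have h2 := (X.ker _).1 (hN _ h1)
  have h3 : b * g * b⁻¹ = (b * X.x (X.α g) * b⁻¹) * (b * ((X.x (X.α g))⁻¹ * g) * b⁻¹) := by group
  rw [h3, X.add _ (hM _ (X.x_mem _)) _ h2.1, h2.2, add_zero]
  rfl

theorem map_add (hM : Pres b X.M) (hN : Pres b X.N) (v w : V) : X.map b (v + w) = X.map b v + X.map b w := by
  have h1 : X.α (X.x v * X.x w) = v + w := by rw [X.add _ (X.x_mem _) _ (X.x_mem _), X.α_x, X.α_x]
  rw [← h1, ← map_spec hM hN (mul_mem (X.x_mem _) (X.x_mem _))]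
  have h3 : b * (X.x v * X.x w) * b⁻¹ = (b * X.x v * b⁻¹) * (b * X.x w * b⁻¹) := by group
  rw [h3, X.add _ (hM _ (X.x_mem _)) _ (hM _ (X.x_mem _))]
  rfl

theorem map_one (v : V) : X.map 1 v = v := by
  unfold map
  rw [one_mul, inv_one, mul_one, X.α_x]

theorem map_mul {c : G} (hM : Pres b X.M) (hN : Pres b X.N) (hc : Pres c X.M) (v : V) :
    X.map (b * c) v = X.map b (X.map c v) := by
  have h1 : X.map (b * c) v = X.α (b * (c * X.x v * c⁻¹) * b⁻¹) := by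
    unfold map; congr 1; group
  rw [h1, map_spec hM hN (hc _ (X.x_mem v))]
  rfl

theorem map_inv_map [Finite G] (hM : Pres b X.M) (hN : Pres b X.N) (v : V) : X.map b⁻¹ (X.map b v) = v := by
  rw [← map_mul hM.inv hN.inv hM, inv_mul_cancel, map_one]

theorem map_map_inv [Finite G] (hM : Pres b X.M) (hN : Pres b X.N) (v : V) : X.map b (X.map b⁻¹ v) = v := by
  rw [← map_mul hM hN hM.inv, mul_inv_cancel, map_one]

theorem map_bij [Finite G] (hM : Pres b X.M) (hN : Pres b X.N) : Function.Bijective (X.map b) :=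
  ⟨Function.LeftInverse.injective (g := X.map b⁻¹) (map_inv_map hM hN),
    fun v => ⟨X.map b⁻¹ v, map_map_inv hM hN v⟩⟩

theorem map_zero (hM : Pres b X.M) (hN : Pres b X.N) : X.map b 0 = 0 := by
  have := map_add hM hN 0 0
  rw [add_zero] at this
  simpa using this

/-- elements centralising the section act trivially -/
theorem map_of_comm (h : ∀ g ∈ X.M, b * g * b⁻¹ * g⁻¹ ∈ X.N) (v : V) : X.map b v = v := by
  have h1 := (X.ker _).1 (h _ (X.x_mem v))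
  have h2 : b * X.x v * b⁻¹ = (b * X.x v * b⁻¹ * (X.x v)⁻¹) * X.x v := by group
  unfold map
  rw [h2, X.add _ h1.1 _ (X.x_mem v), h1.2, zero_add, X.α_x]

/-- multiplying by an element acting trivially -/
theorem map_mul_left {c : G} (hb : Pres b X.M) (h : ∀ g ∈ X.M, c * g * c⁻¹ * g⁻¹ ∈ X.N) (v : V) :
    X.map (c * b) v = X.map b v := by
  have h1 := (X.ker _).1 (h _ (hb _ (X.x_mem v)))
  have h2 : c * b * X.x v * (c * b)⁻¹ = (c * (b * X.x v * b⁻¹) * c⁻¹ * (b * X.x v * b⁻¹)⁻¹) * (b * X.x v * b⁻¹) := by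
    group
  unfold map
  rw [h2, X.add _ h1.1 _ (hb _ (X.x_mem v)), h1.2, zero_add]

end Pc

/-! ### The six sections -/

section six

variable {F K : Type*} [Field F] [Field K] [Algebra F K] {C : Cubic F K} {G : Type*} [Group G] [Finite G]
  {S : Subgroup G} (E : Coord C S)

theorem cx_x1 (t : K) : cx E (E.x1 t : G) = ⟨t, 0, 0, 0, 0, 0⟩ := by rw [cx_eq (E.x1 t).2]; exact E.e_x1 t
theorem cx_x2 (t : F) : cx E (E.x2 t : G) = ⟨0, t, 0, 0, 0, 0⟩ := by rw [cx_eq (E.x2 t).2]; exact E.e_x2 t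
theorem cx_x3 (t : K) : cx E (E.x3 t : G) = ⟨0, 0, t, 0, 0, 0⟩ := by rw [cx_eq (E.x3 t).2]; exact E.e_x3 t
theorem cx_x4 (t : F) : cx E (E.x4 t : G) = ⟨0, 0, 0, t, 0, 0⟩ := by rw [cx_eq (E.x4 t).2]; exact E.e_x4 t
theorem cx_x5 (t : K) : cx E (E.x5 t : G) = ⟨0, 0, 0, 0, t, 0⟩ := by rw [cx_eq (E.x5 t).2]; exact E.e_x5 t
theorem cx_x6 (t : F) : cx E (E.x6 t : G) = ⟨0, 0, 0, 0, 0, t⟩ := by rw [cx_eq (E.x6 t).2]; exact E.e_x6 t

/-- the section `S / Da` -/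
noncomputable def pc1 : Pc G K where
  M := S
  N := Da E
  α g := (cx E g).a1
  add _ hg _ hh := a1_mul hg hh
  ker _ := Iff.rfl
  x t := E.x1 t
  x_mem t := (E.x1 t).2
  α_x t := by rw [cx_x1]

/-- the section `S / Db` -/
noncomputable def pc6 : Pc G F where
  M := S
  N := Db E
  α g := (cx E g).a6
  add _ hg _ hh := a6_mul hg hh
  ker _ := Iff.rfl
  x t := E.x6 t
  x_mem t := (E.x6 t).2
  α_x t := by rw [cx_x6]

/-- the section `RR / F0` -/
noncomputable def pc5 : Pc G K where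
  M := RR E
  N := F0 E
  α g := (cx E g).a5
  add _ hg _ hh := by rw [a5_mul hg.1 hh.1, hh.2.1, smul_zero, add_zero]
  ker g := by
    rw [mem_RR, mem_F0]
    tauto
  x t := E.x5 t
  x_mem t := ⟨(E.x5 t).2, by rw [cx_x5], by rw [cx_x5]⟩
  α_x t := by rw [cx_x5]

/-- the section `F0 / E2` -/
noncomputable def pc3 : Pc G K where
  M := F0 E
  N := E2 E
  α g := (cx E g).a3
  add _ hg _ hh := by rw [a3_mul hg.1 hh.1, hh.2.1, C.sh_zero, smul_zero, C.cr_zero_left, add_zero, add_zero]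
  ker g := by
    rw [mem_F0, mem_E2]
    tauto
  x t := E.x3 t
  x_mem t := ⟨(E.x3 t).2, by rw [cx_x3], by rw [cx_x3], by rw [cx_x3]⟩
  α_x t := by rw [cx_x3]

/-- the section `E2 / Z` -/
noncomputable def pc2 : Pc G F where
  M := E2 E
  N := Z E
  α g := (cx E g).a2
  add _ hg _ hh := by
    rw [a2_mul hg.1 hh.1, hh.2.1, C.sh_zero, C.N_zero, mul_zero, C.T_zero_left, C.T_zero_left, add_zero,
      add_zero, add_zero]
  ker g := by
    rw [mem_E2, mem_Z]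
    tauto
  x t := E.x2 t
  x_mem t := ⟨(E.x2 t).2, by rw [cx_x2], by rw [cx_x2], by rw [cx_x2], by rw [cx_x2]⟩
  α_x t := by rw [cx_x2]

/-- the section `Z` -/
noncomputable def pc4 : Pc G F where
  M := Z E
  N := ⊥
  α g := (cx E g).a4
  add _ hg _ hh := by
    rw [a4_mul hg.1 hh.1, hh.2.1, hh.2.2.1, hh.2.2.2.1, hg.2.2.2.2.2]
    simp [C.sh_zero, C.N_zero, C.T_zero_left]
  ker g := by
    rw [Subgroup.mem_bot]
    constructor
    · rintro rfl
      exact ⟨one_mem _, by rw [cx_one]⟩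
    · rintro ⟨h, h4⟩
      exact eq_one_of_cx (co := E) h.1 h.2.1 h.2.2.1 h.2.2.2.1 h4 h.2.2.2.2.1 h.2.2.2.2.2
  x t := E.x4 t
  x_mem t := ⟨(E.x4 t).2, by rw [cx_x4], by rw [cx_x4], by rw [cx_x4], by rw [cx_x4], by rw [cx_x4]⟩
  α_x t := by rw [cx_x4]

/-- `b` normalises the chain -/
structure Nice (b : G) : Prop where
  S : Pres b S
  Da : Pres b (Da E)
  Db : Pres b (Db E)
  F0 : Pres b (F0 E)
  E2 : Pres b (E2 E)
  Z : Pres b (Z E)

variable {E} {b : G}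

theorem RR_eq : RR E = Da E ⊓ Db E := by
  ext g
  rw [mem_RR, Subgroup.mem_inf, mem_Da, mem_Db]
  tauto

theorem pres_RR (h1 : Pres b (Da E)) (h2 : Pres b (Db E)) : Pres b (RR E) := by
  rw [RR_eq]; exact h1.inf h2

theorem Nice.RR (h : Nice E b) : Pres b (RR E) := pres_RR h.Da h.Db

theorem Nice.mul {c : G} (h : Nice E b) (h' : Nice E c) : Nice E (b * c) :=
  ⟨h.S.mul h'.S, h.Da.mul h'.Da, h.Db.mul h'.Db, h.F0.mul h'.F0, h.E2.mul h'.E2, h.Z.mul h'.Z⟩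

/-- `E2 = Z(Db)` -/
theorem mem_E2_iff_cent (g : G) : g ∈ E2 E ↔ g ∈ Db E ∧ ∀ x ∈ Db E, cm g x = 1 := by
  constructor
  · intro h
    refine ⟨E2_le_Db h, fun x hx => ?_⟩
    rw [cm_swap, cm_Db_E2 hx h, inv_one]
  · rintro ⟨hg, h⟩
    have h1 : (cx E g).a1 = 0 := mem_F0_of_comm hg.1 (fun x hx => by rw [h x (F0_le_Db hx)]; exact one_mem _)
    have h5 : (cx E g).a5 = 0 := a5_eq_zero_of_comm hg.1 hg.2 (fun x hx => by
      rw [h x (F0_le_Db hx)]; exact ⟨one_mem _, by rw [cx_one]⟩)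
    refine ⟨hg.1, h1, ?_, h5, hg.2⟩
    apply C.T_nondeg
    intro c
    have h2 : (E.x1 c : G) ∈ Db E := ⟨(E.x1 c).2, by rw [cx_x1]⟩
    have h3 := h _ h2
    have h4 : cm (E.x1 c : G) g = 1 := by rw [cm_swap, h3, inv_one]
    have h6 := a2_cm_F0 (co := E) (E.x1 c).2 hg.1 h1 h5 hg.2
    rw [h4, cx_one, cx_x1] at h6
    rw [C.T_comm]
    exact h6.symm

/-- `Z = Z(Da)` -/
theorem mem_Z_iff_cent (g : G) : g ∈ Z E ↔ g ∈ Da E ∧ ∀ x ∈ Da E, cm g x = 1 := by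
  constructor
  · intro h
    refine ⟨Z_le_Da h, fun x hx => ?_⟩
    rw [cm_swap, cm_Z hx.1 h, inv_one]
  · rintro ⟨hg, h⟩
    have key : ∀ x ∈ Da E, (cx E g).a6 * (cx E x).a2 + (cx E x).a6 * (cx E g).a2 +
      C.T (cx E g).a5 (cx E x).a3 + C.T (cx E g).a3 (cx E x).a5 = 0 := by
      intro x hx
      rw [← a4_cm_Da_Da hg.1 hx.1 hg.2 hx.2, h x hx, cx_one]
    have h6 : (cx E g).a6 = 0 := by
      have := key (E.x2 1) ⟨(E.x2 1).2, by rw [cx_x2]⟩
      rw [cx_x2] at this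
      simpa [C.T_zero_right] using this
    have h2 : (cx E g).a2 = 0 := by
      have := key (E.x6 1) ⟨(E.x6 1).2, by rw [cx_x6]⟩
      rw [cx_x6] at this
      simpa [C.T_zero_right] using this
    have h5 : (cx E g).a5 = 0 := by
      apply C.T_nondeg
      intro c
      have := key (E.x3 c) ⟨(E.x3 c).2, by rw [cx_x3]⟩
      rw [cx_x3] at this
      simpa [C.T_zero_right] using this
    have h3 : (cx E g).a3 = 0 := by
      apply C.T_nondeg
      intro c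
      have := key (E.x5 c) ⟨(E.x5 c).2, by rw [cx_x5]⟩
      rw [cx_x5] at this
      simpa [C.T_zero_right] using this
    exact ⟨hg.1, hg.2, h2, h3, h5, h6⟩

theorem pres_E2 (h : Pres b (Db E)) : Pres b (E2 E) := h.cent mem_E2_iff_cent

theorem pres_Z (h : Pres b (Da E)) : Pres b (Z E) := h.cent mem_Z_iff_cent

/-! #### relations -/

theorem r1 (h : Nice E b) (u : F) (t : K) :
    (pc5 E).map b (u • t) = (pc6 E).map b u • (pc1 E).map b t := by
  have e1 : (cx E (cm (E.x1 t : G) (E.x6 u))).a5 = u • t := by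
    rw [a5_cm (E.x1 t).2 (E.x6 u).2, cx_x1, cx_x6]; simp
  have h1 : cm (E.x1 t : G) (E.x6 u) ∈ RR E := cm_mem_RR (E.x1 t).2 (E.x6 u).2
  have h2 := Pc.map_spec (X := pc5 E) h.RR h.F0 h1
  change (cx E _).a5 = (pc5 E).map b (cx E _).a5 at h2
  rw [e1] at h2
  rw [← h2, cm_conj, a5_cm (h.S _ (E.x1 t).2) (h.S _ (E.x6 u).2)]
  have h3 : (cx E (b * (E.x6 u : G) * b⁻¹)).a1 = 0 := (h.Da _ ⟨(E.x6 u).2, by rw [cx_x6]⟩).2
  have h4 : (cx E (b * (E.x1 t : G) * b⁻¹)).a6 = 0 := (h.Db _ ⟨(E.x1 t).2, by rw [cx_x1]⟩).2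
  rw [h3, h4, zero_smul, zero_add]
  rfl

/-- the relation between the sections `6`, `2`, `4` -/
theorem r2 (hS : Pres b S) (hDb : Pres b (Db E)) (hZ : Pres b (Z E)) (u p : F) :
    (pc4 E).map b (u * p) = (pc6 E).map b u * (pc2 E).map b p := by
  have hE2 := pres_E2 hDb
  have m2 : (E.x2 p : G) ∈ E2 E := (pc2 E).x_mem p
  have e1 : (cx E (cm (E.x6 u : G) (E.x2 p))).a4 = u * p := by
    rw [a4_cm_F0 (E.x6 u).2 (E.x2 p).2 m2.2.1 m2.2.2.2.1 m2.2.2.2.2, cx_x6, cx_x2]; simp [C.T_zero_left]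
  have h1 : cm (E.x6 u : G) (E.x2 p) ∈ Z E := cm_mem_Z (E.x6 u).2 m2
  have h2 := Pc.map_spec (X := pc4 E) hZ (pres_bot b) h1
  change (cx E _).a4 = (pc4 E).map b (cx E _).a4 at h2
  rw [e1] at h2
  have h3 := hE2 _ m2
  rw [← h2, cm_conj, a4_cm_F0 (hS _ (E.x6 u).2) h3.1 h3.2.1 h3.2.2.2.1 h3.2.2.2.2, h3.2.2.1, C.T_zero_right,
    add_zero]
  rfl

theorem r3 (h : Nice E b) (t s : K) :
    (pc2 E).map b (C.T t s) = C.T ((pc1 E).map b t) ((pc3 E).map b s) := by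
  have m2 : (E.x3 s : G) ∈ F0 E := (pc3 E).x_mem s
  have e1 : (cx E (cm (E.x1 t : G) (E.x3 s))).a2 = C.T t s := by
    rw [a2_cm_F0 (E.x1 t).2 (E.x3 s).2 m2.2.1 m2.2.2.1 m2.2.2.2, cx_x1, cx_x3]
  have h1 : cm (E.x1 t : G) (E.x3 s) ∈ E2 E := cm_mem_E2 (E.x1 t).2 m2
  have h2 := Pc.map_spec (X := pc2 E) h.E2 h.Z h1
  change (cx E _).a2 = (pc2 E).map b (cx E _).a2 at h2
  rw [e1] at h2
  have h3 := h.F0 _ m2
  rw [← h2, cm_conj, a2_cm_F0 (h.S _ (E.x1 t).2) h3.1 h3.2.1 h3.2.2.1 h3.2.2.2]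
  rfl

theorem r4 (h : Nice E b) (r s : K) :
    (pc4 E).map b (C.T r s) = C.T ((pc5 E).map b r) ((pc3 E).map b s) := by
  have m2 : (E.x3 s : G) ∈ F0 E := (pc3 E).x_mem s
  have m5 : (E.x5 r : G) ∈ RR E := (pc5 E).x_mem r
  have e1 : (cx E (cm (E.x5 r : G) (E.x3 s))).a4 = C.T r s := by
    rw [a4_cm_F0 (E.x5 r).2 (E.x3 s).2 m2.2.1 m2.2.2.1 m2.2.2.2, cx_x5, cx_x3]; simp
  have h1 : cm (E.x5 r : G) (E.x3 s) ∈ Z E := cm_mem_Z_of_Da (RR_le_Da m5) (F0_le_Da m2)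
  have h2 := Pc.map_spec (X := pc4 E) h.Z (pres_bot b) h1
  change (cx E _).a4 = (pc4 E).map b (cx E _).a4 at h2
  rw [e1] at h2
  have h3 := h.F0 _ m2
  have h5 := h.RR _ m5
  rw [← h2, cm_conj, a4_cm_F0 h5.1 h3.1 h3.2.1 h3.2.2.1 h3.2.2.2, h5.2.2, zero_mul, zero_add]
  rfl

theorem r5 (h : Nice E b) (t r : K) :
    (pc3 E).map b (C.cr t r) = C.cr ((pc1 E).map b t) ((pc5 E).map b r) := by
  have m5 : (E.x5 r : G) ∈ RR E := (pc5 E).x_mem r
  have e1 : (cx E (cm (E.x1 t : G) (E.x5 r))).a3 = C.cr t r := by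
    rw [a3_cm_R (E.x1 t).2 (E.x5 r).2 m5.2.1 m5.2.2, cx_x1, cx_x5]
  have h1 : cm (E.x1 t : G) (E.x5 r) ∈ F0 E := cm_mem_F0 (E.x1 t).2 m5
  have h2 := Pc.map_spec (X := pc3 E) h.F0 h.E2 h1
  change (cx E _).a3 = (pc3 E).map b (cx E _).a3 at h2
  rw [e1] at h2
  have h5 := h.RR _ m5
  rw [← h2, cm_conj, a3_cm_R (h.S _ (E.x1 t).2) h5.1 h5.2.1 h5.2.2]
  rfl

/-- the relation coming from `[x1 t, x6 u]` modulo `E2` -/
theorem rst (h : Nice E b) (u : F) (t : K) :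
    (cx E (b * (E.x5 (u • t) : G) * b⁻¹)).a3 + (pc3 E).map b (u • C.sh t) =
      (pc6 E).map b u • C.sh ((pc1 E).map b t) +
        C.cr ((pc1 E).map b t) (cx E (b * (E.x6 u : G) * b⁻¹)).a5 := by
  have m6 : (E.x6 u : G) ∈ Da E := ⟨(E.x6 u).2, by rw [cx_x6]⟩
  have e5 : (cx E (cm (E.x1 t : G) (E.x6 u))).a5 = u • t := by
    rw [a5_cm_Da (E.x1 t).2 (E.x6 u).2 m6.2, cx_x1, cx_x6]
  have e3 : (cx E (cm (E.x1 t : G) (E.x6 u))).a3 = u • C.sh t := by
    rw [a3_cm_Da (E.x1 t).2 (E.x6 u).2 m6.2, cx_x1, cx_x6, C.cr_zero_right, add_zero]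
  have m5 : (E.x5 (u • t) : G) ∈ RR E := (pc5 E).x_mem _
  -- `[x1 t, x6 u] = x5 (u t) y` with `y ∈ F0`, `a3 y = u t^#`
  set c := cm (E.x1 t : G) (E.x6 u) with hc
  have hcR : c ∈ RR E := cm_mem_RR (E.x1 t).2 (E.x6 u).2
  set y := (E.x5 (u • t) : G)⁻¹ * c with hy
  have hcy : c = (E.x5 (u • t) : G) * y := by rw [hy]; group
  have hyR : y ∈ RR E := mul_mem (inv_mem m5) hcR
  have hy5 : (cx E y).a5 = 0 := by
    have := a5_mul (co := E) (E.x5 (u • t)).2 hyR.1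
    rw [← hcy, e5, cx_x5, hyR.2.1, smul_zero, add_zero] at this
    have := add_eq_left.1 this.symm
    exact this
  have hy3 : (cx E y).a3 = u • C.sh t := by
    have := a3_mul (co := E) (E.x5 (u • t)).2 hyR.1
    rw [← hcy, e3, cx_x5, hyR.2.1, C.sh_zero, smul_zero, C.cr_zero_left, add_zero, add_zero, zero_add] at this
    exact this.symm
  have hyF : y ∈ F0 E := ⟨hyR.1, hyR.2.1, hy5, hyR.2.2⟩
  have h3 := Pc.map_spec (X := pc3 E) h.F0 h.E2 hyF
  change (cx E _).a3 = (pc3 E).map b (cx E y).a3 at h3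
  rw [hy3] at h3
  have hF' := h.F0 _ hyF
  have hR' := h.RR _ m5
  have e1 : b * c * b⁻¹ = (b * (E.x5 (u • t) : G) * b⁻¹) * (b * y * b⁻¹) := by rw [hcy]; group
  have e2 : (cx E (b * c * b⁻¹)).a3 =
      (cx E (b * (E.x5 (u • t) : G) * b⁻¹)).a3 + (pc3 E).map b (u • C.sh t) := by
    rw [e1, a3_mul hR'.1 hF'.1, hF'.2.1, C.sh_zero, smul_zero, C.cr_zero_left, add_zero, add_zero, h3]
  rw [← e2, hc, cm_conj, a3_cm_Da (h.S _ (E.x1 t).2) (h.S _ (E.x6 u).2) (h.Da _ m6).2]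
  rfl

end six

end Cfsg.Agent.HexRec.TorSec
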