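import Cfsg.Agent.HexRec.TorIn

/-!
# Action of the second Borel subgroup on `Y = E2`

`b ∈ L2` normalising `S` acts on the sections `6`, `2`, `4` by `λ²`, `λ⁻¹`, `λ`.
-/

set_option autoImplicit false
set_option linter.unusedSectionVars false
set_option linter.unusedVariables false

namespace Cfsg.Agent.HexRec.TorY

open Cfsg.Agent.HexRec Cfsg.Agent.HexEss Subgroup Matrix TorHalf TorSec TorIn
open Cfsg.Agent.ClassTwo.Sp4Defs Cfsg.Agent.ClassTwo.Sp4SL2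

variable {F K : Type*} [Field F] [Field K] [Algebra F K] {C : Cubic F K} {G : Type*} [Group G] [Finite G]
  {P : PN C G} [Finite F]

theorem x4_mem {S : Subgroup G} (E : Coord C S) (t : F) : (E.x4 t : G) ∈ Z E := (pc4 E).x_mem t

theorem eq_x4 {S : Subgroup G} (E : Coord C S) {z : G} (hz : z ∈ Z E) : z = (E.x4 (cx E z).a4 : G) := by
  apply cx_inj (co := E) hz.1 (E.x4 _).2
  rw [cx_x4]
  exact Tup.ext hz.2.1 hz.2.2.1 hz.2.2.2.1 rfl hz.2.2.2.2.1 hz.2.2.2.2.2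

theorem x4_add {S : Subgroup G} (E : Coord C S) (s t : F) : (E.x4 s : G) * E.x4 t = E.x4 (s + t) := by
  have h := mul_mem (x4_mem E s) (x4_mem E t)
  rw [eq_x4 E h]
  congr 2
  have := (pc4 E).add _ (x4_mem E s) _ (x4_mem E t)
  change (cx E _).a4 = (cx E _).a4 + (cx E _).a4 at this
  rw [this, cx_x4, cx_x4]

theorem E2_comm {S : Subgroup G} {E : Coord C S} {y z : G} (hy : y ∈ E2 E) (hz : z ∈ E2 E) : y * z = z * y :=
  cm_eq_one.1 (cm_Db_E2 (E2_le_Db hy) hz)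

theorem uw_cube {k : Type*} [Field k] [CharP k 2] : u (1 : k) * w k * (u 1 * w k) * (u 1 * w k) = 1 := by
  have : u (1 : k) * w k * (u 1 * w k) * (u 1 * w k) = (u 1 * (w k * u 1 * w k) * u 1) * w k := by group
  rw [this, w_u_w, ← w_eq', w_mul_w]

/-- the key computation: `u₁ a₂(w x4(t) w⁻¹) = t` -/
theorem weyl_val (hq : 4 ≤ Nat.card F) {w : P.L2} (hw : P.H2.p w = Cfsg.Agent.ClassTwo.Sp4Defs.w F) (t : F) :
    P.H2.f.symm 1 * (cx P.E ((w : G) * (P.E.x4 t : G) * (w : G)⁻¹)).a2 = t := by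
  have := charPF C
  set u1 : F := P.H2.f.symm 1 with hu1
  set x : G := (P.E.x6 u1 : G) with hx
  have hxS : x ∈ P.S := (P.E.x6 u1).2
  have hpx : P.H2.p ⟨x, P.H2.le hxS⟩ = u 1 := by
    rw [P.H2.p_S x hxS, P.α2, hx, cx_x6]
    simp [hu1]
  let ψ : F → F := fun t => (cx P.E ((w : G) * (P.E.x4 t : G) * (w : G)⁻¹)).a2
  let e : F → F → G := fun s t => (P.E.x4 s : G) * ((w : G) * (P.E.x4 t : G) * (w : G)⁻¹)
  have hωE : ∀ t, (w : G) * (P.E.x4 t : G) * (w : G)⁻¹ ∈ E2 P.E := fun t =>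
    P.L2_E2 w.2 _ (Z_le_E2 (x4_mem P.E t))
  have heE : ∀ s t, e s t ∈ E2 P.E := fun s t => mul_mem (Z_le_E2 (x4_mem P.E s)) (hωE t)
  have hww : (w : G) * w ∈ Db P.E := by
    have h1 : P.H2.p (w * w) = 1 := by rw [map_mul, hw, w_mul_w]
    exact (P.ker2 _).1 h1
  -- action of `x`
  have hX : ∀ s t, x * e s t * x⁻¹ = e (s + u1 * ψ t) t := by
    intro s t
    have h1 : cm x ((w : G) * (P.E.x4 t : G) * (w : G)⁻¹) ∈ Z P.E := cm_mem_Z (co := P.E) hxS (hωE t)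
    have h2 : (cx P.E (cm x ((w : G) * (P.E.x4 t : G) * (w : G)⁻¹))).a4 = u1 * ψ t := by
      have h3 := hωE t
      rw [a4_cm_F0 hxS h3.1 h3.2.1 h3.2.2.2.1 h3.2.2.2.2, h3.2.2.1, C.T_zero_right, add_zero, hx, cx_x6]
    have h3 := eq_x4 P.E h1
    rw [h2] at h3
    have h4 : x * (P.E.x4 s : G) * x⁻¹ = (P.E.x4 s : G) := PN.S_Z hxS (x4_mem P.E s)
    change x * ((P.E.x4 s : G) * ((w : G) * (P.E.x4 t : G) * (w : G)⁻¹)) * x⁻¹ = _
    have h5 : x * ((P.E.x4 s : G) * ((w : G) * (P.E.x4 t : G) * (w : G)⁻¹)) * x⁻¹ =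
        (x * (P.E.x4 s : G) * x⁻¹) * (cm x ((w : G) * (P.E.x4 t : G) * (w : G)⁻¹) *
          ((w : G) * (P.E.x4 t : G) * (w : G)⁻¹)) := by unfold cm; group
    rw [h5, h4, h3, ← mul_assoc, x4_add]
  have hW : ∀ s t, (w : G) * e s t * (w : G)⁻¹ = e t s := by
    intro s t
    have h1 : (w : G) * w * (P.E.x4 t : G) * ((w : G) * w)⁻¹ = (P.E.x4 t : G) :=
      PN.Db_E2 hww (Z_le_E2 (x4_mem P.E t))
    change (w : G) * ((P.E.x4 s : G) * ((w : G) * (P.E.x4 t : G) * (w : G)⁻¹)) * (w : G)⁻¹ =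
      (P.E.x4 t : G) * ((w : G) * (P.E.x4 s : G) * (w : G)⁻¹)
    rw [E2_comm (Z_le_E2 (x4_mem P.E t)) (hωE s)]
    have h2 : (w : G) * ((P.E.x4 s : G) * ((w : G) * (P.E.x4 t : G) * (w : G)⁻¹)) * (w : G)⁻¹ =
      (w : G) * (P.E.x4 s : G) * (w : G)⁻¹ * ((w : G) * w * (P.E.x4 t : G) * ((w : G) * w)⁻¹) := by group
    rw [h2, h1]
  have hXW : ∀ s t, (x * w) * e s t * (x * w)⁻¹ = e (t + u1 * ψ s) s := by
    intro s t
    have h1 : (x * w) * e s t * (x * w)⁻¹ = x * ((w : G) * e s t * (w : G)⁻¹) * x⁻¹ := by group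
    rw [h1, hW, hX]
  have hinj : ∀ s t s' t', e s t = e s' t' → s = s' ∧ t = t' := by
    intro s t s' t' h
    change (P.E.x4 s : G) * ((w : G) * (P.E.x4 t : G) * (w : G)⁻¹) =
      (P.E.x4 s' : G) * ((w : G) * (P.E.x4 t' : G) * (w : G)⁻¹) at h
    have h1 : (w : G) * ((P.E.x4 t' : G) * (P.E.x4 t : G)⁻¹) * (w : G)⁻¹ = (P.E.x4 s' : G)⁻¹ * (P.E.x4 s : G) := by
      have h2 : (P.E.x4 s' : G)⁻¹ * ((P.E.x4 s : G) * ((w : G) * (P.E.x4 t : G) * (w : G)⁻¹)) =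
        (w : G) * (P.E.x4 t' : G) * (w : G)⁻¹ := by rw [h]; group
      have h3 : (w : G) * ((P.E.x4 t' : G) * (P.E.x4 t : G)⁻¹) * (w : G)⁻¹ =
        ((w : G) * (P.E.x4 t' : G) * (w : G)⁻¹) * ((w : G) * (P.E.x4 t : G) * (w : G)⁻¹)⁻¹ := by group
      rw [h3, ← h2]; group
    have h2 := PN.weyl_disj hq hw (mul_mem (x4_mem P.E t') (inv_mem (x4_mem P.E t)))
      (by rw [h1]; exact mul_mem (inv_mem (x4_mem P.E s')) (x4_mem P.E s))
    rw [mul_inv_eq_one] at h2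
    have h3 := congrArg (fun g => (cx P.E g).a4) h2
    simp only [cx_x4] at h3
    rw [h2] at h
    have h4 := congrArg (fun g => (cx P.E g).a4) (mul_right_cancel h)
    simp only [cx_x4] at h4
    exact ⟨h4, h3.symm⟩
  have hcube : ∀ y ∈ E2 P.E, (x * w) * ((x * w) * ((x * w) * y * (x * w)⁻¹) * (x * w)⁻¹) * (x * w)⁻¹ = y := by
    intro y hy
    have h1 : P.H2.p ((⟨x, P.H2.le hxS⟩ * w) * (⟨x, P.H2.le hxS⟩ * w) * (⟨x, P.H2.le hxS⟩ * w)) = 1 := by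
      simp only [map_mul, hpx, hw]
      exact uw_cube
    have h2 : (x * w) * (x * w) * (x * w) ∈ Db P.E := (P.ker2 _).1 h1
    have h3 := PN.Db_E2 h2 hy
    calc (x * w) * ((x * w) * ((x * w) * y * (x * w)⁻¹) * (x * w)⁻¹) * (x * w)⁻¹
        = ((x * w) * (x * w) * (x * w)) * y * ((x * w) * (x * w) * (x * w))⁻¹ := by group
      _ = y := h3
  have h1 := hcube _ (heE t 0)
  rw [hXW, hXW, hXW] at h1
  obtain ⟨h2, h3⟩ := hinj _ _ _ _ h1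
  have hψ0 : ψ 0 = 0 := by
    have h4 : (P.E.x4 0 : G) = 1 := by
      have h5 := x4_add P.E (0 : F) 0
      rw [add_zero] at h5
      simpa using h5
    change (cx P.E ((w : G) * (P.E.x4 0 : G) * (w : G)⁻¹)).a2 = 0
    rw [h4]
    have h5 : (w : G) * 1 * (w : G)⁻¹ = 1 := by group
    rw [h5, cx_one]
  rw [h3, hψ0, mul_zero, add_zero, zero_add] at h2
  exact h2

theorem map_S6 {g : G} (hg : g ∈ P.S) : ∀ y ∈ (pc6 P.E).M, g * y * g⁻¹ * y⁻¹ ∈ (pc6 P.E).N :=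
  fun y hy => RR_le_Db (cm_mem_RR (co := P.E) hg hy)

theorem map_S1 {g : G} (hg : g ∈ P.S) : ∀ y ∈ (pc1 P.E).M, g * y * g⁻¹ * y⁻¹ ∈ (pc1 P.E).N :=
  fun y hy => RR_le_Da (cm_mem_RR (co := P.E) hg hy)

theorem map_S2 {g : G} (hg : g ∈ P.S) : ∀ y ∈ (pc2 P.E).M, g * y * g⁻¹ * y⁻¹ ∈ (pc2 P.E).N :=
  fun y hy => PN.S_E2 hg hy

/-- `c₂² c₆ = 1` -/
theorem c2_c6 (hq : 4 ≤ Nat.card F) (b : P.L2) (hb : Pres (b : G) P.S) :
    (pc2 P.E).map (b : G) 1 ^ 2 * (pc6 P.E).map (b : G) 1 = 1 := by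
  obtain ⟨s, a, hsa⟩ := P.H2.lower hb
  obtain ⟨g, hg⟩ := P.H2.surj (u s)
  have hgS : (g : G) ∈ P.S := (P.H2.mem_S hg).1
  set b0 : P.L2 := g⁻¹ * b with hb0
  have hpb0 : P.H2.p b0 = d a := by rw [hb0, map_mul, map_inv, hg, hsa]; group
  have hb0S : Pres (b0 : G) P.S := (pres_of_mem (inv_mem hgS)).mul hb
  have hbb : (b : G) = g * b0 := by
    change (b : G) = g * ((g : G)⁻¹ * b); group
  have e2 : (pc2 P.E).map (b : G) 1 = (pc2 P.E).map (b0 : G) 1 := by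
    rw [hbb]; exact Pc.map_mul_left (X := pc2 P.E) (P.L2_E2 b0.2) (map_S2 hgS) 1
  have e6 : (pc6 P.E).map (b : G) 1 = (pc6 P.E).map (b0 : G) 1 := by
    rw [hbb]; exact Pc.map_mul_left (X := pc6 P.E) hb0S (map_S6 hgS) 1
  rw [e2, e6]
  obtain ⟨w, hw⟩ := P.H2.surj (Cfsg.Agent.ClassTwo.Sp4Defs.w F)
  set b' : P.L2 := w * b0 * w⁻¹ with hb'
  have hb'p : P.H2.p b' = u 0 * d a⁻¹ := by
    rw [hb', map_mul, map_mul, map_inv, hw, hpb0, w_conj_d, d_inv, u_zero, one_mul]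
  have hb'S : Pres (b' : G) P.S := fun g hg => (P.H2.bor_conj hb'p hg).1
  have hZ0 := pres_Z (P.n2 b0 b0.2 hb0S).1
  have hZ' := pres_Z (P.n2 b' b'.2 hb'S).1
  set u1 : F := P.H2.f.symm 1 with hu1
  -- `c₂(b') = c₂(b₀) c₆(b₀)`
  have h1 : (pc2 P.E).map (b' : G) 1 = (pc6 P.E).map (b0 : G) 1 * (pc2 P.E).map (b0 : G) 1 := by
    have hz := x4_mem P.E (1 : F)
    have hy : (w : G) * (P.E.x4 1 : G) * (w : G)⁻¹ ∈ E2 P.E := P.L2_E2 w.2 _ (Z_le_E2 hz)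
    have h2 := Pc.map_spec (X := pc2 P.E) (P.L2_E2 b'.2) hZ' hy
    change (cx P.E _).a2 = (pc2 P.E).map b' (cx P.E _).a2 at h2
    have h3 : (b' : G) * ((w : G) * (P.E.x4 1 : G) * (w : G)⁻¹) * (b' : G)⁻¹ =
        (w : G) * ((b0 : G) * (P.E.x4 1 : G) * (b0 : G)⁻¹) * (w : G)⁻¹ := by
      have h4 : (b' : G) = w * b0 * (w : G)⁻¹ := rfl
      rw [h4]; group
    have h4 : (b0 : G) * (P.E.x4 1 : G) * (b0 : G)⁻¹ =
        (P.E.x4 ((pc6 P.E).map (b0 : G) 1 * (pc2 P.E).map (b0 : G) 1) : G) := by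
      have h5 := hZ0 _ hz
      rw [eq_x4 P.E h5]
      congr 2
      have h6 : (cx P.E ((b0 : G) * (P.E.x4 1 : G) * (b0 : G)⁻¹)).a4 = (pc4 P.E).map (b0 : G) 1 := rfl
      rw [h6, PN.lin4 b0 hb0S, mul_one]
    rw [h3, h4, PN.lin2 b' hb'S] at h2
    have h5 := weyl_val hq hw ((pc6 P.E).map (b0 : G) 1 * (pc2 P.E).map (b0 : G) 1)
    have h6 := weyl_val hq hw (1 : F)
    rw [h2] at h5
    linear_combination h5 - (pc2 P.E).map (b' : G) 1 * h6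
  have h2 : (pc2 P.E).map (b' : G) 1 * (pc2 P.E).map (b0 : G) 1 = 1 := by
    have h3 : P.H2.p (b' * b0) = 1 := by
      rw [map_mul, hb'p, hpb0, u_zero, one_mul, d_mul, inv_mul_cancel, d_one]
    have h4 : (b' : G) * b0 ∈ Db P.E := (P.ker2 _).1 h3
    have h5 := Pc.map_of_comm (X := pc2 P.E) (b := (b' : G) * b0) (fun y hy => by
      rw [PN.Db_E2 h4 hy, mul_inv_cancel]; exact one_mem _) 1
    rw [Pc.map_mul (X := pc2 P.E) (P.L2_E2 b'.2) hZ' (P.L2_E2 b0.2), PN.lin2 b' hb'S] at h5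
    exact h5
  rw [h1] at h2
  linear_combination h2

/-- the action of the second Borel subgroup on the sections `6`, `2`, `4` -/
theorem exists_lam (hq : 4 ≤ Nat.card F) (b : P.L2) (hb : Pres (b : G) P.S) :
    ∃ l : Fˣ, (∀ t, (pc6 P.E).map (b : G) t = (l : F) ^ 2 * t) ∧
      (∀ t, (pc2 P.E).map (b : G) t = ((l⁻¹ : Fˣ) : F) * t) ∧ ∀ t, (pc4 P.E).map (b : G) t = (l : F) * t := by
  have h1 := c2_c6 hq b hb
  have hc := PN.c2 b hb
  refine ⟨(Units.mk0 _ hc)⁻¹, fun t => ?_, fun t => ?_, fun t => ?_⟩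
  · rw [PN.lin6 b hb]
    rw [Units.val_inv_eq_inv_val, Units.val_mk0]
    field_simp
    linear_combination t * h1
  · rw [inv_inv, PN.lin2 b hb, Units.val_mk0]
  · rw [PN.lin4 b hb, Units.val_inv_eq_inv_val, Units.val_mk0]
    field_simp
    linear_combination t * h1

/-- all `λ` occur -/
theorem exists_of_lam (l : Fˣ) : ∃ b : P.L2, Pres (b : G) P.S ∧ (pc6 P.E).map (b : G) 1 = (l : F) ^ 2 := by
  have := charPF C
  have hf1 : P.H2.f 1 ≠ 0 := by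
    intro h; exact one_ne_zero (P.H2.f.injective (h.trans (map_zero _).symm))
  have hfl : P.H2.f ((l : F) ^ 2) ≠ 0 := by
    intro h
    exact pow_ne_zero 2 l.ne_zero (P.H2.f.injective (h.trans (map_zero _).symm))
  obtain ⟨a, ha⟩ := exists_sq_eq _ (div_ne_zero hfl hf1)
  obtain ⟨b, hb⟩ := P.H2.surj (d a)
  have hb0 : P.H2.p b = u 0 * d a := by rw [hb, u_zero, one_mul]
  refine ⟨b, fun g hg => (P.H2.bor_conj hb0 hg).1, ?_⟩
  apply P.H2.f.injective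
  rw [P.act6 hb0, ha]
  field_simp

end Cfsg.Agent.HexRec.TorY
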