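import Cfsg.Agent.HexRec.Par

/-!
# The Weyl element of the first parabolic subgroup
-/

set_option autoImplicit false

namespace Cfsg.Agent.HexRec

open Matrix
open Cfsg.Agent.ClassTwo.Sp4Defs Cfsg.Agent.ClassTwo.Sp4SL2

theorem eq_w_of {k : Type*} [Field k] [CharP k 2] {v : SpecialLinearGroup (Fin 2) k} {a : kˣ} (ha : a ≠ 1)
    (h1 : v * d a * v⁻¹ = (d a)⁻¹) (h2 : (v * u 1) ^ 3 = 1) : v = w k := by
  have h1' : v * d a = (d a)⁻¹ * v := by rw [← h1]; group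
  have hdet := det_eq v
  rw [d_inv] at h1'
  obtain ⟨e1, -, -, e4⟩ := ext_iff.1 h1'
  simp [Matrix.mul_apply, Fin.sum_univ_two] at e1 e4
  have ha' : (a : k) ≠ 1 := fun h => ha (Units.ext (by simpa using h))
  have hsq := sq_ne_one ha'
  have ha0 : (a : k) ≠ 0 := a.ne_zero
  have v00 : v.1 0 0 = 0 := by
    have : v.1 0 0 * ((a : k) ^ 2 - 1) = 0 := by
      field_simp at e1
      linear_combination e1
    rcases mul_eq_zero.1 this with h | h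
    · exact h
    · exact absurd h hsq
  have v11 : v.1 1 1 = 0 := by
    have : v.1 1 1 * ((a : k) ^ 2 - 1) = 0 := by
      field_simp at e4
      linear_combination -e4
    rcases mul_eq_zero.1 this with h | h
    · exact h
    · exact absurd h hsq
  rw [v00, zero_mul, zero_sub, CharTwo.neg_eq] at hdet
  have h3 := (ext_iff.1 h2).1
  rw [pow_succ, pow_two] at h3
  simp [Matrix.mul_apply, Fin.sum_univ_two, v00, v11] at h3
  have hc : v.1 1 0 = 1 := by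
    have : v.1 1 0 * (v.1 0 1 * v.1 1 0) = 1 := by linear_combination h3
    rwa [hdet, mul_one] at this
  have hb : v.1 0 1 = 1 := by rwa [hc, mul_one] at hdet
  rw [Cfsg.Agent.ClassTwo.Sp4SL2.ext_iff]
  simp [v00, v11, hc, hb, CharTwo.neg_eq]

theorem w_mul_u_pow (k : Type*) [Field k] [CharP k 2] : (w k * u 1) ^ 3 = 1 := by
  rw [pow_succ, pow_two, Cfsg.Agent.ClassTwo.Sp4SL2.ext_iff]
  have h2 : (1 : k) + 1 = 0 := CharTwo.add_self_eq_zero 1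
  simp [Matrix.mul_apply, Fin.sum_univ_two, CharTwo.neg_eq, h2]

namespace Par

variable {F K : Type*} [Field F] [Field K] [Algebra F K] {C : Cubic F K} {G : Type*} [Group G] (P : Par C G)

/-- `{a1 = 0}` as a subgroup of `G` -/
def Q1 : Subgroup G := P.p1.ker.map P.L1.subtype

/-- `{a6 = 0}` as a subgroup of `G` -/
def Q2 : Subgroup G := P.p2.ker.map P.L2.subtype

theorem mem_Q1 {x : G} : x ∈ P.Q1 ↔ ∃ s : P.S, (s : G) = x ∧ (P.E.e s).a1 = 0 := by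
  constructor
  · rintro ⟨y, hy, rfl⟩
    exact (P.p1_ker y).1 hy
  · rintro ⟨s, rfl, hs⟩
    exact ⟨⟨s, P.S_le1 s.2⟩, (P.p1_ker _).2 ⟨s, rfl, hs⟩, rfl⟩

theorem mem_Q2 {x : G} : x ∈ P.Q2 ↔ ∃ s : P.S, (s : G) = x ∧ (P.E.e s).a6 = 0 := by
  constructor
  · rintro ⟨y, hy, rfl⟩
    exact (P.p2_ker y).1 hy
  · rintro ⟨s, rfl, hs⟩
    exact ⟨⟨s, P.S_le2 s.2⟩, (P.p2_ker _).2 ⟨s, rfl, hs⟩, rfl⟩

theorem mem_Q1_of (g : P.L1) (h : P.p1 g = 1) : (g : G) ∈ P.Q1 := ⟨g, h, rfl⟩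
theorem mem_Q2_of (g : P.L2) (h : P.p2 g = 1) : (g : G) ∈ P.Q2 := ⟨g, h, rfl⟩

theorem mem_Q1_iff (g : P.L1) : (g : G) ∈ P.Q1 ↔ P.p1 g = 1 := by
  constructor
  · rintro ⟨y, hy, h⟩
    have : y = g := Subtype.ext h
    rw [← this]; exact hy
  · exact P.mem_Q1_of g

theorem mem_Q2_iff (g : P.L2) : (g : G) ∈ P.Q2 ↔ P.p2 g = 1 := by
  constructor
  · rintro ⟨y, hy, h⟩
    have : y = g := Subtype.ext h
    rw [← this]; exact hy
  · exact P.mem_Q2_of g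

theorem Q1_le_S : P.Q1 ≤ P.S := by
  intro x hx
  obtain ⟨s, rfl, -⟩ := P.mem_Q1.1 hx
  exact s.2

theorem Q2_le_S : P.Q2 ≤ P.S := by
  intro x hx
  obtain ⟨s, rfl, -⟩ := P.mem_Q2.1 hx
  exact s.2

theorem Q1_le : P.Q1 ≤ P.L1 := P.Q1_le_S.trans P.S_le1
theorem Q2_le : P.Q2 ≤ P.L2 := P.Q2_le_S.trans P.S_le2

theorem L1_Q1 {g : G} (hg : g ∈ P.L1) {q : G} (hq : q ∈ P.Q1) : g * q * g⁻¹ ∈ P.Q1 := by
  have h1 := (P.mem_Q1_iff ⟨q, P.Q1_le hq⟩).1 hq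
  have := P.mem_Q1_of (⟨g, hg⟩ * ⟨q, P.Q1_le hq⟩ * ⟨g, hg⟩⁻¹) (by
    rw [map_mul, map_mul, h1, mul_one, ← map_mul, mul_inv_cancel, map_one])
  exact this

theorem L2_Q2 {g : G} (hg : g ∈ P.L2) {q : G} (hq : q ∈ P.Q2) : g * q * g⁻¹ ∈ P.Q2 := by
  have h1 := (P.mem_Q2_iff ⟨q, P.Q2_le hq⟩).1 hq
  have := P.mem_Q2_of (⟨g, hg⟩ * ⟨q, P.Q2_le hq⟩ * ⟨g, hg⟩⁻¹) (by
    rw [map_mul, map_mul, h1, mul_one, ← map_mul, mul_inv_cancel, map_one])
  exact this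

theorem h_Q1 (p : Kˣ × Fˣ) {q : G} (hq : q ∈ P.Q1) : P.h p * q * (P.h p)⁻¹ ∈ P.Q1 := by
  obtain ⟨s, rfl, hs⟩ := P.mem_Q1.1 hq
  refine P.mem_Q1.2 ⟨P.toTorus.cj p s, rfl, ?_⟩
  rw [P.toTorus.e_cj]; simp [hs]

theorem h_Q2 (p : Kˣ × Fˣ) {q : G} (hq : q ∈ P.Q2) : P.h p * q * (P.h p)⁻¹ ∈ P.Q2 := by
  obtain ⟨s, rfl, hs⟩ := P.mem_Q2.1 hq
  refine P.mem_Q2.2 ⟨P.toTorus.cj p s, rfl, ?_⟩
  rw [P.toTorus.e_cj]; simp [hs]

theorem isPGroup_S [Finite F] [Finite K] : IsPGroup 2 P.S := by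
  obtain ⟨n, hn⟩ := P.E.card_eq
  exact IsPGroup.of_card hn

theorem isPGroup_Q1 [Finite F] [Finite K] : IsPGroup 2 P.Q1 := P.isPGroup_S.to_le P.Q1_le_S
theorem isPGroup_Q2 [Finite F] [Finite K] : IsPGroup 2 P.Q2 := P.isPGroup_S.to_le P.Q2_le_S

/-- the torus as a subgroup -/
def H : Subgroup G := P.h.range

theorem odd_H [Finite F] [Finite K] : Odd (Nat.card P.H) := by
  obtain ⟨n, hn, hF⟩ := C.card_F
  obtain ⟨m, hm, hK⟩ := C.card_K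
  have h1 : Nat.card P.H = Nat.card (Kˣ × Fˣ) :=
    Nat.card_congr (MonoidHom.ofInjective P.h_inj).symm.toEquiv
  rw [h1, Nat.card_prod]
  exact (odd_card_units K m hm hK).mul (odd_card_units F n hn hF)

theorem eq_of_mul_mem_S [Finite F] [Finite K] {p q : Kˣ × Fˣ} (h : (P.h q)⁻¹ * P.h p ∈ P.S) : p = q := by
  rw [← map_inv, ← map_mul] at h
  have := P.toTorus.eq_one_of_mem _ h
  exact (inv_mul_eq_one.1 this).symm

/-- conjugation by a torus element on `L1` -/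
def c1 (p : Kˣ × Fˣ) : P.L1 →* P.L1 where
  toFun g := ⟨P.h p * (g : G) * (P.h p)⁻¹, P.h_L1 p g g.2⟩
  map_one' := by apply Subtype.ext; simp
  map_mul' a b := by apply Subtype.ext; simp

/-- conjugation by a torus element on `L2` -/
def c2 (p : Kˣ × Fˣ) : P.L2 →* P.L2 where
  toFun g := ⟨P.h p * (g : G) * (P.h p)⁻¹, P.h_L2 p g g.2⟩
  map_one' := by apply Subtype.ext; simp
  map_mul' a b := by apply Subtype.ext; simp

theorem c1_coe (p : Kˣ × Fˣ) (g : P.L1) : (P.c1 p g : G) = P.h p * (g : G) * (P.h p)⁻¹ := rfl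
theorem c2_coe (p : Kˣ × Fˣ) (g : P.L2) : (P.c2 p g : G) = P.h p * (g : G) * (P.h p)⁻¹ := rfl

theorem p1_c1 (p : Kˣ × Fˣ) {g : P.L1} (h : P.p1 g = 1) : P.p1 (P.c1 p g) = 1 := by
  rw [← mem_Q1_iff] at h ⊢
  exact P.h_Q1 p h

theorem p2_c2 (p : Kˣ × Fˣ) {g : P.L2} (h : P.p2 g = 1) : P.p2 (P.c2 p g) = 1 := by
  rw [← mem_Q2_iff] at h ⊢
  exact P.h_Q2 p h

/-- root element in `L1` -/
def X1 (t : K) : P.L1 := ⟨P.E.x1 t, P.S_le1 (P.E.x1 t).2⟩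
/-- root element in `L2` -/
def X6 (t : F) : P.L2 := ⟨P.E.x6 t, P.S_le2 (P.E.x6 t).2⟩
/-- torus element in `L1` -/
def T1 (a : Kˣ) : P.L1 := ⟨P.h (a ^ 2, (C.Nu a)⁻¹), P.ha_mem a⟩
/-- torus element in `L2` -/
def T2 (m : Fˣ) : P.L2 := ⟨P.h (emb F K m⁻¹, m ^ 2), P.hb_mem m⟩

theorem p1_X1 (t : K) : P.p1 (P.X1 t) = u t := P.p1_x1 t _ rfl
theorem p2_X6 (t : F) : P.p2 (P.X6 t) = u t := P.p2_x6 t _ rfl
theorem p1_T1 (a : Kˣ) : P.p1 (P.T1 a) = d a := P.p1_h a _ rfl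
theorem p2_T2 (m : Fˣ) : P.p2 (P.T2 m) = d m := P.p2_h m _ rfl

theorem c1_T1 (p : Kˣ × Fˣ) (a : Kˣ) : P.c1 p (P.T1 a) = P.T1 a := by
  apply Subtype.ext
  rw [c1_coe]
  change P.h p * P.h _ * (P.h p)⁻¹ = P.h _
  rw [P.toTorus.h_comm]; group

theorem c2_T2 (p : Kˣ × Fˣ) (m : Fˣ) : P.c2 p (P.T2 m) = P.T2 m := by
  apply Subtype.ext
  rw [c2_coe]
  change P.h p * P.h _ * (P.h p)⁻¹ = P.h _
  rw [P.toTorus.h_comm]; group

theorem c1_X1 (a : Kˣ) (m : Fˣ) (t : K) : P.c1 (a, m) (P.X1 t) = P.X1 (a * t) :=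
  Subtype.ext (P.conj1 a m t)

theorem c2_X6 (a : Kˣ) (m : Fˣ) (t : F) : P.c2 (a, m) (P.X6 t) = P.X6 (m * t) :=
  Subtype.ext (P.conj6 a m t)

/-- the torus elements centralising `x1` centralise a preimage of the Weyl element modulo `Q1` -/
theorem p1_c1_w (hF : ∃ m : Fˣ, m ≠ 1) {w0 : P.L1} (hw0 : P.p1 w0 = w K) (m : Fˣ) :
    P.p1 (P.c1 (1, m) w0) = w K := by
  have : CharP K 2 := C.charP_K
  obtain ⟨m0, hm0⟩ := hF
  have ha : emb F K m0 ≠ 1 := by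
    intro h
    apply hm0
    apply Units.map_injective (algebraMap F K).injective
    rw [map_one]; exact h
  apply eq_w_of ha
  · have h1 : P.p1 (w0 * P.T1 (emb F K m0) * w0⁻¹ * P.T1 (emb F K m0)) = 1 := by
      rw [map_mul, map_mul, map_mul, map_inv, hw0, p1_T1, w_conj_d, inv_mul_cancel]
    have h2 := P.p1_c1 (1, m) h1
    simp only [map_mul, map_inv, c1_T1, p1_T1] at h2
    exact eq_inv_of_mul_eq_one_left h2
  · have h1 : P.p1 ((w0 * P.X1 1) ^ 3) = 1 := by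
      rw [map_pow, map_mul, hw0, p1_X1]; exact w_mul_u_pow K
    have h2 := P.p1_c1 (1, m) h1
    rw [map_pow, map_mul, c1_X1, map_pow, map_mul, p1_X1] at h2
    simpa using h2

/-- the torus elements centralising `x6` centralise a preimage of the Weyl element modulo `Q2` -/
theorem p2_c2_w (hF : ∃ m : Fˣ, m ≠ 1) {w0 : P.L2} (hw0 : P.p2 w0 = w F) (a : Kˣ) :
    P.p2 (P.c2 (a, 1) w0) = w F := by
  have : CharP F 2 := C.charP_F
  obtain ⟨m0, hm0⟩ := hF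
  apply eq_w_of hm0
  · have h1 : P.p2 (w0 * P.T2 m0 * w0⁻¹ * P.T2 m0) = 1 := by
      rw [map_mul, map_mul, map_mul, map_inv, hw0, p2_T2, w_conj_d, inv_mul_cancel]
    have h2 := P.p2_c2 (a, 1) h1
    simp only [map_mul, map_inv, c2_T2, p2_T2] at h2
    exact eq_inv_of_mul_eq_one_left h2
  · have h1 : P.p2 ((w0 * P.X6 1) ^ 3) = 1 := by
      rw [map_pow, map_mul, hw0, p2_X6]; exact w_mul_u_pow F
    have h2 := P.p2_c2 (a, 1) h1
    rw [map_pow, map_mul, c2_X6, map_pow, map_mul, p2_X6] at h2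
    simpa using h2

theorem mem_Q1_pow {g : G} (hg : g ∈ P.Q1) : ∃ s : P.S, (s : G) = g ∧ (P.E.e s).a1 = 0 := P.mem_Q1.1 hg

/-- a preimage of the Weyl element acts on the torus modulo `Q1` as the reflection -/
theorem w_conj_h1 (hF : ∃ m : Fˣ, m ≠ 1) [Finite K] {w0 : P.L1} (hw0 : P.p1 w0 = w K) (a : Kˣ) (m : Fˣ) :
    ∃ q ∈ P.Q1, (w0 : G) * P.h (a, m) * (w0 : G)⁻¹ = P.h (a⁻¹, C.Nu a * m) * q := by
  have : CharP K 2 := C.charP_K
  obtain ⟨b, rfl⟩ := Cubic.exists_sqrt_unit K a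
  -- first factor
  have k1 : P.p1 ((P.T1 b) * (w0 * P.T1 b * w0⁻¹)) = 1 := by
    rw [map_mul, map_mul, map_mul, map_inv, hw0, p1_T1, w_conj_d, mul_inv_cancel]
  have q1 := P.mem_Q1_of _ k1
  -- second factor
  set m' : Fˣ := C.Nu b * m with hm'
  have k2 : P.p1 (w0⁻¹ * P.c1 (1, m')⁻¹ w0) = 1 := by
    rw [map_mul, map_inv, hw0]
    have := P.p1_c1_w hF hw0 m'⁻¹
    rw [← this]
    rw [Prod.inv_mk, inv_one, inv_mul_cancel]
  have q2 := P.mem_Q1_of _ k2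
  have hp : ((b ^ 2, m) : Kˣ × Fˣ) = (b ^ 2, (C.Nu b)⁻¹) * (1, m') := by
    rw [Prod.mk_mul_mk, mul_one, hm', inv_mul_cancel_left]
  have hp' : (((b ^ 2)⁻¹, C.Nu (b ^ 2) * m) : Kˣ × Fˣ) = (b ^ 2, (C.Nu b)⁻¹)⁻¹ * (1, m') := by
    rw [Prod.inv_mk, Prod.mk_mul_mk, mul_one, inv_inv, hm', map_pow, pow_two (C.Nu b), mul_assoc]
  set A : G := P.h (b ^ 2, (C.Nu b)⁻¹) with hA
  set D : G := P.h (1, m') with hD
  have q1' : A * ((w0 : G) * A * (w0 : G)⁻¹) ∈ P.Q1 := q1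
  have q2' : (w0 : G)⁻¹ * (D⁻¹ * (w0 : G) * D) ∈ P.Q1 := by
    have e : ((w0⁻¹ * P.c1 (1, m')⁻¹ w0 : P.L1) : G) = (w0 : G)⁻¹ * (D⁻¹ * (w0 : G) * D) := by
      change (w0 : G)⁻¹ * (P.h (1, m')⁻¹ * (w0 : G) * (P.h (1, m')⁻¹)⁻¹) = _
      rw [map_inv, inv_inv]
    rw [← e]; exact q2
  have q2'' := P.L1_Q1 w0.2 q2'
  have q1'' := P.h_Q1 (1, m')⁻¹ q1'
  rw [map_inv, inv_inv, ← hD] at q1''
  refine ⟨_, mul_mem q1'' q2'', ?_⟩
  rw [hp, hp', map_mul, map_mul, map_inv, ← hA, ← hD]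
  group

/-- a preimage of the Weyl element acts on the torus modulo `Q2` as the reflection -/
theorem w_conj_h2 (hF : ∃ m : Fˣ, m ≠ 1) [Finite F] {w0 : P.L2} (hw0 : P.p2 w0 = w F) (a : Kˣ) (m : Fˣ) :
    ∃ q ∈ P.Q2, (w0 : G) * P.h (a, m) * (w0 : G)⁻¹ = P.h (a * emb F K m, m⁻¹) * q := by
  have : CharP F 2 := C.charP_F
  obtain ⟨b, rfl⟩ := Cubic.exists_sqrt_unit F m
  -- first factor
  have k1 : P.p2 ((P.T2 b) * (w0 * P.T2 b * w0⁻¹)) = 1 := by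
    rw [map_mul, map_mul, map_mul, map_inv, hw0, p2_T2, w_conj_d, mul_inv_cancel]
  have q1 := P.mem_Q2_of _ k1
  -- second factor
  set a' : Kˣ := a * emb F K b with ha'
  have k2 : P.p2 (w0⁻¹ * P.c2 (a', 1)⁻¹ w0) = 1 := by
    rw [map_mul, map_inv, hw0]
    have := P.p2_c2_w hF hw0 a'⁻¹
    rw [← this]
    rw [Prod.inv_mk, inv_one, inv_mul_cancel]
  have q2 := P.mem_Q2_of _ k2
  have hp : ((a, b ^ 2) : Kˣ × Fˣ) = (emb F K b⁻¹, b ^ 2) * (a', 1) := by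
    rw [Prod.mk_mul_mk, mul_one, ha', map_inv, mul_comm a, inv_mul_cancel_left]
  have hp' : ((a * emb F K (b ^ 2), (b ^ 2)⁻¹) : Kˣ × Fˣ) = (emb F K b⁻¹, b ^ 2)⁻¹ * (a', 1) := by
    rw [Prod.inv_mk, Prod.mk_mul_mk, mul_one, map_inv, inv_inv, ha', map_pow, pow_two, mul_left_comm]
  set A : G := P.h (emb F K b⁻¹, b ^ 2) with hA
  set D : G := P.h (a', 1) with hD
  have q1' : A * ((w0 : G) * A * (w0 : G)⁻¹) ∈ P.Q2 := q1
  have q2' : (w0 : G)⁻¹ * (D⁻¹ * (w0 : G) * D) ∈ P.Q2 := by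
    have e : ((w0⁻¹ * P.c2 (a', 1)⁻¹ w0 : P.L2) : G) = (w0 : G)⁻¹ * (D⁻¹ * (w0 : G) * D) := by
      change (w0 : G)⁻¹ * (P.h (a', 1)⁻¹ * (w0 : G) * (P.h (a', 1)⁻¹)⁻¹) = _
      rw [map_inv, inv_inv]
    rw [← e]; exact q2
  have q2'' := P.L2_Q2 w0.2 q2'
  have q1'' := P.h_Q2 (a', 1)⁻¹ q1'
  rw [map_inv, inv_inv, ← hD] at q1''
  refine ⟨_, mul_mem q1'' q2'', ?_⟩
  rw [hp, hp', MonoidHom.map_mul P.h, MonoidHom.map_mul P.h, MonoidHom.map_inv P.h, ← hA, ← hD]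
  group

theorem emb_ne_one {m : Fˣ} (hm : m ≠ 1) : emb F K m ≠ 1 := by
  intro h
  apply hm
  apply Units.map_injective (algebraMap F K).injective
  rw [map_one]; exact h

theorem fix_eq_zero {k : Type*} [Field k] {c t : k} (hc : c ≠ 1) (h : c * t = t) : t = 0 := by
  have : (c - 1) * t = 0 := by linear_combination h
  rcases mul_eq_zero.1 this with h | h
  · exact absurd (sub_eq_zero.1 h) hc
  · exact h

omit [Group G] in
theorem unit_facts (C : Cubic F K) {m : Fˣ} (hm : m ≠ 1) : (m : F) ≠ 1 ∧ algebraMap F K m ≠ 1 ∧ (m : F) ^ 2 ≠ 1 := by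
  have hm' : (m : F) ≠ 1 := fun h => hm (Units.ext (by simpa using h))
  refine ⟨hm', ?_, ?_⟩
  · intro h; apply hm'; apply (algebraMap F K).injective; rw [h, map_one]
  · intro h
    have h4 : ((m : F) + 1) * ((m : F) + 1) = 0 := by
      linear_combination h + ((m : F) + 1) * C.two_F
    have h5 : (m : F) + 1 = 0 := by simpa using h4
    exact hm' (C.eq_of_add_eq_zero h5)

/-- fixed points of `h (1, m)` in `Q1` -/
theorem eq_one_of_cj_a {m : Fˣ} (hm : m ≠ 1) {s : P.S} (h1 : (P.E.e s).a1 = 0)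
    (h : P.toTorus.cj (1, m) s = s) : s = 1 := by
  obtain ⟨hm1, hm2, hm3⟩ := unit_facts C hm
  have e := congrArg P.E.e h
  rw [P.toTorus.e_cj, Tup.ext_iff] at e
  obtain ⟨-, e2, e3, e4, e5, e6⟩ := e
  simp only [Units.val_one, C.N_one, C.sh_one, one_mul] at e2 e3 e4 e5 e6
  apply P.E.ext
  · rw [h1, P.E.one_a1]
  · rw [fix_eq_zero hm1 e2, P.E.one_a2]
  · rw [fix_eq_zero hm2 e3, P.E.one_a3]
  · rw [fix_eq_zero hm3 e4, P.E.one_a4]
  · rw [fix_eq_zero hm2 e5, P.E.one_a5]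
  · rw [fix_eq_zero hm1 e6, P.E.one_a6]

/-- fixed points of `h (a, 1)` -/
theorem zero_of_cj_b {a : Kˣ} (ha : a ≠ 1) {s : P.S} (h : P.toTorus.cj (a, 1) s = s) :
    (P.E.e s).a1 = 0 ∧ (P.E.e s).a3 = 0 ∧ (P.E.e s).a5 = 0 := by
  have ha1 : (a : K) ≠ 1 := fun h => ha (Units.ext (by simpa using h))
  have ha2 : C.sh (a : K) ≠ 1 := fun h => ha1 (C.eq_one_of_sh_eq_one h)
  have e := congrArg P.E.e h
  rw [P.toTorus.e_cj, Tup.ext_iff] at e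
  obtain ⟨e1, -, e3, -, e5, -⟩ := e
  simp only [Units.val_one, map_one, mul_one] at e1 e3 e5
  exact ⟨fix_eq_zero ha1 e1, fix_eq_zero ha2 e3, fix_eq_zero ha1 e5⟩

/-- an element of `S` commuting with the torus is trivial -/
theorem eq_one_of_cj (hF : ∃ m : Fˣ, m ≠ 1) {s : P.S} (h : ∀ p, P.toTorus.cj p s = s) : s = 1 := by
  obtain ⟨m, hm⟩ := hF
  exact P.eq_one_of_cj_a hm (P.zero_of_cj_b (emb_ne_one (K := K) hm) (h _)).1 (h _)

theorem exists_na [Finite G] [Finite F] [Finite K] (hF : ∃ m : Fˣ, m ≠ 1) :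
    ∃ n : P.L1, P.p1 n = w K ∧ (n : G) * n = 1 ∧ ((n : G) * P.E.x1 1) ^ 3 = 1 ∧
      ∀ a m, (n : G) * P.h (a, m) * n = P.h (a⁻¹, C.Nu a * m) := by
  have : CharP K 2 := C.charP_K
  obtain ⟨w0, hw0⟩ := P.p1_surj (w K)
  obtain ⟨q, hq, hqH⟩ := exists_normalizing (w := (w0 : G)) (H := P.H) P.isPGroup_Q1 P.odd_H
    (by rintro _ ⟨p, rfl⟩ q hq; exact P.h_Q1 p hq)
    (by
      rintro _ ⟨⟨a, m⟩, rfl⟩
      obtain ⟨q, hq, h⟩ := P.w_conj_h1 hF hw0 a m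
      exact ⟨_, ⟨_, rfl⟩, q, hq, h⟩)
  set n : P.L1 := ⟨q, P.Q1_le hq⟩ * w0 with hn
  have hnG : (n : G) = q * w0 := rfl
  have hpn : P.p1 n = w K := by
    rw [hn, map_mul, hw0, (P.mem_Q1_iff ⟨q, P.Q1_le hq⟩).1 hq, one_mul]
  have hconj : ∀ a m, (n : G) * P.h (a, m) * (n : G)⁻¹ = P.h (a⁻¹, C.Nu a * m) := by
    intro a m
    obtain ⟨p', hp'⟩ := hqH (P.h (a, m)) ⟨_, rfl⟩
    rw [← hnG] at hp'
    obtain ⟨r, hr, h⟩ := P.w_conj_h1 hF hpn a m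
    rw [h] at hp'
    rw [h]
    have h3 : p' = (a⁻¹, C.Nu a * m) := by
      apply P.eq_of_mul_mem_S
      rw [hp', inv_mul_cancel_left]
      exact P.Q1_le_S hr
    rw [h3] at hp'
    exact hp'.symm
  have hsq : (n : G) * n = 1 := by
    have h1 : P.p1 (n * n) = 1 := by rw [map_mul, hpn, w_mul_w]
    obtain ⟨s, hs, hs1⟩ := (P.p1_ker _).1 h1
    have h2 : s = 1 := by
      apply P.eq_one_of_cj hF
      rintro ⟨a, m⟩
      apply Subtype.ext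
      rw [Torus.cj_coe, hs]
      have h3 := hconj a m
      have h4 := hconj a⁻¹ (C.Nu a * m)
      rw [inv_inv, map_inv, inv_mul_cancel_left, ← h3] at h4
      change P.h (a, m) * ((n : G) * n) * (P.h (a, m))⁻¹ = (n : G) * n
      have h5 : (n : G) * n * P.h (a, m) = P.h (a, m) * ((n : G) * n) := by
        calc (n : G) * n * P.h (a, m) =
            ((n : G) * ((n : G) * P.h (a, m) * (n : G)⁻¹) * (n : G)⁻¹) * ((n : G) * n) := by
              simp only [mul_assoc, inv_mul_cancel_left, inv_mul_cancel, mul_one]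
          _ = _ := by rw [h4]
      rw [← h5, mul_inv_cancel_right]
    rw [h2] at hs
    exact hs.symm
  have hninv : (n : G)⁻¹ = n := inv_eq_of_mul_eq_one_right hsq
  refine ⟨n, hpn, hsq, ?_, fun a m => by rw [← hconj a m, hninv]⟩
  have h1 : P.p1 ((n * P.X1 1) ^ 3) = 1 := by
    rw [map_pow, map_mul, hpn, p1_X1]; exact w_mul_u_pow K
  obtain ⟨s, hs, hs1⟩ := (P.p1_ker _).1 h1
  obtain ⟨m, hm⟩ := hF
  have h2 : s = 1 := by
    apply P.eq_one_of_cj_a hm hs1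
    apply Subtype.ext
    rw [Torus.cj_coe, hs]
    have h3 := hconj 1 m
    rw [inv_one, map_one, one_mul] at h3
    have c1 : Commute (P.h (1, m)) (n : G) := by
      have : (n : G) * P.h (1, m) = P.h (1, m) * n := by rw [← mul_inv_eq_iff_eq_mul]; exact h3
      exact this.symm
    have h4 := P.conj1 1 m 1
    rw [Units.val_one, one_mul] at h4
    have c2 : Commute (P.h (1, m)) (P.E.x1 1 : G) := by
      rw [mul_inv_eq_iff_eq_mul] at h4; exact h4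
    have c3 : Commute (P.h (1, m)) (((n : G) * P.E.x1 1) ^ 3) := (c1.mul_right c2).pow_right 3
    change P.h (1, m) * (((n : G) * P.E.x1 1) ^ 3) * (P.h (1, m))⁻¹ = _
    rw [c3.eq, mul_inv_cancel_right]
    rfl
  rw [h2] at hs
  exact hs.symm

theorem exists_nb [Finite G] [Finite F] [Finite K] (hF : ∃ m : Fˣ, m ≠ 1) :
    ∃ n : P.L2, P.p2 n = w F ∧ (n : G) * n = 1 ∧
      (∃ s : P.S, (s : G) = ((n : G) * P.E.x6 1) ^ 3 ∧ (P.E.e s).a6 = 0 ∧ (P.E.e s).a1 = 0 ∧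
        (P.E.e s).a3 = 0 ∧ (P.E.e s).a5 = 0) ∧
      ∀ a m, (n : G) * P.h (a, m) * n = P.h (a * emb F K m, m⁻¹) := by
  have : CharP F 2 := C.charP_F
  obtain ⟨w0, hw0⟩ := P.p2_surj (w F)
  obtain ⟨q, hq, hqH⟩ := exists_normalizing (w := (w0 : G)) (H := P.H) P.isPGroup_Q2 P.odd_H
    (by rintro _ ⟨p, rfl⟩ q hq; exact P.h_Q2 p hq)
    (by
      rintro _ ⟨⟨a, m⟩, rfl⟩
      obtain ⟨q, hq, h⟩ := P.w_conj_h2 hF hw0 a m
      exact ⟨_, ⟨_, rfl⟩, q, hq, h⟩)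
  set n : P.L2 := ⟨q, P.Q2_le hq⟩ * w0 with hn
  have hnG : (n : G) = q * w0 := rfl
  have hpn : P.p2 n = w F := by
    rw [hn, map_mul, hw0, (P.mem_Q2_iff ⟨q, P.Q2_le hq⟩).1 hq, one_mul]
  have hconj : ∀ a m, (n : G) * P.h (a, m) * (n : G)⁻¹ = P.h (a * emb F K m, m⁻¹) := by
    intro a m
    obtain ⟨p', hp'⟩ := hqH (P.h (a, m)) ⟨_, rfl⟩
    rw [← hnG] at hp'
    obtain ⟨r, hr, h⟩ := P.w_conj_h2 hF hpn a m
    rw [h] at hp'
    rw [h]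
    have h3 : p' = (a * emb F K m, m⁻¹) := by
      apply P.eq_of_mul_mem_S
      rw [hp', inv_mul_cancel_left]
      exact P.Q2_le_S hr
    rw [h3] at hp'
    exact hp'.symm
  have hsq : (n : G) * n = 1 := by
    have h1 : P.p2 (n * n) = 1 := by rw [map_mul, hpn, w_mul_w]
    obtain ⟨s, hs, hs1⟩ := (P.p2_ker _).1 h1
    have h2 : s = 1 := by
      apply P.eq_one_of_cj hF
      rintro ⟨a, m⟩
      apply Subtype.ext
      rw [Torus.cj_coe, hs]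
      have h3 := hconj a m
      have h4 := hconj (a * emb F K m) m⁻¹
      rw [inv_inv, map_inv, mul_inv_cancel_right, ← h3] at h4
      change P.h (a, m) * ((n : G) * n) * (P.h (a, m))⁻¹ = (n : G) * n
      have h5 : (n : G) * n * P.h (a, m) = P.h (a, m) * ((n : G) * n) := by
        calc (n : G) * n * P.h (a, m) =
            ((n : G) * ((n : G) * P.h (a, m) * (n : G)⁻¹) * (n : G)⁻¹) * ((n : G) * n) := by
              simp only [mul_assoc, inv_mul_cancel_left, inv_mul_cancel, mul_one]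
          _ = _ := by rw [h4]
      rw [← h5, mul_inv_cancel_right]
    rw [h2] at hs
    exact hs.symm
  have hninv : (n : G)⁻¹ = n := inv_eq_of_mul_eq_one_right hsq
  refine ⟨n, hpn, hsq, ?_, fun a m => by rw [← hconj a m, hninv]⟩
  have h1 : P.p2 ((n * P.X6 1) ^ 3) = 1 := by
    rw [map_pow, map_mul, hpn, p2_X6]; exact w_mul_u_pow F
  obtain ⟨s, hs, hs1⟩ := (P.p2_ker _).1 h1
  refine ⟨s, hs, hs1, ?_⟩
  obtain ⟨m, hm⟩ := hF
  apply P.zero_of_cj_b (emb_ne_one (K := K) hm)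
  apply Subtype.ext
  rw [Torus.cj_coe, hs]
  have h3 := hconj (emb F K m) 1
  rw [inv_one, map_one, mul_one] at h3
  have c1 : Commute (P.h (emb F K m, 1)) (n : G) := by
    have : (n : G) * P.h (emb F K m, 1) = P.h (emb F K m, 1) * n := by rw [← mul_inv_eq_iff_eq_mul]; exact h3
    exact this.symm
  have h4 := P.conj6 (emb F K m) 1 1
  rw [Units.val_one, one_mul] at h4
  have c2 : Commute (P.h (emb F K m, 1)) (P.E.x6 1 : G) := by
    rw [mul_inv_eq_iff_eq_mul] at h4; exact h4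
  have c3 : Commute (P.h (emb F K m, 1)) (((n : G) * P.E.x6 1) ^ 3) := (c1.mul_right c2).pow_right 3
  change P.h (emb F K m, 1) * (((n : G) * P.E.x6 1) ^ 3) * (P.h (emb F K m, 1))⁻¹ = _
  rw [c3.eq, mul_inv_cancel_right]
  rfl

end Par

end Cfsg.Agent.HexRec
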